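/-
Generated data: a Sylow 3-subgroup of the presented Fi24 and a word of order 42.
-/
import Cfsg.Agent.H2.Fi23Three.Tree

set_option autoImplicit false
set_option maxRecDepth 100000
set_option linter.all false

namespace H49.Order3.Fi24

open H2.Fi23Three (Rules)

/-- the words of the generators -/
def pcWords : List (List ℕ) :=
  [[6,4,7,3,0,1,2,5,0,1,4,6,3,2,0,1,4,9,7,3,2,1,0,5,8,11,10,11,8,5,0,1,2,3,7,9,4,1,0,2,3,6,4,1,0,5,2,1,0,3,7,4,6,11,8,5,0,1,4,6,2,5,0,1,4,9,7,3,2,1,0,5,8,11,10,11,8,5,0,1,2,3,7,9,4,1,0,5,2,6,4,1,0,5,8,11],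
   [6,4,7,3,0,1,2,5,0,1,4,6,3,2,0,1,4,9,7,3,2,1,0,5,8,11,10,11,8,5,0,1,2,3,7,9,4,1,0,2,3,6,4,1,0,5,2,1,0,3,7,4,6,7,3,0,1,2,8,5,0,1,4,6,3,0,1,2,5,0,1,4,7,3,2,1,0,5,11,8,10,11,10,11,10,8,11,5,0,1,2,3,7,4,1,0,5,2,1,0,3,6,4,1,0,5,8,2,1,0,2,11,8,5,0,1,4,6,4,1,2,0,1,4,7,3,2,1,0,5,8,11,10,11,8,5,0,1,2,3,7,4,1,0,2,1,4,6,4,1,0,5,8,11,2,3,7,6,0,1,4,9,7,3,2,1,0,5,8,11,10,11,8,5,0,1,2,3,7,9,4,1,0,6],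
   [2,3,0,1,2,5,0,1,4,6,7,3,0,1,2,5,0,1,4,9,7,3,2,1,0,5,11,8,10,11,10,11,10,8,11,5,0,1,2,3,7,9,4,1,0,5,2,1,0,3,7,4,2,3,1,2,0,1,4,7,3,2,1,0,5,11,8,10,11,10,11,10,8,11,5,0,1,2,3,7,4,1,0,2,1,3,2,4,6,4,1,0,5,2,1,0,3,2,6,0,1,4,9,7,3,2,1,0,5,8,11,10,11,8,5,0,1,2,3,7,9,4,1,0,1,4,0,1,2,5,0,1,4,6,3,2,1,4,9,7,3,2,1,0,5,8,10,11,10,11,10,8,5,0,1,2,3,7,9,4,1,2,3,6,4,1,0,5,2,1,0,4,1,6],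
   [2,1,4,3,0,1,2,11,8,5,0,1,4,6,7,3,2,8,5,0,1,4,9,7,3,2,1,0,5,8,10,11,10,11,10,8,5,0,1,2,3,7,9,4,1,0,5,8,2,3,7,6,4,1,0,5,8,11,5,0,1,4,6,3,2,0,1,4,7,3,2,1,0,5,8,10,11,10,11,10,8,5,0,1,2,3,7,4,1,0,2,3,6,4,1,0,5,2,1,0,3,4,1,2],
   [9,7,3,2,5,0,1,4,6,2,5,0,1,4,3,2,1,0,5,8,11,10,11,8,5,0,1,2,3,4,1,0,5,2,6,4,1,0,5,2,3,7,9,3,2,10,11,8,5,0,1,4,6,2,3,1,2,5,0,1,4,9,7,3,2,1,0,5,8,11,10,11,8,5,0,1,2,3,7,9,4,1,0,5,2,1,3,2,6,4,1,0,5,8,11,10,2,3],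
   [1,4,6,2,1,4,9,7,3,2,1,0,5,8,11,10,11,8,5,0,1,2,3,7,9,4,1,2,6,4,1,6,1,4,3,0,1,2,5,0,1,4,6,3,1,2,5,0,1,4,7,3,2,1,0,5,8,10,11,10,11,10,8,5,0,1,2,3,7,4,1,0,5,2,1,3,6,4,1,0,5,2,1,0,3,4,1,4,1,2,0,1,4,9,7,3,2,1,0,5,11,8,10,11,10,11,10,8,11,5,0,1,2,3,7,9,4,1,0,2,1,7,3,0,1,2,11,8,5,0,1,4,6,7,3,2,5,0,1,4,9,7,3,2,1,0,5,11,8,10,11,10,11,10,8,11,5,0,1,2,3,7,9,4,1,0,5,2,3,7,6,4,1,0,5,8,11,2,1,0,3,7,4,6],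
   [1,2,3,5,0,1,2,8,5,0,1,4,6,1,2,5,0,1,4,9,7,3,2,1,0,5,8,10,11,10,11,10,8,5,0,1,2,3,7,9,4,1,0,5,2,1,6,4,1,0,5,8,2,1,0,5,3,2,1,9,7,3,2,5,0,1,4,6,2,5,0,1,4,3,2,1,0,5,8,11,10,11,8,5,0,1,2,3,4,1,0,5,2,6,4,1,0,5,2,3,7,9],
   [2,8,5,0,1,4,6,2,8,5,0,1,4,9,7,3,2,1,0,5,8,10,11,10,11,10,8,5,0,1,2,3,7,9,4,1,0,5,8,2,6,4,1,0,5,8,2,9,7,3,0,1,2,11,8,5,0,1,4,6,2,3,1,2,5,0,1,4,9,7,3,2,1,0,5,8,10,11,10,11,10,8,5,0,1,2,3,7,9,4,1,0,5,2,1,3,2,6,4,1,0,5,8,11,5,0,1,4,6,1,2,5,0,1,4,9,7,3,2,1,0,5,8,10,11,10,11,10,8,5,0,1,2,3,7,9,4,1,0,5,2,1,6,4,1,0,5,2,1,0,3,7,9,7,3,0,1,2,8,5,0,1,4,6,3,0,1,2,5,0,1,4,7,3,2,1,0,5,11,8,10,11,10,11,10,8,11,5,0,1,2,3,7,4,1,0,5,2,1,0,3,6,4,1,0,5,8,2,1,0,3,7],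
   [11,8,5,0,1,4,6,2,5,0,1,4,9,7,3,2,1,0,5,8,11,10,11,8,5,0,1,2,3,7,9,4,1,0,5,2,6,4,1,0,5,8,11,7,3,2,11,8,5,0,1,4,6,4,1,2,0,1,4,7,3,2,1,0,5,8,11,10,11,8,5,0,1,2,3,7,4,1,0,2,1,4,6,4,1,0,5,8,11,2,3,7,6,4,7,3,0,1,2,5,0,1,4,6,3,2,0,1,4,9,7,3,2,1,0,5,8,11,10,11,8,5,0,1,2,3,7,9,4,1,0,2,3,6,4,1,0,5,2,1,0,1,2,5,0,1,4,6,3,7,2,3,1,2,5,0,1,4,9,7,3,2,1,0,5,8,10,11,10,11,10,8,5,0,1,2,3,7,9,4,1,0,5,2,1,3,2,7,3,6,4,1,0,5,2,1,3,7,4,6],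
   [6,1,4,7,2,3,1,2,11,8,5,0,1,4,6,7,3,2,5,0,1,4,9,7,3,2,1,0,5,8,10,11,10,11,10,8,5,0,1,2,3,7,9,4,1,0,5,2,3,7,6,4,1,0,5,8,11,2,1,3,2,7,4,1,6,1,4,6,2,1,4,9,7,3,2,1,0,5,8,11,10,11,8,5,0,1,2,3,7,9,4,1,2,6,4,1],
   [6,0,1,4,9,7,3,2,1,0,5,8,11,10,11,8,5,0,1,2,3,7,9,4,1,0,6,1,4,6,3,1,2,0,1,4,7,3,5,0,1,2,8,5,0,1,4,6,3,0,1,2,5,0,1,4,9,7,3,2,1,0,5,8,11,10,11,8,5,0,1,2,3,7,9,4,1,0,5,2,1,0,3,6,4,1,0,5,8,2,1,0,5,3,7,4,1,0,2,1,3,6,4,1],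
   [9,7,3,2,5,0,1,4,6,2,5,0,1,4,9,7,3,2,1,0,5,11,8,10,11,10,11,10,8,11,5,0,1,2,3,7,9,4,1,0,5,2,6,4,1,0,5,2,3,7,9,7,3,2,11,8,5,0,1,4,6,4,1,2,0,1,4,7,3,2,1,0,5,8,11,10,11,8,5,0,1,2,3,7,4,1,0,2,1,4,6,4,1,0,5,8,11,2,3,7],
   [9,7,3,2,5,0,1,4,6,2,5,0,1,4,3,2,1,0,5,8,11,10,11,8,5,0,1,2,3,4,1,0,5,2,6,4,1,0,5,2,3,7,9,6,9,7,3,2,1,4,9,7,2,3,0,1,2,8,5,0,1,4,6,3,1,2,5,0,1,4,7,3,2,1,0,5,8,11,10,11,8,5,0,1,2,3,7,4,1,0,5,2,1,3,6,4,1,0,5,8,2,1,0,3,2,7,9,4,1,2,3,7,9,6],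
   [3,2,1,4,7,2,3,0,1,2,5,0,1,4,6,7,3,2,5,0,1,4,9,7,3,2,1,0,5,8,10,11,10,11,10,8,5,0,1,2,3,7,9,4,1,0,5,2,3,7,6,4,1,0,5,2,1,0,3,2,7,4,1,2,3,1,2,5,0,1,4,6,7,3,1,2,5,0,1,4,9,7,3,2,1,0,5,8,11,10,11,8,5,0,1,2,3,7,9,4,1,0,5,2,1,3,7,6,4,1,0,5,2,1,0,1,2,5,0,1,4,3,7,2,3,0,1,2,8,5,0,1,4,6,2,3,1,2,5,0,1,4,9,7,3,2,1,0,5,8,10,11,10,11,10,8,5,0,1,2,3,7,9,4,1,0,5,2,1,3,2,6,4,1,0,5,8,2,1,0,3,2,7,3,9,7,3,2,1,0,5,8,10,11,10,11,10,8,5,0,1,2,3,7,9,4,1,0,5,2,1,0],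
   [4,6,4,1,2,5,0,1,4,9,7,3,2,1,0,5,8,10,11,10,11,10,8,5,0,1,2,3,7,9,4,1,0,5,2,1,4,6,4,6,4,2,3,1,2,5,0,1,4,6,7,3,1,2,11,8,5,0,1,4,9,7,3,2,1,0,5,8,11,10,11,8,5,0,1,2,3,7,9,4,1,0,5,8,11,2,1,3,7,6,4,1,0,5,2,1,3,2,4,1,4,7,2,3,1,2,11,8,5,0,1,4,6,7,3,2,5,0,1,4,9,7,3,2,1,0,5,8,10,11,10,11,10,8,5,0,1,2,3,7,9,4,1,0,5,2,3,7,6,4,1,0,5,8,11,2,1,3,2,7,4,1,6,1,4,6,2,1,4,9,7,3,2,1,0,5,8,11,10,11,8,5,0,1,2,3,7,9,4,1,2,6,4,1],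
   [6,3,2,1,4,1,2,3,0,1,2,5,0,1,4,6,7,2,3,1,2,5,0,1,4,9,7,3,2,1,0,5,8,11,10,11,8,5,0,1,2,3,7,9,4,1,0,5,2,1,3,2,7,6,4,1,0,5,2,1,0,3,2,1,4,1,2,3,4,7,3,1,2,5,0,1,4,6,3,7,2,3,1,2,5,0,1,4,9,7,3,2,1,0,5,8,10,11,10,11,10,8,5,0,1,2,3,7,9,4,1,0,5,2,1,3,2,7,3,6,4,1,0,5,2,1,3,7,4,6,7,3,2,11,8,5,0,1,4,6,4,1,2,0,1,4,7,3,2,1,0,5,8,11,10,11,8,5,0,1,2,3,7,4,1,0,2,1,4,6,4,1,0,5,8,11,2,3,7,9,7,3,2,5,0,1,4,6,2,5,0,1,4,9,7,3,2,1,0,5,11,8,10,11,10,11,10,8,11,5,0,1,2,3,7,9,4,1,0,5,2,6,4,1,0,5,2,3,7,9]]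

/-- the rules -/
def rulesData : Rules where
  n := 16
  pw := [[], [8], [7,7,10,10,11,12,12,13,15], [], [], [], [], [], [], [], [], [], [], [], [], []]
  cj := [[[], [1,3,3,6,7,10,11,11,13,15], [2,3,3,4,5,5,6,6,9,12,14,15], [3,8,11,14], [4], [5], [6], [7,8,8,11,11,14,15,15], [8], [9], [10,11,11,15], [11,14], [12], [13,14], [14], [15]],
    [[], [], [2,3,4,4,5,6,6,7,9,9,10,13,13,14,14], [3,8,8,11,11,15,15], [4,6,8,11,11,13], [5,7,8,8,10,10,11,13,14,14,15,15], [6], [7,8,11,14,15,15], [8], [9,10,11], [10,11,14,14], [11,14,14,15], [12], [13,14,14,15], [14,15,15], [15]],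
    [[], [], [], [3,6,6,7,7,8,10,10,13,13,14,14], [4,5,6,7,8,9,9,10,11,12,12,13,13,14], [5,7,8,10,10,11,12,12,13,13,14], [6,7,10,11,11,12,12,13,13,14,14,15,15], [7], [8,12,12,13,13,14,14,15], [9,10,12,14,14,15], [10,12,13,13,15,15], [11,12,13,14,15,15], [12,13,13,14,15], [13,15], [14,15,15], [15]],
    [[], [], [], [], [4,8,11,11,12,12,13,14,14,15,15], [5,8,12,13,13,14,15], [6], [7,15], [8,15], [9,11,12,12,13,14,15,15], [10,15], [11,15], [12,15], [13,15,15], [14], [15]],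
    [[], [], [], [], [], [5], [6,8,8,11,13,13], [7], [8], [9], [10,12,14], [11], [12,14,14], [13], [14], [15]],
    [[], [], [], [], [], [], [6,12,12,15], [7,13,13,14,15], [8], [9], [10,13,13,14,14,15], [11,14], [12], [13], [14], [15]],
    [[], [], [], [], [], [], [], [7], [8], [9,12,12,15], [10], [11], [12,15], [13], [14], [15]],
    [[], [], [], [], [], [], [], [], [8,15,15], [9,13,14,14,15,15], [10,15,15], [11,15,15], [12], [13], [14], [15]],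
    [[], [], [], [], [], [], [], [], [], [9,14,14], [10,15], [11], [12], [13], [14], [15]],
    [[], [], [], [], [], [], [], [], [], [], [10], [11], [12], [13], [14], [15]],
    [[], [], [], [], [], [], [], [], [], [], [], [11], [12], [13], [14], [15]],
    [[], [], [], [], [], [], [], [], [], [], [], [], [12], [13], [14], [15]],
    [[], [], [], [], [], [], [], [], [], [], [], [], [], [13], [14], [15]],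
    [[], [], [], [], [], [], [], [], [], [], [], [], [], [], [14], [15]],
    [[], [], [], [], [], [], [], [], [], [], [], [], [], [], [], [15]],
    [[], [], [], [], [], [], [], [], [], [], [], [], [], [], [], []]]

/-- nodes with words separating their orbits -/
def levelsData : List (ℕ × List (List ℕ)) :=
  [(3654, [[], [0], [1], [2], [3], [5], [7], [8], [10], [0,2], [0,3], [0,10], [1,1], [1,2], [1,3], [1,10], [1,2,3,4,4,5,6,6,7,9,9,10,13,13,14,14], [2,7], [2,8], [0,3,8,11,14], [3,8], [1,5,7,8,8,10,10,11,13,14,14,15,15], [2,5,7,8,10,10,11,12,12,13,13,14], [5,5], [5,8], [5,10], [0,7,8,8,11,11,14,15,15]]),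
   (93453, [[], [1,3,3,5,5,6,10,10,11,12,13,13,14,14], [1,1,3,5,6,6,7,7,10,10,11,12,13,14,15]]),
   (273409, [[], [0,1,3,3,6,7,10,11,11,13,15], [2,3,4,4,5,6,7,9,9,10,11,11,14], [3,6,6,8,8,10,11,11,14,14,15,15], [0,0,1,1,8,8], [0,1,2,4,4,5,7,8,9,9,10,11,13,14,15], [2,2,3,3,4,5,7,7,9,9,10,10,11,12,13,14], [2,3,3,4,4,5,7,8,8,9,9,10,10,11,12,12,14,14,15,15], [3,3,6,8,10,10,11,14,15,15]]),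
   (470, [[], [0,1,2,2,3,3,4,5,7,9,9,10,10,14,15], [5,6,7,8,8,9,9,10,12,14], [6,7,7,8,10,10,12,12,13,13,15], [7,8,10,11,12,15], [8,11,11,12,12,13,14,14,15,15], [12,14,14,15], [0,0,1,1,2,4,4,5,6,6,7,7,8,9,9,10,11,14,15], [0,1,2,2,3,3,4,4,5,7,9,9,10,10,12,12,15], [0,1,2,2,3,3,4,5,5,6,7,7,8,8,9,12,12,13,13,14], [0,1,2,2,3,3,4,5,6,8,9,9,10,14,15], [0,1,2,2,3,3,4,5,7,7,8,9,9,11,12,13,13], [0,1,2,2,3,3,4,5,7,8,9,9,10,10,11,11,12,12,13,14,15,15], [0,1,2,2,3,3,4,5,7,9,9,10,10,13,14,14,15], [0,1,2,2,3,3,4,5,5,6,7,8,9,10,10,11,11,12,14,15], [4,5,6,7,8,9,9,10,11,12,12,13,13,14], [5,5,6,6,7,7,8,9,10,10,12,12,14,14,15,15], [5,6,7,7,9,9,10,10,11,12,12,13,13], [5,6,7,9,9,10,11,11,13,14], [5,6,7,8,8,9,9,10,12,13,14,14], [0,1,2,2,3,3,4,5,6,7,7,9,9,11,11,12,12,14],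 [6,6,7,8,8,10,12,13], [6,8,8,11,13,13,15], [6,7,7,8,8,10,10,11,11,12,14,14,15,15], [0,1,2,2,3,3,4,5,7,7,8,9,9,11,12,13,13,15], [5,6,7,7,9,9,10,10,11,12,12,13,14,14], [7,7,8,8,10,10,11,11,12,12], [7,8,8,10,13,14,14,15], [7,8,10,11,12,12,14,14,15,15], [5,6,7,9,9,10,11,11,13,14,14,15], [7,8,8,10,13,14,14], [8,8,11,12,13,13,14,15], [8,11,11,13,14], [12,12,14,15,15], [0,0,1,1,2,4,4,5,7,8,8,9,9,11,14,15], [0,0,1,1,2,4,4,5,6,6,8,8,9,9,10,10,11,11,12,13,13,15], [0,0,1,1,2,4,4,5,6,6,7,7,8,8,9,9,10,12,12,13,14,15], [0,0,1,1,2,4,4,5,6,6,7,7,8,9,9,10,11,12,15,15], [0,0,1,1,2,4,4,5,6,6,7,7,8,9,9,10,11,13,14,14,15], [0,0,1,1,2,6,6,7,7,10,11,11,12,12,14,14,15,15], [0,1,2,2,3,3,4,4,5,6,8,9,9,10,12,12], [0,1,2,2,3,3,4,4,5,7,7,8,9,9,11,13,13,14,14], [0,1,2,2,3,3,4,4,5,7,9,9,10,10,12,12,13,14,15],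 [0,1,2,2,3,3,4,6,6,8,10,12,13,14,15,15], [0,1,2,2,3,3,4,5,5,6,6,7,9,10,10,14,15], [0,1,2,2,3,3,4,5,5,6,7,7,8,8,9,13,13,15], [0,1,2,2,3,3,4,5,6,8,8,9,9,10,11,11,12,12,13,14,15], [0,1,2,2,3,3,4,5,6,8,9,9,10,12,15,15], [0,1,2,2,3,3,4,5,6,8,9,9,10,13,14,14,15], [0,1,2,2,3,3,4,5,7,7,8,8,9,9,15,15], [0,1,2,2,3,3,4,5,5,6,7,7,9,11,11,12], [0,1,2,2,3,3,4,5,7,7,8,8,9,9,15], [0,0,1,1,2,4,4,5,5,7,8,9,11,11,12,13,14,15,15], [0,1,2,2,3,3,4,6,6,7,7,11,11,13,15], [0,1,2,2,3,3,4,5,5,6,7,8,8,9,10,10,11,13,14,14,15,15], [0,1,2,2,3,3,4,5,5,6,7,8,9,10,10,11,11,12,12,15,15], [0,1,2,2,3,3,4,5,5,6,7,8,9,10,10,11,11,12,13,14,14,15], [0,1,2,2,3,3,4,4,5,6,7,8,9,9,10,10,11,11,13,14,14], [4,5,6,7,8,9,9,10,11,12,12,14,14], [0,1,2,2,3,3,4,6,6,7,8,8,10,10,11,12,12,14,15],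 [4,5,5,6,6,7,7,8,8,9,10,10,11,11,12,13,14,14,15,15], [5,5,6,6,7,7,8,9,10,10,14], [5,6,8,9,9,11,11,13,14,14,15], [5,5,6,6,7,7,8,8,9,10,10,11,11,12,13,14,15], [5,6,7,8,8,9,9,10,12,13,13], [0,0,1,1,2,4,4,5,7,7,9,9,10,11,11,12,14], [0,1,2,2,3,3,4,5,5,6,6,8,8,9,10,11,11,15,15], [6,6,7,8,8,10,12,12,13,14,14,15], [5,6,6,7,8,9,9,10,11,13,13,14,14,15], [6,12,12,14,14,15,15], [0,1,2,2,3,3,4,5,8,8,9,9,10,11,11,12,12,13,14,14,15,15], [7,7,10,10,11,12,13,14,14], [7,10,11,11,12,12,13,13,14,15], [7,8,8,10,12,13,14,15,15], [5,6,7,9,9,10,11,11,13,13,15], [7,7,10,10,11,12,13,14,14,15,15], [7,10,11,11,12,12,13,13,14,15,15], [8,11,11,12,13,15], [0,0,1,1,2,4,4,5,7,9,9,12,12,13,14], [0,0,1,1,2,4,4,5,7,8,8,9,9,11,12,15,15], [0,1,2,2,3,3,4,4,5,7,7,8,9,9,11]]),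
   (1502, [[], [0,1,2,2,3,3,4,5,5,6,6,7,7,8,9,11,12,15], [4], [5,9,9,14,14,15], [12,13,13,14,15], [14], [0,1,2,2,3,3,4,4,5,5,6,6,7,7,8,8,9,12,13,14,14,15], [0,1,2,2,3,3,4,5,5,6,6,7,7,8,9,11,12,12,13,13,14,15,15], [0,1,2,2,3,3,4,5,5,6,6,7,7,8,9,11,12,14,15], [0,1,2,2,3,3,4,4,5,6,6,7,7,8,8,9,9,14], [4,4], [4,14], [5,9,9,12,13,13,15,15], [5,9,9,15], [4,12,13,13,15], [0,1,2,2,3,3,5,5,6,6,7,7,9,11,11,12,13,13,14,15], [0,1,2,2,3,3,4,4,5,5,6,6,7,7,8,8,9,12,13,15], [0,1,2,2,3,3,4,4,5,5,6,6,7,7,8,8,9,12,12,14,14,15,15], [0,1,2,2,3,3,5,6,6,7,7,9,9,11,11,13,14], [0,1,2,2,3,3,4,4,5,6,6,7,7,8,8,9,9,14,14], [4,4,12,13,13,14,15], [4,5,9,9,12,13,13,14,14,15,15], [4,4,12,13,13,14,14,15], [0,1,2,2,3,3,5,5,6,6,7,7,9,11,11,12,12,13,14,14,15,15], [0,1,2,2,3,3,5,5,6,6,7,7,9,11,11,12,12,13,15,15],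 [0,1,2,2,3,3,5,6,6,7,7,9,9,11,11,12,14,14,15], [4,4,5,9,9,12,13,13,14,15,15]]),
   (36717, [[], [0,1,2,2,3,3,4,6,6,7,7,8,11,12,12,13,14,14,15,15], [12,13,13,14,14,15], [13,14,15,15], [0,0,1,1,2,4,4,5,5,7,7,8,9,10,11,12,12,15], [0,1,2,2,3,3,4,6,6,7,7,8,11,14], [0,1,2,2,3,3,4,6,6,7,7,8,11,13,14,14,15,15], [0,0,1,1,2,4,4,5,5,7,7,8,9,10,11,12,12,13,14], [0,0,1,1,2,4,4,5,5,7,7,8,9,10,11,13,14]]),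
   (1381, [[], [12], [12,12]])]

/-- a word whose fourteenth power fixes no node -/
def rootW : List ℕ := [11,10,5,8,1,2,1,0,3,2,6,4,1,0,7,9,4]

end H49.Order3.Fi24
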