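/-
Generated data: exponent vectors of the leaves.
-/
import Mathlib.Data.Nat.Notation

set_option autoImplicit false
set_option maxRecDepth 100000
set_option linter.all false

namespace H49.Order3.Fi24

/-- exponent vectors of the leaves -/
def leafVecs : List (List ℕ) :=
  [[0,0,0,0,0,0,0,0,0,0,0,0,0,0,0,1],
   [0,0,0,0,0,0,0,0,0,0,0,0,0,0,0,2],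
   [0,0,0,0,0,0,0,0,0,0,0,0,0,0,1,0],
   [0,0,0,0,0,0,0,0,0,0,0,0,0,0,2,0],
   [0,0,0,0,0,0,0,0,0,0,0,0,0,1,0,0],
   [0,0,0,0,0,0,0,0,0,0,0,0,0,2,0,0],
   [0,0,0,0,0,0,0,0,0,0,0,0,1,0,0,0],
   [0,0,0,0,0,0,0,0,0,0,0,0,2,0,0,0],
   [0,0,0,0,0,0,0,0,0,0,0,1,0,0,0,0],
   [0,0,0,0,0,0,0,0,0,0,0,1,0,1,0,0],
   [0,0,0,0,0,0,0,0,0,0,0,1,0,2,0,0],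
   [0,0,0,0,0,0,0,0,0,0,0,2,0,0,0,0],
   [0,0,0,0,0,0,0,0,0,0,0,2,0,1,0,0],
   [0,0,0,0,0,0,0,0,0,0,0,2,0,2,0,0],
   [0,0,0,0,0,0,0,0,0,0,1,0,0,0,0,0],
   [0,0,0,0,0,0,0,0,0,0,1,0,0,0,1,0],
   [0,0,0,0,0,0,0,0,0,0,1,0,0,0,2,0],
   [0,0,0,0,0,0,0,0,0,0,2,0,0,0,0,0],
   [0,0,0,0,0,0,0,0,0,0,2,0,0,0,1,0],
   [0,0,0,0,0,0,0,0,0,0,2,0,0,0,2,0],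
   [0,0,0,0,0,0,0,0,0,1,0,0,0,0,0,0],
   [0,0,0,0,0,0,0,0,0,1,0,0,0,0,0,1],
   [0,0,0,0,0,0,0,0,0,1,0,0,0,0,0,2],
   [0,0,0,0,0,0,0,0,0,2,0,0,0,0,0,0],
   [0,0,0,0,0,0,0,0,0,2,0,0,0,0,0,1],
   [0,0,0,0,0,0,0,0,0,2,0,0,0,0,0,2],
   [0,0,0,0,0,0,0,0,1,0,0,0,0,0,0,0],
   [0,0,0,0,0,0,0,0,1,0,0,0,0,1,0,0],
   [0,0,0,0,0,0,0,0,1,0,0,0,0,2,0,0],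
   [0,0,0,0,0,0,0,0,1,0,0,1,0,0,0,0],
   [0,0,0,0,0,0,0,0,1,0,0,1,0,1,0,0],
   [0,0,0,0,0,0,0,0,1,0,0,1,0,2,0,0],
   [0,0,0,0,0,0,0,0,1,0,0,1,1,0,0,0],
   [0,0,0,0,0,0,0,0,1,0,0,1,2,0,0,0],
   [0,0,0,0,0,0,0,0,1,0,0,2,0,0,0,0],
   [0,0,0,0,0,0,0,0,1,0,0,2,0,1,0,0],
   [0,0,0,0,0,0,0,0,1,0,0,2,0,2,0,0],
   [0,0,0,0,0,0,0,0,1,0,1,0,0,0,0,0],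
   [0,0,0,0,0,0,0,0,1,0,2,0,0,0,0,0],
   [0,0,0,0,0,0,0,0,1,1,0,0,0,0,0,0],
   [0,0,0,0,0,0,0,0,1,2,0,0,0,0,0,0],
   [0,0,0,0,0,0,0,0,2,0,0,0,0,0,0,0],
   [0,0,0,0,0,0,0,0,2,0,0,0,0,1,0,0],
   [0,0,0,0,0,0,0,0,2,0,0,0,0,2,0,0],
   [0,0,0,0,0,0,0,0,2,0,0,1,0,0,0,0],
   [0,0,0,0,0,0,0,0,2,0,0,1,0,1,0,0],
   [0,0,0,0,0,0,0,0,2,0,0,1,0,2,0,0],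
   [0,0,0,0,0,0,0,0,2,0,0,2,0,0,0,0],
   [0,0,0,0,0,0,0,0,2,0,0,2,0,1,0,0],
   [0,0,0,0,0,0,0,0,2,0,0,2,0,2,0,0],
   [0,0,0,0,0,0,0,0,2,0,0,2,1,0,0,0],
   [0,0,0,0,0,0,0,0,2,0,0,2,2,0,0,0],
   [0,0,0,0,0,0,0,0,2,0,1,0,0,0,0,0],
   [0,0,0,0,0,0,0,0,2,0,2,0,0,0,0,0],
   [0,0,0,0,0,0,0,0,2,1,0,0,0,0,0,0],
   [0,0,0,0,0,0,0,0,2,2,0,0,0,0,0,0],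
   [0,0,0,0,0,0,0,1,0,0,0,0,0,0,0,0],
   [0,0,0,0,0,0,0,1,0,0,0,0,0,0,1,0],
   [0,0,0,0,0,0,0,1,0,0,0,0,0,0,2,0],
   [0,0,0,0,0,0,0,1,0,0,0,0,1,0,0,0],
   [0,0,0,0,0,0,0,1,0,0,0,0,2,0,0,0],
   [0,0,0,0,0,0,0,1,0,0,0,1,0,0,0,0],
   [0,0,0,0,0,0,0,1,0,0,0,2,0,0,0,0],
   [0,0,0,0,0,0,0,1,0,0,1,0,0,0,0,0],
   [0,0,0,0,0,0,0,1,0,0,1,1,0,0,0,0],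
   [0,0,0,0,0,0,0,1,0,0,1,2,0,0,0,0],
   [0,0,0,0,0,0,0,1,0,0,1,2,0,0,1,0],
   [0,0,0,0,0,0,0,1,0,0,1,2,0,0,2,0],
   [0,0,0,0,0,0,0,1,0,0,2,0,0,0,0,0],
   [0,0,0,0,0,0,0,1,0,0,2,1,0,0,0,0],
   [0,0,0,0,0,0,0,1,0,0,2,1,0,0,1,0],
   [0,0,0,0,0,0,0,1,0,0,2,1,0,0,2,0],
   [0,0,0,0,0,0,0,1,0,0,2,2,0,0,0,0],
   [0,0,0,0,0,0,0,1,0,1,0,0,0,0,0,0],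
   [0,0,0,0,0,0,0,1,0,2,0,0,0,0,0,0],
   [0,0,0,0,0,0,0,2,0,0,0,0,0,0,0,0],
   [0,0,0,0,0,0,0,2,0,0,0,0,0,0,1,0],
   [0,0,0,0,0,0,0,2,0,0,0,0,0,0,2,0],
   [0,0,0,0,0,0,0,2,0,0,0,0,1,0,0,0],
   [0,0,0,0,0,0,0,2,0,0,0,0,2,0,0,0],
   [0,0,0,0,0,0,0,2,0,0,0,1,0,0,0,0],
   [0,0,0,0,0,0,0,2,0,0,0,2,0,0,0,0],
   [0,0,0,0,0,0,0,2,0,0,1,0,0,0,0,0],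
   [0,0,0,0,0,0,0,2,0,0,1,1,0,0,0,0],
   [0,0,0,0,0,0,0,2,0,0,1,2,0,0,0,0],
   [0,0,0,0,0,0,0,2,0,0,1,2,0,0,1,0],
   [0,0,0,0,0,0,0,2,0,0,1,2,0,0,2,0],
   [0,0,0,0,0,0,0,2,0,0,2,0,0,0,0,0],
   [0,0,0,0,0,0,0,2,0,0,2,1,0,0,0,0],
   [0,0,0,0,0,0,0,2,0,0,2,1,0,0,1,0],
   [0,0,0,0,0,0,0,2,0,0,2,1,0,0,2,0],
   [0,0,0,0,0,0,0,2,0,0,2,2,0,0,0,0],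
   [0,0,0,0,0,0,0,2,0,1,0,0,0,0,0,0],
   [0,0,0,0,0,0,0,2,0,2,0,0,0,0,0,0],
   [0,0,0,0,0,0,1,0,0,0,0,0,0,0,0,0],
   [0,0,0,0,0,0,1,0,0,0,0,0,0,0,1,0],
   [0,0,0,0,0,0,1,0,0,0,0,0,0,0,2,0],
   [0,0,0,0,0,0,1,0,0,0,0,0,0,1,0,0],
   [0,0,0,0,0,0,1,0,0,0,0,0,0,2,0,0],
   [0,0,0,0,0,0,1,0,0,0,0,1,0,0,0,0],
   [0,0,0,0,0,0,1,0,0,0,0,1,0,1,0,0],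
   [0,0,0,0,0,0,1,0,0,0,0,1,0,2,0,0],
   [0,0,0,0,0,0,1,0,0,0,0,2,0,0,0,0],
   [0,0,0,0,0,0,1,0,0,0,0,2,0,1,0,0],
   [0,0,0,0,0,0,1,0,0,0,0,2,0,2,0,0],
   [0,0,0,0,0,0,1,0,0,0,1,0,0,0,0,0],
   [0,0,0,0,0,0,1,0,0,0,1,0,0,0,1,0],
   [0,0,0,0,0,0,1,0,0,0,1,0,0,0,2,0],
   [0,0,0,0,0,0,1,0,0,0,2,0,0,0,0,0],
   [0,0,0,0,0,0,1,0,0,0,2,0,0,0,1,0],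
   [0,0,0,0,0,0,1,0,0,0,2,0,0,0,2,0],
   [0,0,0,0,0,0,2,0,0,0,0,0,0,0,0,0],
   [0,0,0,0,0,0,2,0,0,0,0,0,0,0,1,0],
   [0,0,0,0,0,0,2,0,0,0,0,0,0,0,2,0],
   [0,0,0,0,0,0,2,0,0,0,0,0,0,1,0,0],
   [0,0,0,0,0,0,2,0,0,0,0,0,0,2,0,0],
   [0,0,0,0,0,0,2,0,0,0,0,1,0,0,0,0],
   [0,0,0,0,0,0,2,0,0,0,0,1,0,1,0,0],
   [0,0,0,0,0,0,2,0,0,0,0,1,0,2,0,0],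
   [0,0,0,0,0,0,2,0,0,0,0,2,0,0,0,0],
   [0,0,0,0,0,0,2,0,0,0,0,2,0,1,0,0],
   [0,0,0,0,0,0,2,0,0,0,0,2,0,2,0,0],
   [0,0,0,0,0,0,2,0,0,0,1,0,0,0,0,0],
   [0,0,0,0,0,0,2,0,0,0,1,0,0,0,1,0],
   [0,0,0,0,0,0,2,0,0,0,1,0,0,0,2,0],
   [0,0,0,0,0,0,2,0,0,0,2,0,0,0,0,0],
   [0,0,0,0,0,0,2,0,0,0,2,0,0,0,1,0],
   [0,0,0,0,0,0,2,0,0,0,2,0,0,0,2,0],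
   [0,0,0,0,0,1,0,0,0,0,0,0,0,0,0,0],
   [0,0,0,0,0,1,0,0,0,0,0,0,0,0,0,1],
   [0,0,0,0,0,1,0,0,0,0,0,0,0,0,0,2],
   [0,0,0,0,0,1,0,0,0,0,0,1,0,0,0,0],
   [0,0,0,0,0,1,0,0,0,0,0,2,0,0,0,0],
   [0,0,0,0,0,1,0,0,0,0,1,0,0,0,0,0],
   [0,0,0,0,0,1,0,0,0,0,2,0,0,0,0,0],
   [0,0,0,0,0,1,0,0,0,1,0,0,0,0,0,0],
   [0,0,0,0,0,1,0,0,0,1,0,0,0,0,0,1],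
   [0,0,0,0,0,1,0,0,0,1,0,0,0,0,0,2],
   [0,0,0,0,0,1,0,0,0,1,0,0,1,0,0,0],
   [0,0,0,0,0,1,0,0,0,1,0,0,2,0,0,0],
   [0,0,0,0,0,1,0,0,0,1,0,1,0,0,0,0],
   [0,0,0,0,0,1,0,0,0,1,0,2,0,0,0,0],
   [0,0,0,0,0,1,0,0,0,1,1,0,0,0,0,0],
   [0,0,0,0,0,1,0,0,0,1,2,0,0,0,0,0],
   [0,0,0,0,0,1,0,0,0,2,0,0,0,0,0,0],
   [0,0,0,0,0,1,0,0,0,2,0,0,0,0,0,1],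
   [0,0,0,0,0,1,0,0,0,2,0,0,0,0,0,2],
   [0,0,0,0,0,1,0,0,0,2,0,1,0,0,0,0],
   [0,0,0,0,0,1,0,0,0,2,0,2,0,0,0,0],
   [0,0,0,0,0,1,0,0,0,2,1,0,0,0,0,0],
   [0,0,0,0,0,1,0,0,0,2,2,0,0,0,0,0],
   [0,0,0,0,0,1,1,0,0,1,0,0,0,0,0,0],
   [0,0,0,0,0,1,2,0,0,1,0,0,0,0,0,0],
   [0,0,0,0,0,2,0,0,0,0,0,0,0,0,0,0],
   [0,0,0,0,0,2,0,0,0,0,0,0,0,0,0,1],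
   [0,0,0,0,0,2,0,0,0,0,0,0,0,0,0,2],
   [0,0,0,0,0,2,0,0,0,0,0,1,0,0,0,0],
   [0,0,0,0,0,2,0,0,0,0,0,2,0,0,0,0],
   [0,0,0,0,0,2,0,0,0,0,1,0,0,0,0,0],
   [0,0,0,0,0,2,0,0,0,0,2,0,0,0,0,0],
   [0,0,0,0,0,2,0,0,0,1,0,0,0,0,0,0],
   [0,0,0,0,0,2,0,0,0,1,0,0,0,0,0,1],
   [0,0,0,0,0,2,0,0,0,1,0,0,0,0,0,2],
   [0,0,0,0,0,2,0,0,0,1,0,1,0,0,0,0],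
   [0,0,0,0,0,2,0,0,0,1,0,2,0,0,0,0],
   [0,0,0,0,0,2,0,0,0,1,1,0,0,0,0,0],
   [0,0,0,0,0,2,0,0,0,1,2,0,0,0,0,0],
   [0,0,0,0,0,2,0,0,0,2,0,0,0,0,0,0],
   [0,0,0,0,0,2,0,0,0,2,0,0,0,0,0,1],
   [0,0,0,0,0,2,0,0,0,2,0,0,0,0,0,2],
   [0,0,0,0,0,2,0,0,0,2,0,0,1,0,0,0],
   [0,0,0,0,0,2,0,0,0,2,0,0,2,0,0,0],
   [0,0,0,0,0,2,0,0,0,2,0,1,0,0,0,0],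
   [0,0,0,0,0,2,0,0,0,2,0,2,0,0,0,0],
   [0,0,0,0,0,2,0,0,0,2,1,0,0,0,0,0],
   [0,0,0,0,0,2,0,0,0,2,2,0,0,0,0,0],
   [0,0,0,0,0,2,1,0,0,2,0,0,0,0,0,0],
   [0,0,0,0,0,2,2,0,0,2,0,0,0,0,0,0],
   [0,0,0,0,1,0,0,0,0,0,0,0,0,0,0,0],
   [0,0,0,0,1,0,0,0,0,0,0,0,0,0,0,1],
   [0,0,0,0,1,0,0,0,0,0,0,0,0,0,0,2],
   [0,0,0,0,1,0,0,0,0,0,0,0,0,1,0,0],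
   [0,0,0,0,1,0,0,0,0,0,0,0,0,2,0,0],
   [0,0,0,0,1,0,0,0,0,0,0,1,0,0,0,0],
   [0,0,0,0,1,0,0,0,0,0,0,1,0,1,0,0],
   [0,0,0,0,1,0,0,0,0,0,0,1,0,2,0,0],
   [0,0,0,0,1,0,0,0,0,0,0,2,0,0,0,0],
   [0,0,0,0,1,0,0,0,0,0,0,2,0,1,0,0],
   [0,0,0,0,1,0,0,0,0,0,0,2,0,2,0,0],
   [0,0,0,0,1,0,0,0,0,1,0,0,0,0,0,0],
   [0,0,0,0,1,0,0,0,0,1,0,0,0,0,0,1],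
   [0,0,0,0,1,0,0,0,0,1,0,0,0,0,0,2],
   [0,0,0,0,1,0,0,0,0,2,0,0,0,0,0,0],
   [0,0,0,0,1,0,0,0,0,2,0,0,0,0,0,1],
   [0,0,0,0,1,0,0,0,0,2,0,0,0,0,0,2],
   [0,0,0,0,1,0,0,1,0,0,0,0,0,0,0,0],
   [0,0,0,0,1,0,0,1,0,1,0,0,0,0,0,0],
   [0,0,0,0,1,0,0,1,0,2,0,0,0,0,0,0],
   [0,0,0,0,1,0,0,2,0,0,0,0,0,0,0,0],
   [0,0,0,0,1,0,0,2,0,1,0,0,0,0,0,0],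
   [0,0,0,0,1,0,0,2,0,2,0,0,0,0,0,0],
   [0,0,0,0,2,0,0,0,0,0,0,0,0,0,0,0],
   [0,0,0,0,2,0,0,0,0,0,0,0,0,0,0,1],
   [0,0,0,0,2,0,0,0,0,0,0,0,0,0,0,2],
   [0,0,0,0,2,0,0,0,0,0,0,0,0,1,0,0],
   [0,0,0,0,2,0,0,0,0,0,0,0,0,2,0,0],
   [0,0,0,0,2,0,0,0,0,0,0,1,0,0,0,0],
   [0,0,0,0,2,0,0,0,0,0,0,1,0,1,0,0],
   [0,0,0,0,2,0,0,0,0,0,0,1,0,2,0,0],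
   [0,0,0,0,2,0,0,0,0,0,0,2,0,0,0,0],
   [0,0,0,0,2,0,0,0,0,0,0,2,0,1,0,0],
   [0,0,0,0,2,0,0,0,0,0,0,2,0,2,0,0],
   [0,0,0,0,2,0,0,0,0,1,0,0,0,0,0,0],
   [0,0,0,0,2,0,0,0,0,1,0,0,0,0,0,1],
   [0,0,0,0,2,0,0,0,0,1,0,0,0,0,0,2],
   [0,0,0,0,2,0,0,0,0,2,0,0,0,0,0,0],
   [0,0,0,0,2,0,0,0,0,2,0,0,0,0,0,1],
   [0,0,0,0,2,0,0,0,0,2,0,0,0,0,0,2],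
   [0,0,0,0,2,0,0,1,0,0,0,0,0,0,0,0],
   [0,0,0,0,2,0,0,1,0,1,0,0,0,0,0,0],
   [0,0,0,0,2,0,0,1,0,2,0,0,0,0,0,0],
   [0,0,0,0,2,0,0,2,0,0,0,0,0,0,0,0],
   [0,0,0,0,2,0,0,2,0,1,0,0,0,0,0,0],
   [0,0,0,0,2,0,0,2,0,2,0,0,0,0,0,0],
   [0,0,0,1,0,0,0,0,0,0,0,0,0,0,0,0],
   [0,0,0,1,0,0,0,0,0,0,0,0,0,0,1,0],
   [0,0,0,1,0,0,0,0,0,0,0,0,0,0,2,0],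
   [0,0,0,1,0,0,0,0,0,0,0,0,0,1,0,0],
   [0,0,0,1,0,0,0,0,0,0,0,0,0,2,0,0],
   [0,0,0,1,0,0,0,0,0,0,0,0,1,0,0,0],
   [0,0,0,1,0,0,0,0,0,0,0,0,1,1,0,0],
   [0,0,0,1,0,0,0,0,0,0,0,0,1,2,0,0],
   [0,0,0,1,0,0,0,0,0,0,0,0,2,0,0,0],
   [0,0,0,1,0,0,0,0,0,0,0,0,2,1,0,0],
   [0,0,0,1,0,0,0,0,0,0,0,0,2,2,0,0],
   [0,0,0,1,0,0,0,0,0,0,1,0,0,0,0,0],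
   [0,0,0,1,0,0,0,0,0,0,1,0,0,0,1,0],
   [0,0,0,1,0,0,0,0,0,0,1,0,0,0,2,0],
   [0,0,0,1,0,0,0,0,0,0,2,0,0,0,0,0],
   [0,0,0,1,0,0,0,0,0,0,2,0,0,0,1,0],
   [0,0,0,1,0,0,0,0,0,0,2,0,0,0,2,0],
   [0,0,0,1,0,0,0,1,0,0,0,0,0,0,0,0],
   [0,0,0,1,0,0,0,1,0,0,0,0,0,1,0,0],
   [0,0,0,1,0,0,0,1,0,0,0,0,0,1,1,0],
   [0,0,0,1,0,0,0,1,0,0,0,0,0,1,2,0],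
   [0,0,0,1,0,0,0,1,0,0,0,0,0,2,0,0],
   [0,0,0,1,0,0,0,1,0,0,0,0,1,0,0,0],
   [0,0,0,1,0,0,0,1,0,0,0,0,1,1,0,0],
   [0,0,0,1,0,0,0,1,0,0,0,0,1,2,0,0],
   [0,0,0,1,0,0,0,1,0,0,0,0,2,0,0,0],
   [0,0,0,1,0,0,0,1,0,0,0,0,2,1,0,0],
   [0,0,0,1,0,0,0,1,0,0,0,0,2,2,0,0],
   [0,0,0,1,0,0,0,1,0,0,1,0,0,0,0,0],
   [0,0,0,1,0,0,0,1,0,0,1,0,0,1,0,0],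
   [0,0,0,1,0,0,0,1,0,0,1,0,0,1,1,0],
   [0,0,0,1,0,0,0,1,0,0,1,0,0,1,2,0],
   [0,0,0,1,0,0,0,1,0,0,1,0,0,2,0,0],
   [0,0,0,1,0,0,0,1,0,0,2,0,0,0,0,0],
   [0,0,0,1,0,0,0,1,0,0,2,0,0,1,0,0],
   [0,0,0,1,0,0,0,1,0,0,2,0,0,1,1,0],
   [0,0,0,1,0,0,0,1,0,0,2,0,0,1,2,0],
   [0,0,0,1,0,0,0,1,0,0,2,0,0,2,0,0],
   [0,0,0,1,0,0,0,1,0,1,0,0,0,0,0,0],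
   [0,0,0,1,0,0,0,1,0,2,0,0,0,0,0,0],
   [0,0,0,1,0,0,0,2,0,0,0,0,0,0,0,0],
   [0,0,0,1,0,0,0,2,0,0,0,0,0,0,1,0],
   [0,0,0,1,0,0,0,2,0,0,0,0,0,0,2,0],
   [0,0,0,1,0,0,0,2,0,0,0,0,1,0,0,0],
   [0,0,0,1,0,0,0,2,0,0,0,0,2,0,0,0],
   [0,0,0,1,0,0,0,2,0,0,1,0,0,0,0,0],
   [0,0,0,1,0,0,0,2,0,0,1,0,0,0,1,0],
   [0,0,0,1,0,0,0,2,0,0,1,0,0,0,2,0],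
   [0,0,0,1,0,0,0,2,0,0,1,0,0,1,0,0],
   [0,0,0,1,0,0,0,2,0,0,1,0,0,2,0,0],
   [0,0,0,1,0,0,0,2,0,0,2,0,0,0,0,0],
   [0,0,0,1,0,0,0,2,0,0,2,0,0,0,1,0],
   [0,0,0,1,0,0,0,2,0,0,2,0,0,0,2,0],
   [0,0,0,1,0,1,0,0,0,0,0,0,0,0,0,0],
   [0,0,0,1,0,2,0,0,0,0,0,0,0,0,0,0],
   [0,0,0,1,1,0,0,0,0,0,2,0,0,0,0,0],
   [0,0,0,1,1,0,0,0,0,1,0,0,0,0,0,0],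
   [0,0,0,1,1,0,0,0,0,2,1,0,0,0,0,0],
   [0,0,0,1,1,0,0,1,0,0,2,0,0,0,0,0],
   [0,0,0,1,1,0,0,2,0,0,2,0,0,0,0,0],
   [0,0,0,1,2,0,0,0,0,0,2,0,0,0,0,0],
   [0,0,0,1,2,0,0,0,0,1,1,0,0,0,0,0],
   [0,0,0,1,2,0,0,0,0,2,0,0,0,0,0,0],
   [0,0,0,1,2,0,0,1,0,0,2,0,0,0,0,0],
   [0,0,0,1,2,0,0,2,0,0,2,0,0,0,0,0],
   [0,0,0,2,0,0,0,0,0,0,0,0,0,0,0,0],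
   [0,0,0,2,0,0,0,0,0,0,0,0,0,0,1,0],
   [0,0,0,2,0,0,0,0,0,0,0,0,0,0,2,0],
   [0,0,0,2,0,0,0,0,0,0,0,0,0,1,0,0],
   [0,0,0,2,0,0,0,0,0,0,0,0,0,2,0,0],
   [0,0,0,2,0,0,0,0,0,0,0,0,1,0,0,0],
   [0,0,0,2,0,0,0,0,0,0,0,0,1,1,0,0],
   [0,0,0,2,0,0,0,0,0,0,0,0,1,2,0,0],
   [0,0,0,2,0,0,0,0,0,0,0,0,2,0,0,0],
   [0,0,0,2,0,0,0,0,0,0,0,0,2,1,0,0],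
   [0,0,0,2,0,0,0,0,0,0,0,0,2,2,0,0],
   [0,0,0,2,0,0,0,0,0,0,1,0,0,0,0,0],
   [0,0,0,2,0,0,0,0,0,0,1,0,0,0,1,0],
   [0,0,0,2,0,0,0,0,0,0,1,0,0,0,2,0],
   [0,0,0,2,0,0,0,0,0,0,2,0,0,0,0,0],
   [0,0,0,2,0,0,0,0,0,0,2,0,0,0,1,0],
   [0,0,0,2,0,0,0,0,0,0,2,0,0,0,2,0],
   [0,0,0,2,0,0,0,1,0,0,0,0,0,0,0,0],
   [0,0,0,2,0,0,0,1,0,0,0,0,0,0,1,0],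
   [0,0,0,2,0,0,0,1,0,0,0,0,0,0,2,0],
   [0,0,0,2,0,0,0,1,0,0,0,0,1,0,0,0],
   [0,0,0,2,0,0,0,1,0,0,0,0,2,0,0,0],
   [0,0,0,2,0,0,0,1,0,0,1,0,0,0,0,0],
   [0,0,0,2,0,0,0,1,0,0,1,0,0,0,1,0],
   [0,0,0,2,0,0,0,1,0,0,1,0,0,0,2,0],
   [0,0,0,2,0,0,0,1,0,0,2,0,0,0,0,0],
   [0,0,0,2,0,0,0,1,0,0,2,0,0,0,1,0],
   [0,0,0,2,0,0,0,1,0,0,2,0,0,0,2,0],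
   [0,0,0,2,0,0,0,1,0,0,2,0,0,1,0,0],
   [0,0,0,2,0,0,0,1,0,0,2,0,0,2,0,0],
   [0,0,0,2,0,0,0,2,0,0,0,0,0,0,0,0],
   [0,0,0,2,0,0,0,2,0,0,0,0,0,1,0,0],
   [0,0,0,2,0,0,0,2,0,0,0,0,0,2,0,0],
   [0,0,0,2,0,0,0,2,0,0,0,0,0,2,1,0],
   [0,0,0,2,0,0,0,2,0,0,0,0,0,2,2,0],
   [0,0,0,2,0,0,0,2,0,0,0,0,1,0,0,0],
   [0,0,0,2,0,0,0,2,0,0,0,0,1,1,0,0],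
   [0,0,0,2,0,0,0,2,0,0,0,0,1,2,0,0],
   [0,0,0,2,0,0,0,2,0,0,0,0,2,0,0,0],
   [0,0,0,2,0,0,0,2,0,0,0,0,2,1,0,0],
   [0,0,0,2,0,0,0,2,0,0,0,0,2,2,0,0],
   [0,0,0,2,0,0,0,2,0,0,1,0,0,0,0,0],
   [0,0,0,2,0,0,0,2,0,0,1,0,0,1,0,0],
   [0,0,0,2,0,0,0,2,0,0,1,0,0,2,0,0],
   [0,0,0,2,0,0,0,2,0,0,1,0,0,2,1,0],
   [0,0,0,2,0,0,0,2,0,0,1,0,0,2,2,0],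
   [0,0,0,2,0,0,0,2,0,0,2,0,0,0,0,0],
   [0,0,0,2,0,0,0,2,0,0,2,0,0,1,0,0],
   [0,0,0,2,0,0,0,2,0,0,2,0,0,2,0,0],
   [0,0,0,2,0,0,0,2,0,0,2,0,0,2,1,0],
   [0,0,0,2,0,0,0,2,0,0,2,0,0,2,2,0],
   [0,0,0,2,0,0,0,2,0,1,0,0,0,0,0,0],
   [0,0,0,2,0,0,0,2,0,2,0,0,0,0,0,0],
   [0,0,0,2,0,1,0,0,0,0,0,0,0,0,0,0],
   [0,0,0,2,0,2,0,0,0,0,0,0,0,0,0,0],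
   [0,0,0,2,1,0,0,0,0,0,1,0,0,0,0,0],
   [0,0,0,2,1,0,0,0,0,1,0,0,0,0,0,0],
   [0,0,0,2,1,0,0,0,0,2,2,0,0,0,0,0],
   [0,0,0,2,1,0,0,1,0,0,1,0,0,0,0,0],
   [0,0,0,2,1,0,0,2,0,0,1,0,0,0,0,0],
   [0,0,0,2,2,0,0,0,0,0,1,0,0,0,0,0],
   [0,0,0,2,2,0,0,0,0,1,2,0,0,0,0,0],
   [0,0,0,2,2,0,0,0,0,2,0,0,0,0,0,0],
   [0,0,0,2,2,0,0,1,0,0,1,0,0,0,0,0],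
   [0,0,0,2,2,0,0,2,0,0,1,0,0,0,0,0],
   [0,0,1,0,2,0,0,0,0,0,0,2,0,0,0,0],
   [0,0,1,0,2,0,0,0,1,0,0,0,0,0,0,0],
   [0,0,1,0,2,0,0,0,1,1,0,2,0,0,0,0],
   [0,0,1,0,2,0,0,0,1,2,0,1,0,0,0,0],
   [0,0,1,0,2,0,0,0,2,0,0,1,0,0,0,0],
   [0,0,2,0,1,0,0,0,0,0,0,0,0,0,0,0],
   [0,0,2,0,1,0,0,0,1,0,0,1,0,0,0,0],
   [0,0,2,0,1,0,0,0,1,1,0,0,0,0,0,0],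
   [0,0,2,0,1,0,0,0,1,2,0,2,0,0,0,0],
   [0,0,2,0,1,0,0,0,2,0,0,2,0,0,0,0],
   [0,1,0,0,0,2,0,0,0,0,0,0,0,0,0,0],
   [0,2,0,0,0,1,0,0,0,0,0,0,0,0,0,0],
   [1,0,0,0,0,0,0,0,0,0,0,0,0,0,0,0],
   [1,0,0,0,0,0,0,0,0,0,0,0,0,0,0,1],
   [1,0,0,0,0,0,0,0,0,0,0,0,0,0,0,2],
   [1,0,0,0,0,0,0,0,0,0,0,0,0,1,0,0],
   [1,0,0,0,0,0,0,0,0,0,0,0,0,2,0,0],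
   [1,0,0,0,0,0,0,0,0,0,0,0,1,0,0,0],
   [1,0,0,0,0,0,0,0,0,0,0,0,1,1,0,0],
   [1,0,0,0,0,0,0,0,0,0,0,0,1,2,0,0],
   [1,0,0,0,0,0,0,0,0,0,0,0,2,0,0,0],
   [1,0,0,0,0,0,0,0,0,0,0,0,2,1,0,0],
   [1,0,0,0,0,0,0,0,0,0,0,0,2,2,0,0],
   [1,0,0,0,0,0,0,0,0,1,0,0,0,0,0,0],
   [1,0,0,0,0,0,0,0,0,1,0,0,0,0,0,1],
   [1,0,0,0,0,0,0,0,0,1,0,0,0,0,0,2],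
   [1,0,0,0,0,0,0,0,0,2,0,0,0,0,0,0],
   [1,0,0,0,0,0,0,0,0,2,0,0,0,0,0,1],
   [1,0,0,0,0,0,0,0,0,2,0,0,0,0,0,2],
   [1,0,0,0,0,0,0,1,0,0,2,0,0,0,0,0],
   [1,0,0,0,0,0,0,2,0,0,1,0,0,0,0,0],
   [1,0,0,0,0,0,1,0,0,0,0,0,0,0,0,0],
   [1,0,0,0,0,0,1,1,0,0,2,0,0,0,0,0],
   [1,0,0,0,0,0,1,1,0,1,0,0,0,0,0,0],
   [1,0,0,0,0,0,1,1,0,2,1,0,0,0,0,0],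
   [1,0,0,0,0,0,1,2,0,0,1,0,0,0,0,0],
   [1,0,0,0,0,0,1,2,0,1,0,0,0,0,0,0],
   [1,0,0,0,0,0,1,2,0,2,2,0,0,0,0,0],
   [1,0,0,0,0,0,2,0,0,0,0,0,0,0,0,0],
   [1,0,0,0,0,0,2,1,0,0,2,0,0,0,0,0],
   [1,0,0,0,0,0,2,1,0,1,0,0,0,0,0,0],
   [1,0,0,0,0,0,2,1,0,2,1,0,0,0,0,0],
   [1,0,0,0,0,0,2,2,0,0,1,0,0,0,0,0],
   [1,0,0,0,0,0,2,2,0,1,0,0,0,0,0,0],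
   [1,0,0,0,0,0,2,2,0,2,2,0,0,0,0,0],
   [1,0,0,0,0,1,0,0,0,0,0,0,0,0,0,0],
   [1,0,0,0,0,1,0,0,0,0,0,0,0,0,0,1],
   [1,0,0,0,0,1,0,0,0,0,0,0,0,0,0,2],
   [1,0,0,0,0,1,0,0,0,0,0,0,0,1,0,0],
   [1,0,0,0,0,1,0,0,0,0,0,0,0,2,0,0],
   [1,0,0,0,0,1,0,0,0,0,1,0,0,0,0,0],
   [1,0,0,0,0,1,0,0,0,0,2,0,0,0,0,0],
   [1,0,0,0,0,1,0,0,0,1,0,0,0,0,0,0],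
   [1,0,0,0,0,1,0,0,0,1,0,0,0,0,0,1],
   [1,0,0,0,0,1,0,0,0,1,0,0,0,0,0,2],
   [1,0,0,0,0,1,0,0,0,1,0,0,0,1,0,0],
   [1,0,0,0,0,1,0,0,0,1,0,0,0,2,0,0],
   [1,0,0,0,0,1,0,0,0,1,0,0,1,0,0,0],
   [1,0,0,0,0,1,0,0,0,1,0,0,1,1,0,0],
   [1,0,0,0,0,1,0,0,0,1,0,0,1,2,0,0],
   [1,0,0,0,0,1,0,0,0,1,0,0,2,0,0,0],
   [1,0,0,0,0,1,0,0,0,1,0,0,2,1,0,0],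
   [1,0,0,0,0,1,0,0,0,1,0,0,2,2,0,0],
   [1,0,0,0,0,1,0,0,0,1,1,0,0,0,0,0],
   [1,0,0,0,0,1,0,0,0,1,2,0,0,0,0,0],
   [1,0,0,0,0,1,0,0,0,2,0,0,0,0,0,0],
   [1,0,0,0,0,1,0,0,0,2,0,0,0,0,0,1],
   [1,0,0,0,0,1,0,0,0,2,0,0,0,0,0,2],
   [1,0,0,0,0,1,0,0,0,2,0,0,0,1,0,0],
   [1,0,0,0,0,1,0,0,0,2,0,0,0,2,0,0],
   [1,0,0,0,0,1,0,0,0,2,1,0,0,0,0,0],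
   [1,0,0,0,0,1,0,0,0,2,2,0,0,0,0,0],
   [1,0,0,0,0,1,0,1,0,0,2,0,0,0,0,0],
   [1,0,0,0,0,1,0,2,0,0,1,0,0,0,0,0],
   [1,0,0,0,0,1,1,0,0,1,0,0,0,0,0,0],
   [1,0,0,0,0,1,1,0,0,1,1,0,0,0,0,0],
   [1,0,0,0,0,1,1,0,0,1,2,0,0,0,0,0],
   [1,0,0,0,0,1,1,1,0,0,1,0,0,0,0,0],
   [1,0,0,0,0,1,1,2,0,0,2,0,0,0,0,0],
   [1,0,0,0,0,1,2,0,0,1,0,0,0,0,0,0],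
   [1,0,0,0,0,1,2,0,0,1,1,0,0,0,0,0],
   [1,0,0,0,0,1,2,0,0,1,2,0,0,0,0,0],
   [1,0,0,0,0,1,2,1,0,0,1,0,0,0,0,0],
   [1,0,0,0,0,1,2,2,0,0,2,0,0,0,0,0],
   [1,0,0,0,0,2,0,0,0,0,0,0,0,0,0,0],
   [1,0,0,0,0,2,0,0,0,0,0,0,0,0,0,1],
   [1,0,0,0,0,2,0,0,0,0,0,0,0,0,0,2],
   [1,0,0,0,0,2,0,0,0,0,0,0,0,1,0,0],
   [1,0,0,0,0,2,0,0,0,0,0,0,0,2,0,0],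
   [1,0,0,0,0,2,0,0,0,1,0,0,0,0,0,0],
   [1,0,0,0,0,2,0,0,0,1,0,0,0,0,0,1],
   [1,0,0,0,0,2,0,0,0,1,0,0,0,0,0,2],
   [1,0,0,0,0,2,0,0,0,2,0,0,0,0,0,0],
   [1,0,0,0,0,2,0,0,0,2,0,0,0,0,0,1],
   [1,0,0,0,0,2,0,0,0,2,0,0,0,0,0,2],
   [1,0,0,0,0,2,0,0,0,2,0,0,1,0,0,0],
   [1,0,0,0,0,2,0,0,0,2,0,0,2,0,0,0],
   [1,0,0,0,0,2,0,1,0,0,2,0,0,0,0,0],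
   [1,0,0,0,0,2,0,2,0,0,1,0,0,0,0,0],
   [1,0,0,0,0,2,1,0,0,2,0,0,0,0,0,0],
   [1,0,0,0,0,2,1,1,0,1,1,0,0,0,0,0],
   [1,0,0,0,0,2,1,2,0,1,2,0,0,0,0,0],
   [1,0,0,0,0,2,2,0,0,2,0,0,0,0,0,0],
   [1,0,0,0,0,2,2,1,0,1,1,0,0,0,0,0],
   [1,0,0,0,0,2,2,2,0,1,2,0,0,0,0,0],
   [1,1,0,0,0,0,0,0,0,0,0,0,0,0,0,0],
   [1,1,0,0,0,0,0,0,0,0,0,0,0,0,1,0],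
   [1,1,0,0,0,0,0,0,0,0,0,0,0,0,2,0],
   [1,1,0,0,0,0,0,0,0,0,0,0,0,1,0,0],
   [1,1,0,0,0,0,0,0,0,0,0,0,0,1,1,0],
   [1,1,0,0,0,0,0,0,0,0,0,0,0,1,2,0],
   [1,1,0,0,0,0,0,0,0,0,0,0,0,2,0,0],
   [1,1,0,0,0,0,0,0,0,0,0,0,0,2,1,0],
   [1,1,0,0,0,0,0,0,0,0,0,0,0,2,2,0],
   [1,1,0,0,0,0,0,0,0,0,0,1,0,0,0,0],
   [1,1,0,0,0,0,0,0,0,0,0,1,0,0,1,0],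
   [1,1,0,0,0,0,0,0,0,0,0,1,0,0,2,0],
   [1,1,0,0,0,0,0,0,0,0,0,1,0,1,0,0],
   [1,1,0,0,0,0,0,0,0,0,0,1,0,1,1,0],
   [1,1,0,0,0,0,0,0,0,0,0,1,0,1,2,0],
   [1,1,0,0,0,0,0,0,0,0,0,1,0,2,0,0],
   [1,1,0,0,0,0,0,0,0,0,0,1,0,2,1,0],
   [1,1,0,0,0,0,0,0,0,0,0,1,0,2,2,0],
   [1,1,0,0,0,0,0,0,0,0,0,2,0,0,0,0],
   [1,1,0,0,0,0,0,0,0,0,0,2,0,0,1,0],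
   [1,1,0,0,0,0,0,0,0,0,0,2,0,0,2,0],
   [1,1,0,0,0,0,0,0,0,0,0,2,0,1,0,0],
   [1,1,0,0,0,0,0,0,0,0,0,2,0,1,1,0],
   [1,1,0,0,0,0,0,0,0,0,0,2,0,1,2,0],
   [1,1,0,0,0,0,0,0,0,0,0,2,0,2,0,0],
   [1,1,0,0,0,0,0,0,0,0,0,2,0,2,1,0],
   [1,1,0,0,0,0,0,0,0,0,0,2,0,2,2,0],
   [1,1,0,0,0,0,0,0,0,0,0,2,1,0,0,0],
   [1,1,0,0,0,0,0,0,0,0,0,2,1,0,1,0],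
   [1,1,0,0,0,0,0,0,0,0,0,2,1,0,2,0],
   [1,1,0,0,0,0,0,0,0,0,0,2,2,0,0,0],
   [1,1,0,0,0,0,0,0,0,0,0,2,2,0,1,0],
   [1,1,0,0,0,0,0,0,0,0,0,2,2,0,2,0],
   [1,1,0,0,0,0,0,0,0,1,0,0,0,0,0,0],
   [1,1,0,0,0,0,0,0,0,2,0,0,0,0,0,0],
   [1,1,0,0,0,0,0,0,1,0,0,0,0,0,0,0],
   [1,1,0,0,0,0,0,0,1,0,0,0,0,0,1,0],
   [1,1,0,0,0,0,0,0,1,0,0,0,0,0,2,0],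
   [1,1,0,0,0,0,0,0,1,0,0,0,0,1,0,0],
   [1,1,0,0,0,0,0,0,1,0,0,0,0,1,1,0],
   [1,1,0,0,0,0,0,0,1,0,0,0,0,1,2,0],
   [1,1,0,0,0,0,0,0,1,0,0,0,0,2,0,0],
   [1,1,0,0,0,0,0,0,1,0,0,0,0,2,1,0],
   [1,1,0,0,0,0,0,0,1,0,0,0,0,2,2,0],
   [1,1,0,0,0,0,0,0,1,0,0,0,1,0,0,0],
   [1,1,0,0,0,0,0,0,1,0,0,0,1,0,1,0],
   [1,1,0,0,0,0,0,0,1,0,0,0,1,0,2,0],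
   [1,1,0,0,0,0,0,0,1,0,0,0,2,0,0,0],
   [1,1,0,0,0,0,0,0,1,0,0,0,2,0,1,0],
   [1,1,0,0,0,0,0,0,1,0,0,0,2,0,2,0],
   [1,1,0,0,0,0,0,0,1,0,0,1,0,0,0,0],
   [1,1,0,0,0,0,0,0,1,0,0,1,0,0,1,0],
   [1,1,0,0,0,0,0,0,1,0,0,1,0,0,2,0],
   [1,1,0,0,0,0,0,0,1,0,0,1,0,1,0,0],
   [1,1,0,0,0,0,0,0,1,0,0,1,0,1,1,0],
   [1,1,0,0,0,0,0,0,1,0,0,1,0,1,2,0],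
   [1,1,0,0,0,0,0,0,1,0,0,1,0,2,0,0],
   [1,1,0,0,0,0,0,0,1,0,0,1,0,2,1,0],
   [1,1,0,0,0,0,0,0,1,0,0,1,0,2,2,0],
   [1,1,0,0,0,0,0,0,1,0,0,2,0,0,0,0],
   [1,1,0,0,0,0,0,0,1,0,0,2,0,0,1,0],
   [1,1,0,0,0,0,0,0,1,0,0,2,0,0,2,0],
   [1,1,0,0,0,0,0,0,1,0,0,2,0,1,0,0],
   [1,1,0,0,0,0,0,0,1,0,0,2,0,1,1,0],
   [1,1,0,0,0,0,0,0,1,0,0,2,0,1,2,0],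
   [1,1,0,0,0,0,0,0,1,0,0,2,0,2,0,0],
   [1,1,0,0,0,0,0,0,1,0,0,2,0,2,1,0],
   [1,1,0,0,0,0,0,0,1,0,0,2,0,2,2,0],
   [1,1,0,0,0,0,0,0,2,0,0,0,0,0,0,0],
   [1,1,0,0,0,0,0,0,2,0,0,0,0,0,1,0],
   [1,1,0,0,0,0,0,0,2,0,0,0,0,0,2,0],
   [1,1,0,0,0,0,0,0,2,0,0,0,0,1,0,0],
   [1,1,0,0,0,0,0,0,2,0,0,0,0,1,1,0],
   [1,1,0,0,0,0,0,0,2,0,0,0,0,1,2,0],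
   [1,1,0,0,0,0,0,0,2,0,0,0,0,2,0,0],
   [1,1,0,0,0,0,0,0,2,0,0,0,0,2,1,0],
   [1,1,0,0,0,0,0,0,2,0,0,0,0,2,2,0],
   [1,1,0,0,0,0,0,0,2,0,0,1,0,0,0,0],
   [1,1,0,0,0,0,0,0,2,0,0,1,0,0,1,0],
   [1,1,0,0,0,0,0,0,2,0,0,1,0,0,2,0],
   [1,1,0,0,0,0,0,0,2,0,0,1,0,1,0,0],
   [1,1,0,0,0,0,0,0,2,0,0,1,0,1,1,0],
   [1,1,0,0,0,0,0,0,2,0,0,1,0,1,2,0],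
   [1,1,0,0,0,0,0,0,2,0,0,1,0,2,0,0],
   [1,1,0,0,0,0,0,0,2,0,0,1,0,2,1,0],
   [1,1,0,0,0,0,0,0,2,0,0,1,0,2,2,0],
   [1,1,0,0,0,0,0,0,2,0,0,1,1,0,0,0],
   [1,1,0,0,0,0,0,0,2,0,0,1,1,0,1,0],
   [1,1,0,0,0,0,0,0,2,0,0,1,1,0,2,0],
   [1,1,0,0,0,0,0,0,2,0,0,1,2,0,0,0],
   [1,1,0,0,0,0,0,0,2,0,0,1,2,0,1,0],
   [1,1,0,0,0,0,0,0,2,0,0,1,2,0,2,0],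
   [1,1,0,0,0,0,0,0,2,0,0,2,0,0,0,0],
   [1,1,0,0,0,0,0,0,2,0,0,2,0,0,1,0],
   [1,1,0,0,0,0,0,0,2,0,0,2,0,0,2,0],
   [1,1,0,0,0,0,0,0,2,0,0,2,0,1,0,0],
   [1,1,0,0,0,0,0,0,2,0,0,2,0,1,1,0],
   [1,1,0,0,0,0,0,0,2,0,0,2,0,1,2,0],
   [1,1,0,0,0,0,0,0,2,0,0,2,0,2,0,0],
   [1,1,0,0,0,0,0,0,2,0,0,2,0,2,1,0],
   [1,1,0,0,0,0,0,0,2,0,0,2,0,2,2,0],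
   [1,1,0,0,0,1,0,0,0,0,0,0,0,0,0,0],
   [1,1,0,0,0,2,0,0,0,0,0,0,0,0,0,0],
   [1,1,1,0,0,0,0,0,0,0,0,1,0,0,0,0],
   [1,1,1,0,0,0,0,0,0,1,0,0,0,0,0,0],
   [1,1,1,0,0,0,0,0,0,2,0,2,0,0,0,0],
   [1,1,1,0,0,0,0,0,1,0,0,2,0,0,0,0],
   [1,1,1,0,0,0,0,0,2,0,0,0,0,0,0,0],
   [1,1,2,2,0,0,0,0,0,0,0,1,0,0,0,0],
   [1,1,2,2,0,0,0,0,0,0,1,0,0,0,0,0],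
   [1,1,2,2,0,0,0,0,0,0,2,2,0,0,0,0],
   [1,1,2,2,0,0,0,0,0,1,0,0,0,0,0,0],
   [1,1,2,2,0,0,0,0,0,2,0,2,0,0,0,0],
   [1,1,2,2,0,0,0,0,1,0,0,2,0,0,0,0],
   [1,1,2,2,0,0,0,0,1,0,1,1,0,0,0,0],
   [1,1,2,2,0,0,0,0,1,0,2,0,0,0,0,0],
   [1,1,2,2,0,0,0,0,1,1,0,1,0,0,0,0],
   [1,1,2,2,0,0,0,0,1,2,0,0,0,0,0,0],
   [1,1,2,2,0,0,0,0,2,0,0,0,0,0,0,0],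
   [1,1,2,2,0,0,0,0,2,0,0,0,0,0,1,0],
   [1,1,2,2,0,0,0,0,2,0,0,0,0,0,2,0],
   [1,1,2,2,0,0,0,0,2,0,1,2,0,0,0,0],
   [1,1,2,2,0,0,0,0,2,0,1,2,0,0,1,0],
   [1,1,2,2,0,0,0,0,2,0,1,2,0,0,2,0],
   [1,1,2,2,0,0,0,0,2,0,1,2,0,0,2,1],
   [1,1,2,2,0,0,0,0,2,0,1,2,0,0,2,2],
   [1,1,2,2,0,0,0,0,2,0,2,1,0,0,0,0],
   [1,1,2,2,0,0,0,0,2,0,2,1,0,0,1,0],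
   [1,1,2,2,0,0,0,0,2,0,2,1,0,0,2,0],
   [1,1,2,2,0,0,0,0,2,1,0,2,0,0,0,0],
   [1,1,2,2,0,0,0,0,2,1,0,2,0,0,0,1],
   [1,1,2,2,0,0,0,0,2,1,0,2,0,0,0,2],
   [1,1,2,2,0,0,0,0,2,2,0,1,0,0,0,0],
   [1,1,2,2,0,0,0,0,2,2,0,1,0,0,0,1],
   [1,1,2,2,0,0,0,0,2,2,0,1,0,0,0,2],
   [1,2,0,0,0,2,0,0,0,0,0,0,0,0,0,0],
   [2,0,0,0,0,0,0,0,0,0,0,0,0,0,0,0],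
   [2,0,0,0,0,0,0,0,0,0,0,0,0,0,0,1],
   [2,0,0,0,0,0,0,0,0,0,0,0,0,0,0,2],
   [2,0,0,0,0,0,0,0,0,0,0,0,0,1,0,0],
   [2,0,0,0,0,0,0,0,0,0,0,0,0,2,0,0],
   [2,0,0,0,0,0,0,0,0,0,0,0,1,0,0,0],
   [2,0,0,0,0,0,0,0,0,0,0,0,1,1,0,0],
   [2,0,0,0,0,0,0,0,0,0,0,0,1,2,0,0],
   [2,0,0,0,0,0,0,0,0,0,0,0,2,0,0,0],
   [2,0,0,0,0,0,0,0,0,0,0,0,2,1,0,0],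
   [2,0,0,0,0,0,0,0,0,0,0,0,2,2,0,0],
   [2,0,0,0,0,0,0,0,0,1,0,0,0,0,0,0],
   [2,0,0,0,0,0,0,0,0,1,0,0,0,0,0,1],
   [2,0,0,0,0,0,0,0,0,1,0,0,0,0,0,2],
   [2,0,0,0,0,0,0,0,0,2,0,0,0,0,0,0],
   [2,0,0,0,0,0,0,0,0,2,0,0,0,0,0,1],
   [2,0,0,0,0,0,0,0,0,2,0,0,0,0,0,2],
   [2,0,0,0,0,0,0,1,0,0,2,0,0,0,0,0],
   [2,0,0,0,0,0,0,2,0,0,1,0,0,0,0,0],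
   [2,0,0,0,0,0,1,0,0,0,0,0,0,0,0,0],
   [2,0,0,0,0,0,1,1,0,0,2,0,0,0,0,0],
   [2,0,0,0,0,0,1,1,0,1,1,0,0,0,0,0],
   [2,0,0,0,0,0,1,1,0,2,0,0,0,0,0,0],
   [2,0,0,0,0,0,1,2,0,0,1,0,0,0,0,0],
   [2,0,0,0,0,0,1,2,0,1,2,0,0,0,0,0],
   [2,0,0,0,0,0,1,2,0,2,0,0,0,0,0,0],
   [2,0,0,0,0,0,2,0,0,0,0,0,0,0,0,0],
   [2,0,0,0,0,0,2,1,0,0,2,0,0,0,0,0],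
   [2,0,0,0,0,0,2,1,0,1,1,0,0,0,0,0],
   [2,0,0,0,0,0,2,1,0,2,0,0,0,0,0,0],
   [2,0,0,0,0,0,2,2,0,0,1,0,0,0,0,0],
   [2,0,0,0,0,0,2,2,0,1,2,0,0,0,0,0],
   [2,0,0,0,0,0,2,2,0,2,0,0,0,0,0,0],
   [2,0,0,0,0,1,0,0,0,0,0,0,0,0,0,0],
   [2,0,0,0,0,1,0,0,0,0,0,0,0,0,0,1],
   [2,0,0,0,0,1,0,0,0,0,0,0,0,0,0,2],
   [2,0,0,0,0,1,0,0,0,0,0,0,0,1,0,0],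
   [2,0,0,0,0,1,0,0,0,0,0,0,0,2,0,0],
   [2,0,0,0,0,1,0,0,0,1,0,0,0,0,0,0],
   [2,0,0,0,0,1,0,0,0,1,0,0,0,0,0,1],
   [2,0,0,0,0,1,0,0,0,1,0,0,0,0,0,2],
   [2,0,0,0,0,1,0,0,0,1,0,0,1,0,0,0],
   [2,0,0,0,0,1,0,0,0,1,0,0,2,0,0,0],
   [2,0,0,0,0,1,0,0,0,2,0,0,0,0,0,0],
   [2,0,0,0,0,1,0,0,0,2,0,0,0,0,0,1],
   [2,0,0,0,0,1,0,0,0,2,0,0,0,0,0,2],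
   [2,0,0,0,0,1,0,1,0,0,2,0,0,0,0,0],
   [2,0,0,0,0,1,0,2,0,0,1,0,0,0,0,0],
   [2,0,0,0,0,1,1,0,0,1,0,0,0,0,0,0],
   [2,0,0,0,0,1,1,1,0,2,1,0,0,0,0,0],
   [2,0,0,0,0,1,1,2,0,2,2,0,0,0,0,0],
   [2,0,0,0,0,1,2,0,0,1,0,0,0,0,0,0],
   [2,0,0,0,0,1,2,1,0,2,1,0,0,0,0,0],
   [2,0,0,0,0,1,2,2,0,2,2,0,0,0,0,0],
   [2,0,0,0,0,2,0,0,0,0,0,0,0,0,0,0],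
   [2,0,0,0,0,2,0,0,0,0,0,0,0,0,0,1],
   [2,0,0,0,0,2,0,0,0,0,0,0,0,0,0,2],
   [2,0,0,0,0,2,0,0,0,0,0,0,0,1,0,0],
   [2,0,0,0,0,2,0,0,0,0,0,0,0,2,0,0],
   [2,0,0,0,0,2,0,0,0,0,1,0,0,0,0,0],
   [2,0,0,0,0,2,0,0,0,0,2,0,0,0,0,0],
   [2,0,0,0,0,2,0,0,0,1,0,0,0,0,0,0],
   [2,0,0,0,0,2,0,0,0,1,0,0,0,0,0,1],
   [2,0,0,0,0,2,0,0,0,1,0,0,0,0,0,2],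
   [2,0,0,0,0,2,0,0,0,1,0,0,0,1,0,0],
   [2,0,0,0,0,2,0,0,0,1,0,0,0,2,0,0],
   [2,0,0,0,0,2,0,0,0,1,1,0,0,0,0,0],
   [2,0,0,0,0,2,0,0,0,1,2,0,0,0,0,0],
   [2,0,0,0,0,2,0,0,0,2,0,0,0,0,0,0],
   [2,0,0,0,0,2,0,0,0,2,0,0,0,0,0,1],
   [2,0,0,0,0,2,0,0,0,2,0,0,0,0,0,2],
   [2,0,0,0,0,2,0,0,0,2,0,0,0,1,0,0],
   [2,0,0,0,0,2,0,0,0,2,0,0,0,2,0,0],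
   [2,0,0,0,0,2,0,0,0,2,0,0,1,0,0,0],
   [2,0,0,0,0,2,0,0,0,2,0,0,1,1,0,0],
   [2,0,0,0,0,2,0,0,0,2,0,0,1,2,0,0],
   [2,0,0,0,0,2,0,0,0,2,0,0,2,0,0,0],
   [2,0,0,0,0,2,0,0,0,2,0,0,2,1,0,0],
   [2,0,0,0,0,2,0,0,0,2,0,0,2,2,0,0],
   [2,0,0,0,0,2,0,0,0,2,1,0,0,0,0,0],
   [2,0,0,0,0,2,0,0,0,2,2,0,0,0,0,0],
   [2,0,0,0,0,2,0,1,0,0,2,0,0,0,0,0],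
   [2,0,0,0,0,2,0,2,0,0,1,0,0,0,0,0],
   [2,0,0,0,0,2,1,0,0,2,0,0,0,0,0,0],
   [2,0,0,0,0,2,1,0,0,2,1,0,0,0,0,0],
   [2,0,0,0,0,2,1,0,0,2,2,0,0,0,0,0],
   [2,0,0,0,0,2,1,1,0,0,1,0,0,0,0,0],
   [2,0,0,0,0,2,1,2,0,0,2,0,0,0,0,0],
   [2,0,0,0,0,2,2,0,0,2,0,0,0,0,0,0],
   [2,0,0,0,0,2,2,0,0,2,1,0,0,0,0,0],
   [2,0,0,0,0,2,2,0,0,2,2,0,0,0,0,0],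
   [2,0,0,0,0,2,2,1,0,0,1,0,0,0,0,0],
   [2,0,0,0,0,2,2,2,0,0,2,0,0,0,0,0],
   [2,1,0,0,0,1,0,0,0,0,0,0,0,0,0,0],
   [2,2,0,0,0,0,0,0,0,0,0,0,0,0,0,0],
   [2,2,0,0,0,0,0,0,0,0,0,0,0,0,1,0],
   [2,2,0,0,0,0,0,0,0,0,0,0,0,0,2,0],
   [2,2,0,0,0,0,0,0,0,0,0,0,0,1,0,0],
   [2,2,0,0,0,0,0,0,0,0,0,0,0,1,1,0],
   [2,2,0,0,0,0,0,0,0,0,0,0,0,1,2,0],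
   [2,2,0,0,0,0,0,0,0,0,0,0,0,2,0,0],
   [2,2,0,0,0,0,0,0,0,0,0,0,0,2,1,0],
   [2,2,0,0,0,0,0,0,0,0,0,0,0,2,2,0],
   [2,2,0,0,0,0,0,0,0,0,0,1,0,0,0,0],
   [2,2,0,0,0,0,0,0,0,0,0,1,0,0,1,0],
   [2,2,0,0,0,0,0,0,0,0,0,1,0,0,2,0],
   [2,2,0,0,0,0,0,0,0,0,0,1,0,1,0,0],
   [2,2,0,0,0,0,0,0,0,0,0,1,0,1,1,0],
   [2,2,0,0,0,0,0,0,0,0,0,1,0,1,2,0],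
   [2,2,0,0,0,0,0,0,0,0,0,1,0,2,0,0],
   [2,2,0,0,0,0,0,0,0,0,0,1,0,2,1,0],
   [2,2,0,0,0,0,0,0,0,0,0,1,0,2,2,0],
   [2,2,0,0,0,0,0,0,0,0,0,2,0,0,0,0],
   [2,2,0,0,0,0,0,0,0,0,0,2,0,0,1,0],
   [2,2,0,0,0,0,0,0,0,0,0,2,0,0,2,0],
   [2,2,0,0,0,0,0,0,0,0,0,2,0,1,0,0],
   [2,2,0,0,0,0,0,0,0,0,0,2,0,1,1,0],
   [2,2,0,0,0,0,0,0,0,0,0,2,0,1,2,0],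
   [2,2,0,0,0,0,0,0,0,0,0,2,0,2,0,0],
   [2,2,0,0,0,0,0,0,0,0,0,2,0,2,1,0],
   [2,2,0,0,0,0,0,0,0,0,0,2,0,2,2,0],
   [2,2,0,0,0,0,0,0,0,0,0,2,1,0,0,0],
   [2,2,0,0,0,0,0,0,0,0,0,2,1,0,1,0],
   [2,2,0,0,0,0,0,0,0,0,0,2,1,0,2,0],
   [2,2,0,0,0,0,0,0,0,0,0,2,2,0,0,0],
   [2,2,0,0,0,0,0,0,0,0,0,2,2,0,1,0],
   [2,2,0,0,0,0,0,0,0,0,0,2,2,0,2,0],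
   [2,2,0,0,0,0,0,0,1,0,0,0,0,0,0,0],
   [2,2,0,0,0,0,0,0,1,0,0,0,0,0,1,0],
   [2,2,0,0,0,0,0,0,1,0,0,0,0,0,2,0],
   [2,2,0,0,0,0,0,0,1,0,0,0,0,1,0,0],
   [2,2,0,0,0,0,0,0,1,0,0,0,0,1,1,0],
   [2,2,0,0,0,0,0,0,1,0,0,0,0,1,2,0],
   [2,2,0,0,0,0,0,0,1,0,0,0,0,2,0,0],
   [2,2,0,0,0,0,0,0,1,0,0,0,0,2,1,0],
   [2,2,0,0,0,0,0,0,1,0,0,0,0,2,2,0],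
   [2,2,0,0,0,0,0,0,1,0,0,0,1,0,0,0],
   [2,2,0,0,0,0,0,0,1,0,0,0,1,0,1,0],
   [2,2,0,0,0,0,0,0,1,0,0,0,1,0,2,0],
   [2,2,0,0,0,0,0,0,1,0,0,0,2,0,0,0],
   [2,2,0,0,0,0,0,0,1,0,0,0,2,0,1,0],
   [2,2,0,0,0,0,0,0,1,0,0,0,2,0,2,0],
   [2,2,0,0,0,0,0,0,1,0,0,1,0,0,0,0],
   [2,2,0,0,0,0,0,0,1,0,0,1,0,0,1,0],
   [2,2,0,0,0,0,0,0,1,0,0,1,0,0,2,0],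
   [2,2,0,0,0,0,0,0,1,0,0,1,0,1,0,0],
   [2,2,0,0,0,0,0,0,1,0,0,1,0,1,1,0],
   [2,2,0,0,0,0,0,0,1,0,0,1,0,1,2,0],
   [2,2,0,0,0,0,0,0,1,0,0,1,0,2,0,0],
   [2,2,0,0,0,0,0,0,1,0,0,1,0,2,1,0],
   [2,2,0,0,0,0,0,0,1,0,0,1,0,2,2,0],
   [2,2,0,0,0,0,0,0,1,0,0,2,0,0,0,0],
   [2,2,0,0,0,0,0,0,1,0,0,2,0,0,1,0],
   [2,2,0,0,0,0,0,0,1,0,0,2,0,0,2,0],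
   [2,2,0,0,0,0,0,0,1,0,0,2,0,1,0,0],
   [2,2,0,0,0,0,0,0,1,0,0,2,0,1,1,0],
   [2,2,0,0,0,0,0,0,1,0,0,2,0,1,2,0],
   [2,2,0,0,0,0,0,0,1,0,0,2,0,2,0,0],
   [2,2,0,0,0,0,0,0,1,0,0,2,0,2,1,0],
   [2,2,0,0,0,0,0,0,1,0,0,2,0,2,2,0],
   [2,2,0,0,0,0,0,0,2,0,0,0,0,0,0,0],
   [2,2,0,0,0,0,0,0,2,0,0,0,0,0,1,0],
   [2,2,0,0,0,0,0,0,2,0,0,0,0,0,2,0],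
   [2,2,0,0,0,0,0,0,2,0,0,0,0,1,0,0],
   [2,2,0,0,0,0,0,0,2,0,0,0,0,1,1,0],
   [2,2,0,0,0,0,0,0,2,0,0,0,0,1,2,0],
   [2,2,0,0,0,0,0,0,2,0,0,0,0,2,0,0],
   [2,2,0,0,0,0,0,0,2,0,0,0,0,2,1,0],
   [2,2,0,0,0,0,0,0,2,0,0,0,0,2,2,0],
   [2,2,0,0,0,0,0,0,2,0,0,1,0,0,0,0],
   [2,2,0,0,0,0,0,0,2,0,0,1,0,0,1,0],
   [2,2,0,0,0,0,0,0,2,0,0,1,0,0,2,0],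
   [2,2,0,0,0,0,0,0,2,0,0,1,0,1,0,0],
   [2,2,0,0,0,0,0,0,2,0,0,1,0,1,1,0],
   [2,2,0,0,0,0,0,0,2,0,0,1,0,1,2,0],
   [2,2,0,0,0,0,0,0,2,0,0,1,0,2,0,0],
   [2,2,0,0,0,0,0,0,2,0,0,1,0,2,1,0],
   [2,2,0,0,0,0,0,0,2,0,0,1,0,2,2,0],
   [2,2,0,0,0,0,0,0,2,0,0,1,1,0,0,0],
   [2,2,0,0,0,0,0,0,2,0,0,1,1,0,1,0],
   [2,2,0,0,0,0,0,0,2,0,0,1,1,0,2,0],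
   [2,2,0,0,0,0,0,0,2,0,0,1,2,0,0,0],
   [2,2,0,0,0,0,0,0,2,0,0,1,2,0,1,0],
   [2,2,0,0,0,0,0,0,2,0,0,1,2,0,2,0],
   [2,2,0,0,0,0,0,0,2,0,0,2,0,0,0,0],
   [2,2,0,0,0,0,0,0,2,0,0,2,0,0,1,0],
   [2,2,0,0,0,0,0,0,2,0,0,2,0,0,2,0],
   [2,2,0,0,0,0,0,0,2,0,0,2,0,1,0,0],
   [2,2,0,0,0,0,0,0,2,0,0,2,0,1,1,0],
   [2,2,0,0,0,0,0,0,2,0,0,2,0,1,2,0],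
   [2,2,0,0,0,0,0,0,2,0,0,2,0,2,0,0],
   [2,2,0,0,0,0,0,0,2,0,0,2,0,2,1,0],
   [2,2,0,0,0,0,0,0,2,0,0,2,0,2,2,0],
   [2,2,0,0,0,0,0,0,2,1,0,0,0,0,0,0],
   [2,2,0,0,0,0,0,0,2,2,0,0,0,0,0,0],
   [2,2,0,0,0,1,0,0,0,0,0,0,0,0,0,0],
   [2,2,0,0,0,2,0,0,0,0,0,0,0,0,0,0],
   [2,2,1,0,0,0,0,0,0,0,0,1,0,0,0,0],
   [2,2,1,0,0,0,0,0,0,0,1,0,0,0,0,0],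
   [2,2,1,0,0,0,0,0,0,0,2,2,0,0,0,0],
   [2,2,1,0,0,0,0,0,0,1,0,1,0,0,0,0],
   [2,2,1,0,0,0,0,0,0,2,0,1,0,0,0,0],
   [2,2,1,0,0,0,0,0,1,0,0,2,0,0,0,0],
   [2,2,1,0,0,0,0,0,1,0,0,2,0,0,1,0],
   [2,2,1,0,0,0,0,0,1,0,0,2,0,0,2,0],
   [2,2,1,0,0,0,0,0,1,0,1,1,0,0,0,0],
   [2,2,1,0,0,0,0,0,1,0,1,1,0,0,1,0],
   [2,2,1,0,0,0,0,0,1,0,1,1,0,0,2,0],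
   [2,2,1,0,0,0,0,0,1,0,2,0,0,0,0,0],
   [2,2,1,0,0,0,0,0,1,0,2,0,0,0,0,1],
   [2,2,1,0,0,0,0,0,1,0,2,0,0,0,0,2],
   [2,2,1,0,0,0,0,0,1,0,2,0,0,0,1,0],
   [2,2,1,0,0,0,0,0,1,0,2,0,0,0,2,0],
   [2,2,1,0,0,0,0,0,1,1,0,2,0,0,0,0],
   [2,2,1,0,0,0,0,0,1,1,0,2,0,0,0,1],
   [2,2,1,0,0,0,0,0,1,1,0,2,0,0,0,2],
   [2,2,1,0,0,0,0,0,1,2,0,2,0,0,0,0],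
   [2,2,1,0,0,0,0,0,1,2,0,2,0,0,0,1],
   [2,2,1,0,0,0,0,0,1,2,0,2,0,0,0,2],
   [2,2,1,0,0,0,0,0,2,0,0,0,0,0,0,0],
   [2,2,1,0,0,0,0,0,2,0,1,2,0,0,0,0],
   [2,2,1,0,0,0,0,0,2,0,2,1,0,0,0,0],
   [2,2,1,0,0,0,0,0,2,1,0,0,0,0,0,0],
   [2,2,1,0,0,0,0,0,2,2,0,0,0,0,0,0],
   [2,2,2,0,1,0,0,0,0,0,0,2,0,0,0,0],
   [2,2,2,0,1,0,0,0,0,1,0,1,0,0,0,0],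
   [2,2,2,0,1,0,0,0,0,2,0,0,0,0,0,0],
   [2,2,2,0,1,0,0,0,1,0,0,0,0,0,0,0],
   [2,2,2,0,1,0,0,0,2,0,0,1,0,0,0,0]]

end H49.Order3.Fi24
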