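/-
Generated data: a fixed node or a conjugating word for each leaf.
-/
import Mathlib.Data.Nat.Notation

set_option autoImplicit false
set_option maxRecDepth 100000
set_option linter.all false

namespace H49.Order3.Fi24

def wit0 : List (ℕ × ℕ × List ℕ) :=
  [(0, 199, []),
   (0, 199, []),
   (0, 11, []),
   (0, 11, []),
   (0, 114, []),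
   (0, 114, []),
   (0, 199, []),
   (0, 199, []),
   (0, 6, []),
   (0, 2972, []),
   (0, 199, []),
   (0, 6, []),
   (0, 199, []),
   (0, 2972, []),
   (0, 72, []),
   (0, 240, []),
   (0, 199, []),
   (0, 72, []),
   (0, 199, []),
   (0, 240, []),
   (0, 11, []),
   (0, 384, []),
   (0, 470, []),
   (0, 11, []),
   (0, 470, []),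
   (0, 384, []),
   (0, 20, []),
   (0, 11, []),
   (0, 410, []),
   (0, 300, []),
   (0, 11, []),
   (0, 3011, []),
   (0, 11, []),
   (0, 249, []),
   (0, 300, []),
   (0, 11, []),
   (0, 1492, []),
   (0, 2315, []),
   (0, 3011, []),
   (0, 163, []),
   (0, 163, []),
   (0, 20, []),
   (0, 410, []),
   (0, 11, []),
   (0, 300, []),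
   (0, 1492, []),
   (0, 11, []),
   (0, 300, []),
   (0, 3011, []),
   (0, 11, []),
   (0, 249, []),
   (0, 11, []),
   (0, 3011, []),
   (0, 2315, []),
   (0, 163, []),
   (0, 163, []),
   (0, 2963, []),
   (0, 120, []),
   (0, 2963, []),
   (0, 894, []),
   (0, 2721, []),
   (0, 2963, []),
   (0, 2315, []),
   (0, 2963, []),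
   (0, 2963, []),
   (0, 2963, []),
   (0, 821, []),
   (0, 737, []),
   (0, 307, []),
   (0, 307, []),
   (0, 295, []),
   (0, 300, []),
   (0, 307, []),
   (0, 1900, []),
   (0, 957, []),
   (0, 2963, []),
   (0, 2963, []),
   (0, 120, []),
   (0, 2721, []),
   (0, 894, []),
   (0, 2315, []),
   (0, 2963, []),
   (0, 307, []),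
   (0, 307, []),
   (0, 307, []),
   (0, 300, []),
   (0, 295, []),
   (0, 2963, []),
   (0, 2963, []),
   (0, 737, []),
   (0, 821, []),
   (0, 2963, []),
   (0, 957, []),
   (0, 1900, []),
   (0, 4, []),
   (0, 2315, []),
   (0, 307, []),
   (0, 3431, []),
   (0, 3431, []),
   (0, 822, []),
   (0, 5520, []),
   (0, 199, []),
   (0, 1540, []),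
   (0, 199, [])]

def wit1 : List (ℕ × ℕ × List ℕ) :=
  [(0, 4371, []),
   (0, 72, []),
   (0, 3011, []),
   (0, 199, []),
   (0, 72, []),
   (0, 199, []),
   (0, 3011, []),
   (0, 4, []),
   (0, 307, []),
   (0, 2315, []),
   (0, 3431, []),
   (0, 3431, []),
   (0, 1540, []),
   (0, 4371, []),
   (0, 199, []),
   (0, 822, []),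
   (0, 199, []),
   (0, 5520, []),
   (0, 72, []),
   (0, 3011, []),
   (0, 199, []),
   (0, 72, []),
   (0, 199, []),
   (0, 3011, []),
   (0, 20, []),
   (0, 335, []),
   (0, 300, []),
   (0, 300, []),
   (0, 300, []),
   (0, 1023, []),
   (0, 683, []),
   (0, 163, []),
   (0, 70, []),
   (0, 470, []),
   (0, 11, []),
   (0, 3128, []),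
   (0, 2963, []),
   (0, 470, []),
   (0, 470, []),
   (0, 557, []),
   (0, 163, []),
   (0, 15, []),
   (0, 249, []),
   (0, 249, []),
   (0, 410, []),
   (0, 557, []),
   (0, 470, []),
   (1, 1, [1,4,6,0,1,4,7,0,1,2,3,5,0,1,2,8,5,0,1,4,6,3,0,1,2,5,0,1,4,9,7,3,2,1,0,5,8,11,3,2,1,4,6,0,1,4,2,3,1,2,8,5,0,1,4,6,4,7,3,1,2,5,0,1,4,9,7,3,2,1,0,5,8,4,3,7,2,3,1,2,0,1,4,6,3,7,2,3,1,2,0,1,4,9,7,3,2,1,0,8,5,11,8,10,11,10,11,10,8,11,5,8,0,1,2,3,7,9,4,1,0,2,1,3,2,7,3,6,4,1,0,2,1,3,2,7,3,4,2,8,5,0,1,4,6,2,0,1,4,3,7,2,3,0,1,2,5,0,1,4,6,4,7,3,1,2,5,0,1,4,9,7,3,2,1,0,5,11,8,10,11,10,11,10,8,11,5,0,1,2,3,7,9,4,1,0,5,2,1,3,7,4,6,4,1,0,5,2,1,0,3,2,7,3,4,1,0,2,6,4,1,0,5,8,2,6,1,4,0,1,5,0,8,5,11,8,10,11,10,11,10,8,11,5,8,0,5,1,0,4,1,6,8,5,0,1,2,3,7,9,4,1,0,5,2,1,0,6,4,1,0,5,8,2,1,0,5,3,2,1,0,7,3,9,4,1,0,5,6,11,10,8,5,0,1,2,3,7,9,4,1,0,5,8,2,1,3,2,6,4,1,0,5,8,2,1,0,5,3,2,1,0,4,1,0,2,1,6,4,1,2,3]),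
   (1, 1, [1,4,6,0,1,4,7,0,1,2,3,5,0,1,2,8,5,0,1,4,6,3,0,1,2,5,0,1,4,9,7,3,2,1,0,5,8,11,3,2,1,4,6,0,1,4,2,3,1,2,8,5,0,1,4,6,4,7,3,1,2,5,0,1,4,9,7,3,2,1,0,5,8,7,3,1,2,0,1,4,6,4,2,3,1,2,0,1,4,9,7,3,2,1,0,8,5,11,8,10,11,10,11,10,8,11,5,8,0,1,2,3,7,9,4,1,0,2,1,3,2,4,6,4,1,0,2,1,3,7,4,1,2,8,5,0,1,4,6,7,3,2,1,4,3,7,2,3,0,1,2,5,0,1,4,6,3,1,2,11,8,5,0,1,4,9,7,3,2,1,0,5,8,11,10,11,8,5,0,1,2,3,7,9,4,1,0,5,8,11,2,1,3,6,4,1,0,5,2,1,0,3,2,7,3,4,1,2,3,7,6,4,1,0,5,8,2,1,4,9,7,3,2,1,4,6,0,1,4,3,2,1,0,8,5,11,8,10,11,10,11,10,8,11,5,8,0,1,2,3,4,1,0,6,4,1,2,3,7,9,8,5,0,1,2,3,7,4,1,0,2,3,6,4,1,0,5,8,2,1,0,4,6,11,10,8,11,5,0,1,2,3,7,9,4,1,0,5,2,1,3,7,4,6,4,1,0,5,2,1,0,3,2,1,7,9,4,1,2]),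
   (0, 20, []),
   (0, 300, []),
   (0, 335, []),
   (0, 300, []),
   (0, 300, []),
   (0, 683, []),
   (0, 1023, []),
   (0, 163, []),
   (0, 249, []),
   (0, 15, []),
   (0, 410, []),
   (0, 249, []),
   (0, 470, []),
   (0, 557, []),
   (0, 163, []),
   (0, 470, []),
   (0, 70, []),
   (0, 3128, []),
   (0, 11, []),
   (0, 470, []),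
   (0, 2963, []),
   (0, 557, []),
   (0, 470, []),
   (1, 1, [1,4,6,0,1,4,7,0,1,2,3,5,0,1,2,8,5,0,1,4,6,3,0,1,2,5,0,1,4,9,7,3,2,1,0,5,8,11,3,2,1,4,6,0,1,4,2,3,1,2,8,5,0,1,4,6,4,7,3,1,2,5,0,1,4,9,7,3,2,1,0,5,8,4,3,0,1,2,5,0,1,4,6,3,7,2,3,1,2,0,1,4,9,7,3,2,1,0,8,5,11,8,10,11,10,11,10,8,11,5,8,0,1,2,3,7,9,4,1,0,2,1,3,2,7,3,6,4,1,0,5,2,1,0,3,4,2,8,5,0,1,4,6,7,3,2,1,4,3,7,1,2,3,0,1,2,5,0,1,4,6,3,1,2,11,8,5,0,1,4,9,7,3,2,1,0,5,8,11,10,11,8,5,0,1,2,3,7,9,4,1,0,5,8,11,2,1,3,6,4,1,0,5,2,1,0,3,2,1,7,3,4,1,2,3,7,6,4,1,0,5,8,2,4,0,1,5,0,8,5,11,8,10,11,10,11,10,8,11,5,8,0,5,1,0,4,10,8,5,0,1,2,3,7,4,1,0,5,8,2,1,3,6,4,1,0,5,2,1,0,3,2,4,1,2,6,4,1,0,5,8,11,10,8,5,0,1,2,3,7,9,4,1,0,5,2,1,6,4,1,0,5,8,2,1,0,5,3,2,1,7,3,2,4,1,0,5,8,2,6,4,1,0,2,1,3,2,7,9]),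
   (1, 0, [1,4,7,3,5,0,1,2,8,5,0,1,4,6,3,1,2,5,0,1,4,9,7,3,2,1,0,5,8,11,4,6,7,3,2,0,1,4,7,0,1,2,3,5,0,1,2,8,5,0,1,4,6,4,7,2,3,1,2,0,1,4,9,7,3,2,1,0,5,8,10,1,2,0,1,4,9,7,3,2,1,0,8,5,11,8,10,11,10,11,10,8,11,5,8,0,1,2,3,7,9,4,1,0,2,1,8,5,0,1,4,6,2,5,0,1,4,9,3,7,1,2,3,0,1,2,5,0,1,4,6,4,7,3,1,2,5,0,1,4,9,7,3,2,1,0,5,11,8,10,11,10,11,10,8,11,5,0,1,2,3,7,9,4,1,0,5,2,1,3,7,4,6,4,1,0,5,2,1,0,3,2,1,7,3,9,4,1,0,5,2,6,4,1,0,5,8,3,2,1,4,9,7,3,2,1,0,8,5,11,8,10,11,10,11,10,8,11,5,8,0,1,2,3,7,9,4,1,2,3,8,5,0,1,2,3,7,9,4,1,0,5,2,1,0,6,4,1,0,5,8,2,1,0,3,2,1,4,1,0,5,6,11,10,8,11,5,0,1,2,3,7,9,4,1,0,5,2,1,0,3,2,6,4,1,0,5,2,1,0,3,2,1,7,3,4,1,0,2,6,4,1,0,2]),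
   (0, 15, []),
   (0, 249, []),
   (0, 11, []),
   (0, 725, []),
   (0, 725, []),
   (0, 491, []),
   (0, 2510, []),
   (0, 323, []),
   (0, 249, []),
   (0, 163, []),
   (0, 1127, []),
   (0, 182, []),
   (0, 300, []),
   (0, 11, []),
   (0, 182, []),
   (0, 470, []),
   (0, 11, []),
   (1, 1, [1,4,6,0,1,4,7,0,1,2,3,5,0,1,2,8,5,0,1,4,6,3,0,1,2,5,0,1,4,9,7,3,2,1,0,5,8,11,3,2,1,4,6,0,1,4,2,3,1,2,8,5,0,1,4,6,4,7,3,1,2,5,0,1,4,9,7,3,2,1,0,5,8,2,0,1,4,6,3,2,1,4,7,3,2,1,0,8,5,11,8,10,11,10,11,10,8,11,5,8,0,1,2,3,7,4,1,2,3,6,4,1,0,2,4,7,2,3,0,1,2,5,0,1,4,6,3,7,2,3,1,2,0,1,4,9,7,3,2,1,0,8,5,11,8,10,11,10,11,10,8,11,5,8,0,1,2,3,7,9,4,1,0,2,1,3,2,7,3,6,4,1,0,5,2,1,0,3,2,7,4,1,4,6,3,2,1,4,9,7,3,2,1,0,8,5,11,8,10,11,10,11,10,8,11,5,8,0,1,2,3,7,9,4,1,2,3,6,4,1,8,5,0,1,2,3,7,4,1,0,2,3,6,4,1,0,5,8,2,1,0,5,3,4,1,0,2,1,3,7,6,11,8,5,0,1,2,3,7,4,1,0,5,8,2,1,3,6,4,1,0,5,8,11,2,1,0,3,2,4,1,2,3]),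
   (1, 1, [1,4,6,0,1,4,7,0,1,2,3,5,0,1,2,8,5,0,1,4,6,3,0,1,2,5,0,1,4,9,7,3,2,1,0,5,8,11,3,2,1,4,6,0,1,4,2,3,1,2,8,5,0,1,4,6,4,7,3,1,2,5,0,1,4,9,7,3,2,4,6,2,0,1,4,3,7,2,3,5,0,1,2,8,5,0,1,4,6,3,1,2,11,8,5,0,1,4,9,7,3,2,1,0,5,8,11,10,11,8,5,0,1,2,3,7,9,4,1,0,5,8,11,2,1,3,6,4,1,0,5,8,2,1,0,5,3,2,7,3,4,1,0,2,6,4,1,0,5,8,2,8,5,0,1,4,6,0,1,2,5,0,1,4,3,7,2,3,0,1,2,8,5,0,1,4,6,3,1,2,5,0,1,4,9,7,3,2,1,0,5,11,8,10,11,10,11,10,8,11,5,0,1,2,3,7,9,4,1,0,5,2,1,3,6,4,1,0,5,8,2,1,0,3,2,7,3,4,1,0,5,2,1,0,6,4,1,0,5,8,2,3,2,1,0,8,5,11,8,10,11,10,11,10,8,11,5,8,0,1,2,3,8,5,0,1,2,3,7,9,4,1,0,5,8,2,1,3,2,7,6,4,1,0,5,8,2,1,0,5,3,2,1,7,3,2,4,1,0,2,1,3,2,4,11,10,8,5,0,1,2,3,7,9,4,1,0,2,1,3,2,7,3,4,6,4,1,0,5,2,1,0,3,2,1,7,9,4,6]),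
   (1, 1, [1,4,6,0,1,4,7,0,1,2,3,5,0,1,2,8,5,0,1,4,6,3,0,1,2,5,0,1,4,9,7,3,2,1,0,5,8,11,3,2,1,4,6,0,1,4,2,3,1,2,8,5,0,1,4,6,4,7,3,1,2,5,0,1,4,9,7,3,2,1,0,5,8,1,4,6,2,1,4,7,3,2,1,5,0,8,5,11,8,10,11,10,11,10,8,11,5,8,0,5,1,2,3,7,4,1,2,6,4,1,2,1,4,6,0,1,4,7,3,2,1,0,8,5,11,8,10,11,10,11,10,8,11,5,8,0,1,2,3,7,4,1,0,6,4,1,2,1,4,2,1,5,0,8,5,11,8,10,11,10,11,10,8,11,5,8,0,5,1,2,4,1,8,5,0,1,2,3,7,4,1,0,5,2,1,0,3,2,6,4,1,0,2,1,3,2,4,1,6,11,10,8,5,0,1,2,3,7,9,4,1,0,5,2,3,6,4,1,0,5,8,2,1,0,3,2,7,3,4,1,0,5,2,1,0,6,4,1,0,2]),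
   (1, 1, [1,4,6,0,1,4,7,0,1,2,3,5,0,1,2,8,5,0,1,4,6,3,0,1,2,5,0,1,4,9,7,3,2,1,0,5,8,11,3,2,1,4,6,0,1,4,2,3,1,2,8,5,0,1,4,6,4,7,3,1,2,5,0,1,4,9,7,3,2,1,0,5,8,7,3,2,1,4,6,4,7,2,3,1,2,0,1,4,9,7,3,2,1,0,8,5,11,8,10,11,10,11,10,8,11,5,8,0,1,2,3,7,9,4,1,0,2,1,3,2,7,4,6,4,1,2,3,7,8,5,0,1,4,6,1,2,0,1,4,9,3,7,1,2,3,0,1,2,5,0,1,4,6,7,3,0,1,2,5,0,1,4,9,7,3,2,1,0,5,11,8,10,11,10,11,10,8,11,5,0,1,2,3,7,9,4,1,0,5,2,1,0,3,7,6,4,1,0,5,2,1,0,3,2,1,7,3,9,4,1,0,2,1,6,4,1,0,5,8,3,2,1,4,6,0,1,4,9,7,3,2,1,0,8,5,11,8,10,11,10,11,10,8,11,5,8,0,1,2,3,7,9,4,1,0,6,4,1,2,3,10,8,5,0,1,2,3,7,9,4,1,0,2,1,3,7,4,6,4,1,0,5,8,2,1,3,2,4,1,0,5,11,8,5,0,1,2,3,7,9,4,1,0,5,2,1,3,2,6,4,1,0,5,2,1,0,3,2,7,3,4,1,0,2,6,4]),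
   (1, 1, [1,4,6,0,1,4,7,0,1,2,3,5,0,1,2,8,5,0,1,4,6,3,0,1,2,5,0,1,4,9,7,3,2,1,0,5,8,11,3,2,1,4,6,0,1,4,2,3,1,2,8,5,0,1,4,6,4,7,3,1,2,5,0,1,4,9,7,3,2,1,0,5,8,7,1,2,3,0,1,2,5,0,1,4,6,7,2,3,1,2,0,1,4,9,7,3,2,1,0,8,5,11,8,10,11,10,11,10,8,11,5,8,0,1,2,3,7,9,4,1,0,2,1,3,2,7,6,4,1,0,5,2,1,0,3,2,1,7,1,2,8,5,0,1,4,6,3,2,1,4,7,9,3,7,1,2,3,0,1,2,5,0,1,4,6,7,3,1,2,5,0,1,4,9,7,3,2,1,0,5,11,8,10,11,10,11,10,8,11,5,0,1,2,3,7,9,4,1,0,5,2,1,3,7,6,4,1,0,5,2,1,0,3,2,1,7,3,9,7,4,1,2,3,6,4,1,0,5,8,2,1,2,0,1,5,0,8,5,11,8,10,11,10,11,10,8,11,5,8,0,5,1,0,2,8,5,0,1,2,3,7,9,4,1,0,5,8,2,1,3,2,6,4,1,0,5,8,2,1,3,2,7,3,4,1,0,2,1,6,4,1,2,11,10,8,5,0,1,2,3,7,9,4,1,0,5,2,1,3,7,4,6,4,1,0,5,8,2,1,0,3,2,7,9,4,1,0,5,6,4,1,0,2,1,3,4,6]),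
   (1, 0, [1,4,7,3,5,0,1,2,8,5,0,1,4,6,3,1,2,5,0,1,4,9,7,3,2,1,0,5,8,11,4,6,7,3,2,0,1,4,7,0,1,2,3,5,0,1,2,8,5,0,1,4,6,4,7,2,3,1,2,0,1,4,9,7,3,2,1,0,5,8,10,8,5,0,1,4,6,2,0,1,4,2,3,7,1,2,3,0,1,2,5,0,1,4,6,3,1,2,5,0,1,4,9,7,3,2,1,0,5,11,8,10,11,10,11,10,8,11,5,0,1,2,3,7,9,4,1,0,5,2,1,3,6,4,1,0,5,2,1,0,3,2,1,7,3,2,4,1,0,2,6,4,1,0,5,8,2,8,5,0,1,4,6,4,7,3,1,2,0,1,4,3,7,1,2,3,0,1,2,5,0,1,4,6,3,1,2,5,0,1,4,9,7,3,2,1,0,5,11,8,10,11,10,11,10,8,11,5,0,1,2,3,7,9,4,1,0,5,2,1,3,6,4,1,0,5,2,1,0,3,2,1,7,3,4,1,0,2,1,3,7,4,6,4,1,0,5,8,2,6,2,1,4,9,7,3,2,1,5,0,8,5,11,8,10,11,10,11,10,8,11,5,8,0,5,1,2,3,7,9,4,1,2,6,10,8,5,0,1,2,3,7,9,4,1,0,5,2,1,0,6,4,1,0,5,8,2,1,0,3,2,1,7,3,2,9,4,1,0,5,8,2,6,11,10,8,5,0,1,2,3,7,9,4,1,0,5,2,1,0,3,6,4,1,0,5,8,2,1,0,5,3,2,7,4,1,0,5,2,1,6,4,1,2]),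
   (0, 15, []),
   (0, 11, []),
   (0, 249, []),
   (0, 725, []),
   (0, 725, []),
   (0, 249, []),
   (0, 1127, [])]

def wit2 : List (ℕ × ℕ × List ℕ) :=
  [(0, 163, []),
   (0, 491, []),
   (0, 323, []),
   (0, 2510, []),
   (0, 182, []),
   (0, 11, []),
   (0, 470, []),
   (0, 182, []),
   (0, 11, []),
   (0, 300, []),
   (1, 0, [1,4,7,3,5,0,1,2,8,5,0,1,4,6,3,1,2,5,0,1,4,9,7,3,2,1,0,5,8,11,4,6,7,3,2,0,1,4,7,0,1,2,3,5,0,1,2,8,5,0,1,4,6,4,7,2,3,1,2,0,1,4,9,7,3,2,1,0,5,8,10,1,2,5,0,1,4,6,1,2,0,1,4,9,7,3,2,1,0,8,5,11,8,10,11,10,11,10,8,11,5,8,0,1,2,3,7,9,4,1,0,2,1,6,4,1,0,5,2,1,3,5,0,1,2,8,5,0,1,4,6,1,2,0,1,4,3,7,1,2,3,0,1,2,5,0,1,4,6,7,3,1,2,11,8,5,0,1,4,9,7,3,2,1,0,5,8,11,10,11,8,5,0,1,2,3,7,9,4,1,0,5,8,11,2,1,3,7,6,4,1,0,5,2,1,0,3,2,1,7,3,4,1,0,2,1,6,4,1,0,5,8,2,1,0,5,3,0,1,4,9,7,3,2,1,0,8,5,11,8,10,11,10,11,10,8,11,5,8,0,1,2,3,7,9,4,1,0,10,8,5,0,1,2,3,7,9,4,1,0,5,8,2,3,7,6,4,1,0,2,1,3,11,10,8,5,0,1,2,3,7,9,4,1,0,5,2,1,0,3,7,6,4,1,0,5,8,2,1,3,2,7,9,4,1,0,6,4,1]),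
   (1, 1, [1,4,6,0,1,4,7,0,1,2,3,5,0,1,2,8,5,0,1,4,6,3,0,1,2,5,0,1,4,9,7,3,2,1,0,5,8,11,3,2,1,4,6,0,1,4,2,3,1,2,8,5,0,1,4,6,4,7,3,1,2,5,0,1,4,9,7,3,2,1,0,5,8,3,7,2,3,1,2,5,0,1,4,6,7,2,3,1,2,0,1,4,9,7,3,2,1,0,8,5,11,8,10,11,10,11,10,8,11,5,8,0,1,2,3,7,9,4,1,0,2,1,3,2,7,6,4,1,0,5,2,1,3,2,7,3,2,8,5,0,1,4,6,3,2,1,4,3,7,1,2,3,0,1,2,5,0,1,4,6,2,3,0,1,2,5,0,1,4,9,7,3,2,1,0,5,11,8,10,11,10,11,10,8,11,5,0,1,2,3,7,9,4,1,0,5,2,1,0,3,2,6,4,1,0,5,2,1,0,3,2,1,7,3,4,1,2,3,6,4,1,0,5,8,1,0,8,5,11,8,10,11,10,11,10,8,11,5,8,0,1,2,8,5,0,1,2,3,7,9,4,1,0,5,2,1,3,7,6,4,1,0,5,8,2,1,0,5,3,2,1,0,4,1,2,3,7,6,4,1,0,2,1,3,11,8,5,0,1,2,3,7,9,4,1,0,2,1,3,6,4,1,0,5,2,1,0,3,7,9,4,1,2,3,7,9]),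
   (1, 0, [1,4,7,3,5,0,1,2,8,5,0,1,4,6,3,1,2,5,0,1,4,9,7,3,2,1,0,5,8,11,4,6,7,3,2,0,1,4,7,0,1,2,3,5,0,1,2,8,5,0,1,4,6,4,7,2,3,1,2,0,1,4,9,7,3,2,1,0,5,8,10,8,5,0,1,4,6,9,7,3,2,1,4,3,7,1,2,3,0,1,2,5,0,1,4,6,3,0,1,2,5,0,1,4,9,7,3,2,1,0,5,11,8,10,11,10,11,10,8,11,5,0,1,2,3,7,9,4,1,0,5,2,1,0,3,6,4,1,0,5,2,1,0,3,2,1,7,3,4,1,2,3,7,9,6,4,1,0,5,8,9,7,3,1,2,0,1,4,6,4,3,7,2,3,1,2,0,1,4,9,7,3,2,1,0,8,5,11,8,10,11,10,11,10,8,11,5,8,0,1,2,3,7,9,4,1,0,2,1,3,2,7,3,4,6,4,1,0,2,1,3,7,9,0,1,4,7,3,2,1,0,8,5,11,8,10,11,10,11,10,8,11,5,8,0,1,2,3,7,4,1,0,8,5,0,1,2,3,7,9,4,1,0,5,2,1,3,2,7,6,4,1,0,5,8,2,1,0,5,3,7,4,1,2,3,6,11,10,8,5,0,1,2,3,7,9,4,1,0,5,2,1,0,3,2,6,4,1,0,5,8,2,1,3,2,7,3,4,1,0,5,8,2,1,0,5,6,4]),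
   (1, 1, [1,4,6,0,1,4,7,0,1,2,3,5,0,1,2,8,5,0,1,4,6,3,0,1,2,5,0,1,4,9,7,3,2,1,0,5,8,11,3,2,1,4,6,0,1,4,2,3,1,2,8,5,0,1,4,6,4,7,3,1,2,5,0,1,4,9,7,3,2,1,0,5,8,2,3,1,2,0,1,4,6,4,2,3,1,2,0,1,4,9,7,3,2,1,0,8,5,11,8,10,11,10,11,10,8,11,5,8,0,1,2,3,7,9,4,1,0,2,1,3,2,4,6,4,1,0,2,1,3,8,5,0,1,4,6,2,5,0,1,4,3,7,1,2,3,0,1,2,8,5,0,1,4,6,7,3,1,2,5,0,1,4,9,7,3,2,1,0,5,11,8,10,11,10,11,10,8,11,5,0,1,2,3,7,9,4,1,0,5,2,1,3,7,6,4,1,0,5,8,2,1,0,3,2,1,7,3,4,1,0,5,2,6,4,1,0,5,8,5,0,1,4,6,3,2,1,4,9,7,3,2,1,5,0,8,5,11,8,10,11,10,11,10,8,11,5,8,0,5,1,2,3,7,9,4,1,2,3,6,4,1,0,5,2,8,5,0,1,2,3,7,9,4,1,0,5,2,3,7,6,4,1,0,5,2,1,3,7,4,6,11,8,5,0,1,2,3,7,4,1,0,5,2,1,0,3,2,6,4,1,0,5,8,2,1,0,5,3,2,4,1,2,3,6,4,1,0]),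
   (1, 0, [1,4,7,3,5,0,1,2,8,5,0,1,4,6,3,1,2,5,0,1,4,9,7,3,2,1,0,5,8,11,4,6,7,3,2,0,1,4,7,0,1,2,3,5,0,1,2,8,5,0,1,4,6,4,7,2,3,1,2,0,1,4,9,7,3,2,1,0,5,8,10,2,8,5,0,1,4,6,3,2,1,4,3,7,2,3,5,0,1,2,8,5,0,1,4,6,3,1,2,11,8,5,0,1,4,9,7,3,2,1,0,5,8,11,10,11,8,5,0,1,2,3,7,9,4,1,0,5,8,11,2,1,3,6,4,1,0,5,8,2,1,0,5,3,2,7,3,4,1,2,3,6,4,1,0,5,8,2,4,5,0,1,2,8,5,0,1,4,6,3,2,1,4,2,3,7,1,2,3,0,1,2,8,5,0,1,4,6,3,0,1,2,5,0,1,4,9,7,3,2,1,0,5,11,8,10,11,10,11,10,8,11,5,0,1,2,3,7,9,4,1,0,5,2,1,0,3,6,4,1,0,5,8,2,1,0,3,2,1,7,3,2,4,1,2,3,6,4,1,0,5,8,2,1,0,5,3,2,1,0,8,5,11,8,10,11,10,11,10,8,11,5,8,0,1,2,3,4,10,8,5,0,1,2,3,7,9,4,1,0,5,2,1,3,7,6,4,1,0,5,8,2,1,0,3,2,7,4,1,2,3,6,4,1,11,10,8,5,0,1,2,3,7,9,4,1,0,5,2,3,7,6,4,1,0,2,1,3,2,7,3,4,1,0,5,8,11,10,2,1,0]),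
   (1, 1, [1,4,6,0,1,4,7,0,1,2,3,5,0,1,2,8,5,0,1,4,6,3,0,1,2,5,0,1,4,9,7,3,2,1,0,5,8,11,3,2,1,4,6,0,1,4,2,3,1,2,8,5,0,1,4,6,4,7,3,1,2,5,0,1,4,9,7,3,2,1,0,5,8,9,7,3,2,1,4,6,2,0,1,4,9,7,3,2,1,0,8,5,11,8,10,11,10,11,10,8,11,5,8,0,1,2,3,7,9,4,1,0,2,6,4,1,2,3,7,9,2,8,5,0,1,4,6,1,2,0,1,4,3,7,1,2,3,0,1,2,5,0,1,4,6,2,3,0,1,2,5,0,1,4,9,7,3,2,1,0,5,11,8,10,11,10,11,10,8,11,5,0,1,2,3,7,9,4,1,0,5,2,1,0,3,2,6,4,1,0,5,2,1,0,3,2,1,7,3,4,1,0,2,1,6,4,1,0,5,8,2,1,0,8,5,11,8,10,11,10,11,10,8,11,5,8,0,1,8,5,0,1,2,3,7,9,4,1,0,5,2,1,3,7,6,4,1,0,5,8,2,1,0,5,3,2,7,3,9,4,1,0,2,1,3,7,9,11,10,8,5,0,1,2,3,7,9,4,1,0,5,2,1,3,6,4,1,0,5,8,2,1,0,3,2,7,4,1,0,5,8,2,3,6,4]),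
   (0, 12, []),
   (0, 3431, []),
   (0, 2315, []),
   (0, 307, []),
   (0, 894, []),
   (0, 3466, []),
   (0, 178, []),
   (0, 4371, []),
   (0, 894, []),
   (0, 3466, []),
   (0, 178, []),
   (0, 3192, []),
   (0, 3466, []),
   (0, 307, []),
   (0, 3192, []),
   (0, 2178, []),
   (0, 10405, []),
   (0, 199, []),
   (0, 189, []),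
   (0, 199, []),
   (0, 3011, []),
   (0, 3837, []),
   (0, 199, []),
   (0, 2315, []),
   (0, 307, []),
   (0, 199, []),
   (0, 894, []),
   (0, 2315, []),
   (0, 894, []),
   (0, 199, []),
   (0, 300, []),
   (0, 300, []),
   (0, 3431, []),
   (0, 894, []),
   (0, 106, []),
   (0, 792, []),
   (0, 199, []),
   (0, 199, []),
   (0, 2736, []),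
   (0, 792, []),
   (0, 43, []),
   (0, 46, []),
   (0, 6389, []),
   (0, 894, []),
   (0, 307, []),
   (0, 2903, []),
   (0, 7869, []),
   (0, 55, []),
   (0, 307, []),
   (0, 2315, []),
   (0, 21, []),
   (0, 10021, []),
   (0, 307, []),
   (0, 6156, []),
   (0, 3431, []),
   (1, 1, [1,4,6,0,1,4,7,0,1,2,3,5,0,1,2,8,5,0,1,4,6,3,0,1,2,5,0,1,4,9,7,3,2,1,0,5,8,11,3,2,1,4,6,0,1,4,2,3,1,2,8,5,0,1,4,6,4,7,3,1,2,5,0,1,4,9,7,3,2,1,0,5,8,9,7,3,2,0,1,4,6,2,0,1,4,9,7,3,2,1,0,8,5,11,8,10,11,10,11,10,8,11,5,8,0,1,2,3,7,9,4,1,0,2,6,4,1,0,2,3,7,9,8,5,0,1,4,6,7,3,2,0,1,4,2,3,7,1,2,3,0,1,2,5,0,1,4,6,7,3,0,1,2,5,0,1,4,9,7,3,2,1,0,5,11,8,10,11,10,11,10,8,11,5,0,1,2,3,7,9,4,1,0,5,2,1,0,3,7,6,4,1,0,5,2,1,0,3,2,1,7,3,2,4,1,0,2,3,7,6,4,1,0,5,8,4,6,0,1,4,2,1,0,8,5,11,8,10,11,10,11,10,8,11,5,8,0,1,2,4,1,0,6,4,8,5,0,1,2,3,7,9,4,1,0,5,8,2,1,3,2,6,4,1,0,5,8,2,1,3,2,4,1,0,6,4,1,2,3,7,11,8,5,0,1,2,3,7,9,4,1,0,5,2,1,3,7,6,4,1,0,5,2,1,0,3,2,7,3,4,1,0,2,1,4,6,4,1,2,3]),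
   (1, 1, [1,4,6,0,1,4,7,0,1,2,3,5,0,1,2,8,5,0,1,4,6,3,0,1,2,5,0,1,4,9,7,3,2,1,0,5,8,11,3,2,1,4,6,0,1,4,2,3,1,2,8,5,0,1,4,6,4,7,3,1,2,5,0,1,4,9,7,3,2,4,6,3,2,0,1,4,3,7,1,2,3,0,1,2,8,5,0,1,4,6,7,3,0,1,2,5,0,1,4,9,7,3,2,1,0,5,11,8,10,11,10,11,10,8,11,5,0,1,2,3,7,9,4,1,0,5,2,1,0,3,7,6,4,1,0,5,8,2,1,0,3,2,1,7,3,4,1,0,2,3,6,4,1,0,5,8,7,3,0,1,2,8,5,0,1,4,6,3,2,0,1,4,2,3,7,1,2,3,0,1,2,5,0,1,4,6,2,3,1,2,11,8,5,0,1,4,9,7,3,2,1,0,5,8,11,10,11,8,5,0,1,2,3,7,9,4,1,0,5,8,11,2,1,3,2,6,4,1,0,5,2,1,0,3,2,1,7,3,2,4,1,0,2,3,6,4,1,0,5,8,2,1,0,3,7,6,4,1,5,0,8,5,11,8,10,11,10,11,10,8,11,5,8,0,5,1,4,6,8,5,0,1,2,3,7,9,4,1,0,5,2,1,0,3,2,7,6,4,1,0,5,8,2,1,0,3,2,1,7,3,4,1,6,11,10,8,5,0,1,2,3,7,9,4,1,0,5,2,1,3,6,4,1,0,5,8,2,1,0,5,3,2,4,1,0,5,6,4,1]),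
   (1, 1, [1,4,6,0,1,4,7,0,1,2,3,5,0,1,2,8,5,0,1,4,6,3,0,1,2,5,0,1,4,9,7,3,2,1,0,5,8,11,3,2,1,4,6,0,1,4,2,3,1,2,8,5,0,1,4,6,4,7,3,1,2,5,0,1,4,9,7,3,2,1,0,5,8,2,3,0,1,2,5,0,1,4,6,7,2,3,1,2,0,1,4,9,7,3,2,1,0,8,5,11,8,10,11,10,11,10,8,11,5,8,0,1,2,3,7,9,4,1,0,2,1,3,2,7,6,4,1,0,5,2,1,0,3,2,4,5,0,1,2,8,5,0,1,4,6,3,2,0,1,4,2,3,7,1,2,3,0,1,2,5,0,1,4,6,7,3,0,1,2,5,0,1,4,9,7,3,2,1,0,5,11,8,10,11,10,11,10,8,11,5,0,1,2,3,7,9,4,1,0,5,2,1,0,3,7,6,4,1,0,5,2,1,0,3,2,1,7,3,2,4,1,0,2,3,6,4,1,0,5,8,2,1,0,5,4,1,4,6,4,3,1,2,0,1,4,7,3,2,1,0,8,5,11,8,10,11,10,11,10,8,11,5,8,0,1,2,3,7,4,1,0,2,1,3,4,6,4,1,8,5,0,1,2,3,7,9,4,1,0,5,8,2,1,3,6,4,1,0,5,8,2,1,0,5,3,2,1,0,7,4,1,0,2,1,3,11,10,8,5,0,1,2,3,7,9,4,1,0,5,8,2,1,3,2,7,6,4,1,0,5,8,11,2,1,0,3,2,7,3,4,1,0,2,1,3,6]),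
   (0, 2465, []),
   (1, 1, [1,4,6,0,1,4,7,0,1,2,3,5,0,1,2,8,5,0,1,4,6,3,0,1,2,5,0,1,4,9,7,3,2,1,0,5,8,11,3,2,1,4,6,0,1,4,2,3,1,2,8,5,0,1,4,6,4,7,3,1,2,5,0,1,4,9,7,3,2,4,6,3,1,2,0,1,4,3,7,1,2,3,0,1,2,5,0,1,4,6,3,1,2,5,0,1,4,9,7,3,2,1,0,5,11,8,10,11,10,11,10,8,11,5,0,1,2,3,7,9,4,1,0,5,2,1,3,6,4,1,0,5,2,1,0,3,2,1,7,3,4,1,0,2,1,3,6,4,1,0,5,8,3,0,1,2,8,5,0,1,4,6,1,2,0,1,4,9,3,7,1,2,3,0,1,2,5,0,1,4,6,7,3,0,1,2,5,0,1,4,9,7,3,2,1,0,5,11,8,10,11,10,11,10,8,11,5,0,1,2,3,7,9,4,1,0,5,2,1,0,3,7,6,4,1,0,5,2,1,0,3,2,1,7,3,9,4,1,0,2,1,6,4,1,0,5,8,2,1,0,3,0,1,4,6,4,1,2,0,1,4,9,7,3,2,1,0,8,5,11,8,10,11,10,11,10,8,11,5,8,0,1,2,3,7,9,4,1,0,2,1,4,6,4,1,0,8,5,0,1,2,3,7,4,1,2,3,6,4,1,0,5,2,1,0,4,1,2,3,7,6,4,11,8,5,0,1,2,3,7,4,1,0,5,2,1,3,2,6,4,1,0,5,8,2,1,0,3,7,9,4,6]),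
   (1, 1, [1,4,6,0,1,4,7,0,1,2,3,5,0,1,2,8,5,0,1,4,6,3,0,1,2,5,0,1,4,9,7,3,2,1,0,5,8,11,3,2,1,4,6,0,1,4,2,3,1,2,8,5,0,1,4,6,4,7,3,1,2,5,0,1,4,9,7,3,2,1,0,5,8,3,2,8,5,0,1,4,6,2,0,1,4,3,7,1,2,3,0,1,2,5,0,1,4,6,7,3,1,2,5,0,1,4,9,7,3,2,1,0,5,11,8,10,11,10,11,10,8,11,5,0,1,2,3,7,9,4,1,0,5,2,1,3,7,6,4,1,0,5,2,1,0,3,2,1,7,3,9,3,7,2,3,0,1,2,5,0,1,4,6,7,3,1,2,5,0,1,4,9,7,3,2,1,0,5,11,8,10,11,10,11,10,8,11,5,0,1,2,3,7,9,4,1,0,5,2,1,3,7,6,4,1,0,5,2,1,0,3,2,7,3,9,4,1,0,2,6,4,1,0,5,8,1,4,6,0,1,4,3,2,1,0,8,5,11,8,10,11,10,11,10,8,11,5,8,0,1,2,3,4,1,0,6,4,1,2,3,8,5,0,1,2,3,7,4,1,0,2,1,4,6,4,1,0,5,2,1,0,3,2,1,4,6,11,10,8,5,0,1,2,3,7,9,4,1,0,5,2,1,0,3,7,6,4,1,0,5,2,1,0,3,2,1,7,3,2,9,4,1,2,3,6,4,1,0,5,2,1,0,4]),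
   (1, 1, [1,4,6,0,1,4,7,0,1,2,3,5,0,1,2,8,5,0,1,4,6,3,0,1,2,5,0,1,4,9,7,3,2,1,0,5,8,11,3,2,1,4,6,0,1,4,2,3,1,2,8,5,0,1,4,6,4,7,3,1,2,5,0,1,4,9,7,3,2,1,0,5,8,7,3,2,0,1,4,6,4,1,2,0,1,4,7,3,2,1,0,8,5,11,8,10,11,10,11,10,8,11,5,8,0,1,2,3,7,4,1,0,2,1,4,6,4,1,0,2,3,7,0,1,2,8,5,0,1,4,6,3,2,1,4,7,9,3,7,2,3,0,1,2,5,0,1,4,6,7,3,0,1,2,5,0,1,4,9,7,3,2,1,0,5,11,8,10,11,10,11,10,8,11,5,0,1,2,3,7,9,4,1,0,5,2,1,0,3,7,6,4,1,0,5,2,1,0,3,2,7,3,9,7,4,1,2,3,6,4,1,0,5,8,2,1,0,4,6,1,4,2,3,1,2,0,1,4,9,7,3,2,1,0,8,5,11,8,10,11,10,11,10,8,11,5,8,0,1,2,3,7,9,4,1,0,2,1,3,2,4,1,6,4,10,8,5,0,1,2,3,7,9,4,1,0,5,2,1,0,3,2,6,4,1,0,5,2,1,0,3,2,1,7,3,4,1,0,2,1,6,4,1,0,5,2,1,0,3,11,10,8,5,0,1,2,3,7,4,1,0,5,8,2,3,6,4,1,0,5,8,11,2,1,0,5,4,6]),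
   (1, 1, [1,4,6,0,1,4,7,0,1,2,3,5,0,1,2,8,5,0,1,4,6,3,0,1,2,5,0,1,4,9,7,3,2,1,0,5,8,11,3,2,1,4,6,0,1,4,2,3,1,2,8,5,0,1,4,6,4,7,3,1,2,5,0,1,4,9,7,3,2,4,6,3,2,1,4,3,7,1,2,3,0,1,2,5,0,1,4,6,7,2,3,0,1,2,5,0,1,4,9,7,3,2,1,0,5,11,8,10,11,10,11,10,8,11,5,0,1,2,3,7,9,4,1,0,5,2,1,0,3,2,7,6,4,1,0,5,2,1,0,3,2,1,7,3,4,1,2,3,6,4,1,0,5,8,3,1,2,0,1,4,6,4,3,7,2,3,1,2,0,1,4,9,7,3,2,1,0,8,5,11,8,10,11,10,11,10,8,11,5,8,0,1,2,3,7,9,4,1,0,2,1,3,2,7,3,4,6,4,1,0,2,1,3,1,4,6,0,1,4,7,3,2,1,0,8,5,11,8,10,11,10,11,10,8,11,5,8,0,1,2,3,7,4,1,0,6,4,1,10,8,5,0,1,2,3,7,4,1,0,5,2,1,3,2,4,6,4,1,0,5,8,2,1,0,5,3,2,1,4,1,0,6,4,1,2,11,8,5,0,1,2,3,7,9,4,1,0,5,2,1,0,3,7,6,4,1,0,5,8,2,1,3,2,7,3,9,4,1,0,2,6,4,1,2,3,7]),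
   (0, 2110, []),
   (1, 1, [1,4,6,0,1,4,7,0,1,2,3,5,0,1,2,8,5,0,1,4,6,3,0,1,2,5,0,1,4,9,7,3,2,1,0,5,8,11,3,2,1,4,6,0,1,4,2,3,1,2,8,5,0,1,4,6,4,7,3,1,2,5,0,1,4,9,7,3,2,4,6,7,3,2,5,0,1,4,3,7,2,3,0,1,2,5,0,1,4,6,3,0,1,2,5,0,1,4,9,7,3,2,1,0,5,11,8,10,11,10,11,10,8,11,5,0,1,2,3,7,9,4,1,0,5,2,1,0,3,6,4,1,0,5,2,1,0,3,2,7,3,4,1,0,5,2,3,7,6,4,1,0,5,8,1,2,8,5,0,1,4,6,3,2,1,4,2,3,7,1,2,3,0,1,2,5,0,1,4,6,3,1,2,11,8,5,0,1,4,9,7,3,2,1,0,5,8,11,10,11,8,5,0,1,2,3,7,9,4,1,0,5,8,11,2,1,3,6,4,1,0,5,2,1,0,3,2,1,7,3,2,4,1,2,3,6,4,1,0,5,8,2,1,9,7,3,2,1,5,0,8,5,11,8,10,11,10,11,10,8,11,5,8,0,5,1,2,3,7,9,10,8,5,0,1,2,3,7,9,4,1,0,2,1,6,4,1,0,5,2,1,3,2,7,3,11,8,5,0,1,2,3,7,4,1,0,5,2,1,3,6,4,1,0,5,8,11,2,1,0,3,2,4,1,2,6,4]),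
   (0, 12, []),
   (0, 2315, []),
   (0, 3431, []),
   (0, 894, []),
   (0, 307, []),
   (0, 894, []),
   (0, 178, []),
   (0, 3466, []),
   (0, 3466, []),
   (0, 4371, []),
   (0, 178, []),
   (0, 3192, []),
   (0, 10405, []),
   (0, 1678, []),
   (0, 3192, []),
   (0, 307, []),
   (0, 3466, []),
   (0, 1150, []),
   (0, 6389, []),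
   (0, 577, []),
   (0, 307, []),
   (0, 894, []),
   (0, 21, [])]

def wit3 : List (ℕ × ℕ × List ℕ) :=
  [(0, 307, []),
   (0, 10021, []),
   (0, 1545, []),
   (0, 270, []),
   (0, 7869, []),
   (0, 2315, []),
   (0, 307, []),
   (0, 199, []),
   (0, 3837, []),
   (0, 189, []),
   (0, 3011, []),
   (0, 199, []),
   (0, 199, []),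
   (0, 2315, []),
   (0, 894, []),
   (0, 199, []),
   (0, 307, []),
   (0, 2315, []),
   (0, 894, []),
   (0, 199, []),
   (0, 106, []),
   (0, 199, []),
   (0, 792, []),
   (0, 894, []),
   (0, 3431, []),
   (0, 199, []),
   (0, 300, []),
   (0, 300, []),
   (0, 792, []),
   (0, 2736, []),
   (0, 3431, []),
   (0, 6156, []),
   (1, 1, [1,4,6,0,1,4,7,0,1,2,3,5,0,1,2,8,5,0,1,4,6,3,0,1,2,5,0,1,4,9,7,3,2,1,0,5,8,11,3,2,1,4,6,0,1,4,2,3,1,2,8,5,0,1,4,6,4,7,3,1,2,5,0,1,4,9,7,3,2,4,6,4,7,3,1,2,0,1,4,3,7,2,3,0,1,2,5,0,1,4,6,3,0,1,2,5,0,1,4,9,7,3,2,1,0,5,11,8,10,11,10,11,10,8,11,5,0,1,2,3,7,9,4,1,0,5,2,1,0,3,6,4,1,0,5,2,1,0,3,2,7,3,4,1,0,2,1,3,7,4,6,4,1,0,5,8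,3,2,8,5,0,1,4,6,4,1,2,0,1,4,3,7,2,3,0,1,2,5,0,1,4,6,2,3,1,2,5,0,1,4,9,7,3,2,1,0,5,11,8,10,11,10,11,10,8,11,5,0,1,2,3,7,9,4,1,0,5,2,1,3,2,6,4,1,0,5,2,1,0,3,2,7,3,4,1,0,2,1,4,6,4,1,0,5,8,2,3,6,1,4,2,1,0,8,5,11,8,10,11,10,11,10,8,11,5,8,0,1,2,4,1,6,10,8,5,0,1,2,3,7,9,4,1,0,5,2,1,3,6,4,1,0,5,8,2,1,0,3,2,1,7,3,2,4,1,0,2,3,7,11,10,8,5,0,1,2,3,7,9,4,1,0,5,2,1,3,2,7,6,4,1,0,5,8,2,1,0,3,2,7,9,4,1,0]),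
   (1, 1, [1,4,6,0,1,4,7,0,1,2,3,5,0,1,2,8,5,0,1,4,6,3,0,1,2,5,0,1,4,9,7,3,2,1,0,5,8,11,3,2,1,4,6,0,1,4,2,3,1,2,8,5,0,1,4,6,4,7,3,1,2,5,0,1,4,9,7,3,2,1,0,5,8,2,5,0,1,4,6,2,3,1,2,0,1,4,7,3,2,1,0,8,5,11,8,10,11,10,11,10,8,11,5,8,0,1,2,3,7,4,1,0,2,1,3,2,6,4,1,0,5,2,0,1,2,8,5,0,1,4,6,3,2,1,4,2,3,7,1,2,3,0,1,2,5,0,1,4,6,7,3,0,1,2,5,0,1,4,9,7,3,2,1,0,5,11,8,10,11,10,11,10,8,11,5,0,1,2,3,7,9,4,1,0,5,2,1,0,3,7,6,4,1,0,5,2,1,0,3,2,1,7,3,2,4,1,2,3,6,4,1,0,5,8,2,1,0,1,2,0,1,4,9,7,3,2,1,0,8,5,11,8,10,11,10,11,10,8,11,5,8,0,1,2,3,7,9,4,1,0,2,1,8,5,0,1,2,3,7,9,4,1,0,2,1,3,6,4,1,0,5,8,2,1,0,5,3,2,1,0,7,9,11,8,5,0,1,2,3,7,9,4,1,0,5,8,11,2,1,3,7,6,4,1,0,5,2,1,0,3,2,1,7,3,4,1,0,2,3,6,4,1,0,5,2]),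
   (1, 1, [1,4,6,0,1,4,7,0,1,2,3,5,0,1,2,8,5,0,1,4,6,3,0,1,2,5,0,1,4,9,7,3,2,1,0,5,8,11,3,2,1,4,6,0,1,4,2,3,1,2,8,5,0,1,4,6,4,7,3,1,2,5,0,1,4,9,7,3,2,1,0,5,8,1,2,5,0,1,4,6,3,7,2,3,1,2,0,1,4,9,7,3,2,1,0,8,5,11,8,10,11,10,11,10,8,11,5,8,0,1,2,3,7,9,4,1,0,2,1,3,2,7,3,6,4,1,0,5,2,1,5,0,1,2,8,5,0,1,4,6,3,1,2,0,1,4,3,7,2,3,0,1,2,5,0,1,4,6,3,0,1,2,5,0,1,4,9,7,3,2,1,0,5,11,8,10,11,10,11,10,8,11,5,0,1,2,3,7,9,4,1,0,5,2,1,0,3,6,4,1,0,5,2,1,0,3,2,7,3,4,1,0,2,1,3,6,4,1,0,5,8,2,1,0,5,0,1,4,2,1,0,8,5,11,8,10,11,10,11,10,8,11,5,8,0,1,2,4,1,0,8,5,0,1,2,3,7,9,4,1,0,5,2,3,7,6,4,1,0,5,8,2,1,0,3,2,7,4,1,0,5,8,2,3,7,6,4,11,10,8,5,0,1,2,3,7,9,4,1,0,5,2,1,0,3,7,6,4,1,0,5,8,11,2,1,0,5,8,3,2,7,3,4,1,0,6,4,1]),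
   (1, 1, [1,4,6,0,1,4,7,0,1,2,3,5,0,1,2,8,5,0,1,4,6,3,0,1,2,5,0,1,4,9,7,3,2,1,0,5,8,11,3,2,1,4,6,0,1,4,2,3,1,2,8,5,0,1,4,6,4,7,3,1,2,5,0,1,4,9,7,3,2,4,6,3,2,1,4,9,3,7,2,3,0,1,2,5,0,1,4,6,7,3,1,2,5,0,1,4,9,7,3,2,1,0,5,11,8,10,11,10,11,10,8,11,5,0,1,2,3,7,9,4,1,0,5,2,1,3,7,6,4,1,0,5,2,1,0,3,2,7,3,9,4,1,2,3,6,4,1,0,5,8,5,0,1,2,8,5,0,1,4,6,1,2,0,1,4,2,3,7,1,2,3,0,1,2,5,0,1,4,6,7,3,1,2,11,8,5,0,1,4,9,7,3,2,1,0,5,8,11,10,11,8,5,0,1,2,3,7,9,4,1,0,5,8,11,2,1,3,7,6,4,1,0,5,2,1,0,3,2,1,7,3,2,4,1,0,2,1,6,4,1,0,5,8,2,1,0,5,4,1,5,0,8,5,11,8,10,11,10,11,10,8,11,5,8,0,5,1,4,10,8,5,0,1,2,3,7,9,4,1,0,5,8,2,1,3,2,7,6,4,1,0,5,8,2,1,0,5,3,2,4,1,0,2,1,3,2,6,4,1,11,10,8,5,0,1,2,3,7,9,4,1,0,5,2,1,3,7,6,4,1,0,5,8,2,1,0,3,2,7,4,1,0,5,8,6,4,1,0]),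
   (0, 3034, []),
   (1, 1, [1,4,6,0,1,4,7,0,1,2,3,5,0,1,2,8,5,0,1,4,6,3,0,1,2,5,0,1,4,9,7,3,2,1,0,5,8,11,3,2,1,4,6,0,1,4,2,3,1,2,8,5,0,1,4,6,4,7,3,1,2,5,0,1,4,9,7,3,2,4,6,2,0,1,4,2,3,7,1,2,3,5,0,1,2,8,5,0,1,4,6,3,0,1,2,5,0,1,4,9,7,3,2,1,0,5,11,8,10,11,10,11,10,8,11,5,0,1,2,3,7,9,4,1,0,5,2,1,0,3,6,4,1,0,5,8,2,1,0,5,3,2,1,7,3,2,4,1,0,2,6,4,1,0,5,8,7,3,2,8,5,0,1,4,6,3,2,0,1,4,9,3,7,2,3,0,1,2,5,0,1,4,6,7,3,0,1,2,5,0,1,4,9,7,3,2,1,0,5,11,8,10,11,10,11,10,8,11,5,0,1,2,3,7,9,4,1,0,5,2,1,0,3,7,6,4,1,0,5,2,1,0,3,2,7,3,9,4,1,0,2,3,6,4,1,0,5,8,2,3,7,8,5,0,1,4,6,2,1,4,7,9,3,7,1,2,3,0,1,2,5,0,1,4,6,7,3,1,2,5,0,1,4,9,7,3,2,1,0,5,11,8,10,11,10,11,10,8,11,5,0,1,2,3,7,9,4,1,0,5,2,1,3,7,6,4,1,0,5,2,1,0,3,2,1,7,3,9,7,4,1,2,6,4,1,0,5,8,10,8,5,0,1,2,3,7,9,4,1,0,5,2,1,3,2,4,6,4,1,0,5,8,2,1,3,2,7,3,4,1,0,5,8,6,4,11,10,8,5,0,1,2,3,7,9,4,1,0,5,8,2,1,3,2,6,4,1,0,5,8,2,1,0,5,3,2,1,7,3,4,1,0,5,6,4,1,0]),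
   (1, 0, [1,4,7,3,5,0,1,2,8,5,0,1,4,6,3,1,2,5,0,1,4,9,7,3,2,1,0,5,8,11,4,6,7,3,2,0,1,4,7,0,1,2,3,5,0,1,2,8,5,0,1,4,6,4,7,2,3,1,2,0,1,4,9,7,3,2,1,0,5,8,10,4,3,1,2,5,0,1,4,6,2,3,1,2,0,1,4,7,3,2,1,0,8,5,11,8,10,11,10,11,10,8,11,5,8,0,1,2,3,7,4,1,0,2,1,3,2,6,4,1,0,5,2,1,3,4,9,7,3,2,8,5,0,1,4,6,2,0,1,4,3,7,2,3,0,1,2,5,0,1,4,6,7,3,1,2,11,8,5,0,1,4,9,7,3,2,1,0,5,8,11,10,11,8,5,0,1,2,3,7,9,4,1,0,5,8,11,2,1,3,7,6,4,1,0,5,2,1,0,3,2,7,3,4,1,0,2,6,4,1,0,5,8,2,3,7,9,8,5,11,8,10,11,10,11,10,8,11,5,8,10,8,5,0,1,2,3,7,9,4,1,0,5,2,1,3,2,7,4,6,4,1,0,5,8,2,1,0,5,3,2,1,7,3,2,4,1,0,5,2,6,4,11,8,5,0,1,2,3,7,4,1,0,5,8,2,1,3,6,4,1,0,5,8,2,1,0,5,3,2,4,1,0,2,1,3,7]),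
   (1, 1, [1,4,6,0,1,4,7,0,1,2,3,5,0,1,2,8,5,0,1,4,6,3,0,1,2,5,0,1,4,9,7,3,2,1,0,5,8,11,3,2,1,4,6,0,1,4,2,3,1,2,8,5,0,1,4,6,4,7,3,1,2,5,0,1,4,9,7,3,2,4,6,2,8,5,0,1,4,2,3,7,1,2,3,0,1,2,5,0,1,4,6,2,3,0,1,2,5,0,1,4,9,7,3,2,1,0,5,11,8,10,11,10,11,10,8,11,5,0,1,2,3,7,9,4,1,0,5,2,1,0,3,2,6,4,1,0,5,2,1,0,3,2,1,7,3,2,4,1,0,5,8,2,6,4,1,0,5,8,3,1,2,8,5,0,1,4,6,3,1,2,0,1,4,9,3,7,2,3,0,1,2,5,0,1,4,6,7,3,0,1,2,5,0,1,4,9,7,3,2,1,0,5,11,8,10,11,10,11,10,8,11,5,0,1,2,3,7,9,4,1,0,5,2,1,0,3,7,6,4,1,0,5,2,1,0,3,2,7,3,9,4,1,0,2,1,3,6,4,1,0,5,8,2,1,3,2,3,1,2,0,1,4,7,3,2,1,0,8,5,11,8,10,11,10,11,10,8,11,5,8,0,1,2,3,7,4,1,0,2,1,3,2,10,8,5,0,1,2,3,7,4,1,0,5,2,1,0,3,6,4,1,0,5,2,1,0,3,2,4,1,0,5,2,3,6,4,11,10,8,5,0,1,2,3,7,9,4,1,0,5,2,1,0,3,6,4,1,0,5,8,11,2,1,0,5,8,3,2,7,3,4,1,0,5,6]),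
   (1, 1, [1,4,6,0,1,4,7,0,1,2,3,5,0,1,2,8,5,0,1,4,6,3,0,1,2,5,0,1,4,9,7,3,2,1,0,5,8,11,3,2,1,4,6,0,1,4,2,3,1,2,8,5,0,1,4,6,4,7,3,1,2,5,0,1,4,9,7,3,2,4,6,3,1,2,0,1,4,3,7,2,3,0,1,2,5,0,1,4,6,2,3,1,2,11,8,5,0,1,4,9,7,3,2,1,0,5,8,11,10,11,8,5,0,1,2,3,7,9,4,1,0,5,8,11,2,1,3,2,6,4,1,0,5,2,1,0,3,2,7,3,4,1,0,2,1,3,6,4,1,0,5,8,4,3,0,1,2,8,5,0,1,4,6,4,3,1,2,0,1,4,3,7,2,3,0,1,2,5,0,1,4,6,2,3,1,2,11,8,5,0,1,4,9,7,3,2,1,0,5,8,11,10,11,8,5,0,1,2,3,7,9,4,1,0,5,8,11,2,1,3,2,6,4,1,0,5,2,1,0,3,2,7,3,4,1,0,2,1,3,4,6,4,1,0,5,8,2,1,0,3,4,6,4,0,1,5,0,8,5,11,8,10,11,10,11,10,8,11,5,8,0,5,1,0,4,6,10,8,5,0,1,2,3,7,9,4,1,0,5,2,1,0,3,2,1,6,4,1,0,2,1,3,4,11,8,5,0,1,2,3,7,9,4,1,0,5,2,1,3,2,6,4,1,0,5,8,11,2,1,3,2,7,3,9,4,1,0,5,8,2,1,6,4,1,0,5,2]),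
   (0, 249, []),
   (0, 3864, []),
   (1, 0, [1,4,7,3,5,0,1,2,8,5,0,1,4,6,3,1,2,5,0,1,4,9,7,3,2,1,0,5,8,11,4,6,7,3,2,0,1,4,7,0,1,2,3,5,0,1,2,8,5,0,1,4,6,4,7,2,3,1,2,0,1,4,9,7,3,2,1,0,5,8,10,8,5,0,1,4,6,2,0,1,4,3,7,1,2,3,0,1,2,5,0,1,4,6,7,3,0,1,2,5,0,1,4,9,7,3,2,1,0,5,11,8,10,11,10,11,10,8,11,5,0,1,2,3,7,9,4,1,0,5,2,1,0,3,7,6,4,1,0,5,2,1,0,3,2,1,7,3,4,1,0,2,6,4,1,0,5,8,2,8,5,0,1,4,6,1,2,0,1,4,3,7,1,2,3,0,1,2,5,0,1,4,6,2,3,1,2,5,0,1,4,9,7,3,2,1,0,5,11,8,10,11,10,11,10,8,11,5,0,1,2,3,7,9,4,1,0,5,2,1,3,2,6,4,1,0,5,2,1,0,3,2,1,7,3,4,1,0,2,1,6,4,1,0,5,8,2,7,3,2,0,1,5,0,8,5,11,8,10,11,10,11,10,8,11,5,8,0,5,1,0,2,3,7,8,5,0,1,2,3,7,9,4,1,0,5,2,1,3,6,4,1,0,5,8,2,1,0,5,3,2,7,3,4,1,0,5,8,2,1,0,5,3,2,11,10,8,11,5,0,1,2,3,7,9,4,1,0,5,2,1,0,3,2,1,7,6,4,1,0,5,8,2,1,3,2,4,6]),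
   (1, 0, [1,4,7,3,5,0,1,2,8,5,0,1,4,6,3,1,2,5,0,1,4,9,7,3,2,1,0,5,8,11,4,6,7,3,2,0,1,4,7,0,1,2,3,5,0,1,2,8,5,0,1,4,6,4,7,2,3,1,2,0,1,4,9,7,3,2,1,0,5,8,10,3,2,0,1,4,6,7,2,3,1,2,0,1,4,9,7,3,2,1,0,8,5,11,8,10,11,10,11,10,8,11,5,8,0,1,2,3,7,9,4,1,0,2,1,3,2,7,6,4,1,0,2,3,0,1,4,9,7,3,2,1,0,8,5,11,8,10,11,10,11,10,8,11,5,8,0,1,2,3,7,9,4,1,0,6,4,2,1,0,8,5,11,8,10,11,10,11,10,8,11,5,8,0,1,2,4,6,8,5,0,1,2,3,7,9,4,1,0,5,2,1,3,7,6,4,1,0,5,2,1,0,3,2,1,7,3,9,4,1,0,2,1,6,4,1,2,11,8,5,0,1,2,3,7,9,4,1,0,5,2,1,0,3,7,6,4,1,0,5,8,2,1,0,5,3,2,7,4,1,0,2,1,3,2,4,6,4]),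
   (1, 0, [1,4,7,3,5,0,1,2,8,5,0,1,4,6,3,1,2,5,0,1,4,9,7,3,2,1,0,5,8,11,4,6,7,3,2,0,1,4,7,0,1,2,3,5,0,1,2,8,5,0,1,4,6,4,7,2,3,1,2,0,1,4,9,7,3,2,1,0,5,8,10,0,1,2,8,5,0,1,4,6,1,2,0,1,4,3,7,1,2,3,0,1,2,5,0,1,4,6,7,3,1,2,5,0,1,4,9,7,3,2,1,0,5,11,8,10,11,10,11,10,8,11,5,0,1,2,3,7,9,4,1,0,5,2,1,3,7,6,4,1,0,5,2,1,0,3,2,1,7,3,4,1,0,2,1,6,4,1,0,5,8,2,1,0,2,8,5,0,1,4,6,7,3,2,1,4,2,3,7,1,2,3,0,1,2,5,0,1,4,6,2,3,0,1,2,5,0,1,4,9,7,3,2,1,0,5,11,8,10,11,10,11,10,8,11,5,0,1,2,3,7,9,4,1,0,5,2,1,0,3,2,6,4,1,0,5,2,1,0,3,2,1,7,3,2,4,1,2,3,7,6,4,1,0,5,8,2,6,0,1,4,9,7,3,2,1,0,8,5,11,8,10,11,10,11,10,8,11,5,8,0,1,2,3,7,9,4,1,0,6,8,5,0,1,2,3,7,9,4,1,0,5,2,1,3,2,6,4,1,0,5,2,1,0,3,2,1,7,3,4,1,0,5,2,6,11,10,8,5,0,1,2,3,7,9,4,1,0,5,8,2,3,6,4,1,0,5,8,2,1,0,4,1,2,3,7,6,4,1,2,3]),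
   (1, 1, [1,4,6,0,1,4,7,0,1,2,3,5,0,1,2,8,5,0,1,4,6,3,0,1,2,5,0,1,4,9,7,3,2,1,0,5,8,11,3,2,1,4,6,0,1,4,2,3,1,2,8,5,0,1,4,6,4,7,3,1,2,5,0,1,4,9,7,3,2,4,6,9,7,3,1,2,0,1,4,3,7,2,3,0,1,2,5,0,1,4,6,3,0,1,2,5,0,1,4,9,7,3,2,1,0,5,11,8,10,11,10,11,10,8,11,5,0,1,2,3,7,9,4,1,0,5,2,1,0,3,6,4,1,0,5,2,1,0,3,2,7,3,4,1,0,2,1,3,7,9,6,4,1,0,5,8,4,1,2,8,5,0,1,4,6,3,2,0,1,4,2,3,7,1,2,3,0,1,2,5,0,1,4,6,2,3,1,2,11,8,5,0,1,4,9,7,3,2,1,0,5,8,11,10,11,8,5,0,1,2,3,7,9,4,1,0,5,8,11,2,1,3,2,6,4,1,0,5,2,1,0,3,2,1,7,3,2,4,1,0,2,3,6,4,1,0,5,8,2,1,4,9,3,7,2,3,1,2,0,1,5,0,8,5,11,8,10,11,10,11,10,8,11,5,8,0,5,1,0,2,1,3,2,7,3,9,10,8,5,0,1,2,3,7,9,4,1,0,5,2,1,0,3,6,4,1,0,5,2,1,0,3,2,1,7,3,2,4,1,0,5,2,3,6,4,11,10,8,5,0,1,2,3,7,4,1,0,5,2,1,3,6,4,1,0,5,8,2,1,0,5,3,2,1,0,4,1,0,5,2,6,4,1,0,5,8,2]),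
   (1, 0, [1,4,7,3,5,0,1,2,8,5,0,1,4,6,3,1,2,5,0,1,4,9,7,3,2,1,0,5,8,11,4,6,7,3,2,0,1,4,7,0,1,2,3,5,0,1,2,8,5,0,1,4,6,4,7,2,3,1,2,0,1,4,9,7,3,2,1,0,5,8,10,5,0,1,4,6,4,3,1,2,0,1,4,9,7,3,2,1,0,8,5,11,8,10,11,10,11,10,8,11,5,8,0,1,2,3,7,9,4,1,0,2,1,3,4,6,4,1,0,5,9,7,3,2,1,4,6,4,3,7,2,3,1,2,0,1,4,9,7,3,2,1,0,8,5,11,8,10,11,10,11,10,8,11,5,8,0,1,2,3,7,9,4,1,0,2,1,3,2,7,3,4,6,4,1,2,3,7,9,3,2,1,4,6,0,1,4,7,3,2,1,0,8,5,11,8,10,11,10,11,10,8,11,5,8,0,1,2,3,7,4,1,0,6,4,1,2,3,10,8,5,0,1,2,3,7,9,4,1,0,5,8,2,1,3,7,6,4,1,0,5,8,2,1,0,5,3,2,1,0,7,3,2,4,1,0,5,8,2,1,3,6,11,8,5,0,1,2,3,7,9,4,1,0,5,2,1,0,3,7,6,4,1,0,5,8,11,2,1,0,3,2,7,3,4,1,0,2,6,4,1]),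
   (1, 1, [1,4,6,0,1,4,7,0,1,2,3,5,0,1,2,8,5,0,1,4,6,3,0,1,2,5,0,1,4,9,7,3,2,1,0,5,8,11,3,2,1,4,6,0,1,4,2,3,1,2,8,5,0,1,4,6,4,7,3,1,2,5,0,1,4,9,7,3,2,4,6,2,5,0,1,4,2,3,7,1,2,3,0,1,2,5,0,1,4,6,3,0,1,2,5,0,1,4,9,7,3,2,1,0,5,11,8,10,11,10,11,10,8,11,5,0,1,2,3,7,9,4,1,0,5,2,1,0,3,6,4,1,0,5,2,1,0,3,2,1,7,3,2,4,1,0,5,2,6,4,1,0,5,8,3,2,8,5,0,1,4,6,2,0,1,4,9,3,7,1,2,3,0,1,2,5,0,1,4,6,7,3,0,1,2,5,0,1,4,9,7,3,2,1,0,5,11,8,10,11,10,11,10,8,11,5,0,1,2,3,7,9,4,1,0,5,2,1,0,3,7,6,4,1,0,5,2,1,0,3,2,1,7,3,9,4,1,0,2,6,4,1,0,5,8,2,3,7,3,2,1,0,8,5,11,8,10,11,10,11,10,8,11,5,8,0,1,2,3,7,8,5,0,1,2,3,7,4,1,0,2,1,3,6,4,1,0,5,2,1,0,3,2,1,7,9,11,10,8,5,0,1,2,3,7,4,1,0,5,2,1,3,4,6,4,1,0,5,8,2,1,3,2]),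
   (1, 1, [1,4,6,0,1,4,7,0,1,2,3,5,0,1,2,8,5,0,1,4,6,3,0,1,2,5,0,1,4,9,7,3,2,1,0,5,8,11,3,2,1,4,6,0,1,4,2,3,1,2,8,5,0,1,4,6,4,7,3,1,2,5,0,1,4,9,7,3,2,1,0,5,8,9,7,3,1,2,0,1,4,6,3,1,2,0,1,4,7,3,2,1,0,8,5,11,8,10,11,10,11,10,8,11,5,8,0,1,2,3,7,4,1,0,2,1,3,6,4,1,0,2,1,3,7,9,8,5,0,1,4,6,2,0,1,4,3,7,2,3,5,0,1,2,8,5,0,1,4,6,3,0,1,2,5,0,1,4,9,7,3,2,1,0,5,11,8,10,11,10,11,10,8,11,5,0,1,2,3,7,9,4,1,0,5,2,1,0,3,6,4,1,0,5,8,2,1,0,5,3,2,7,3,4,1,0,2,6,4,1,0,5,8,4,6,3,1,2,0,1,4,9,7,3,2,1,0,8,5,11,8,10,11,10,11,10,8,11,5,8,0,1,2,3,7,9,4,1,0,2,1,3,6,4,10,8,5,0,1,2,3,7,9,4,1,0,5,2,1,3,7,6,4,1,0,5,8,2,1,0,5,3,7,9,4,1,2,6,4,1,0,11,8,5,0,1,2,3,7,9,4,1,0,5,2,1,0,3,7,6,4,1,0,5,8,11,2,1,0,3,2,1,4,1,0,5,2]),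
   (1, 0, [1,4,7,3,5,0,1,2,8,5,0,1,4,6,3,1,2,5,0,1,4,9,7,3,2,1,0,5,8,11,4,6,7,3,2,0,1,4,7,0,1,2,3,5,0,1,2,8,5,0,1,4,6,4,7,2,3,1,2,0,1,4,9,7,3,2,1,0,5,8,10,3,2,5,0,1,4,6,7,3,2,0,1,4,9,7,3,2,1,0,8,5,11,8,10,11,10,11,10,8,11,5,8,0,1,2,3,7,9,4,1,0,2,3,7,6,4,1,0,5,2,3,2,3,5,0,1,2,8,5,0,1,4,6,4,1,2,0,1,4,3,7,1,2,3,0,1,2,5,0,1,4,6,2,3,1,2,11,8,5,0,1,4,9,7,3,2,1,0,5,8,11,10,11,8,5,0,1,2,3,7,9,4,1,0,5,8,11,2,1,3,2,6,4,1,0,5,2,1,0,3,2,1,7,3,4,1,0,2,1,4,6,4,1,0,5,8,2,1,0,5,3,2,6,4,3,2,1,5,0,8,5,11,8,10,11,10,11,10,8,11,5,8,0,5,1,2,3,4,6,8,5,0,1,2,3,7,4,1,0,5,2,1,0,3,6,4,1,0,5,8,2,1,0,5,3,4,6,11,8,5,0,1,2,3,7,4,1,0,5,2,1,3,6,4,1,0,5,8,11,2,1,0,3,2,7,9]),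
   (0, 55, []),
   (0, 1349, []),
   (0, 2861, []),
   (0, 15, []),
   (0, 163, []),
   (0, 323, []),
   (0, 11, []),
   (0, 725, []),
   (0, 11, []),
   (0, 300, []),
   (0, 163, []),
   (0, 163, []),
   (0, 249, []),
   (0, 11, []),
   (0, 182, []),
   (0, 163, []),
   (0, 323, []),
   (0, 182, []),
   (0, 163, []),
   (0, 323, []),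
   (0, 300, []),
   (0, 300, []),
   (1, 1, [1,4,6,0,1,4,7,0,1,2,3,5,0,1,2,8,5,0,1,4,6,3,0,1,2,5,0,1,4,9,7,3,2,1,0,5,8,11,3,2,1,4,6,0,1,4,2,3,1,2,8,5,0,1,4,6,4,7,3,1,2,5,0,1,4,9,7,3,2,1,0,5,8,2,8,5,0,1,4,6,3,2,0,1,4,2,3,7,1,2,3,0,1,2,5,0,1,4,6,7,2,3,1,2,11,8,5,0,1,4,9,7,3,2,1,0,5,8,11,10,11,8,5,0,1,2,3,7,9,4,1,0,5,8,11,2,1,3,2,7,6,4,1,0,5,2,1,0,3,2,1,7,3,2,4,1,0,2,3,6,4,1,0,5,8,2,4,0,1,2,8,5,0,1,4,6,4,3,1,2,0,1,4,3,7,2,3,0,1,2,8,5,0,1,4,6,7,3,0,1,2,5,0,1,4,9,7,3,2,1,0,5,11,8,10,11,10,11,10,8,11,5,0,1,2,3,7,9,4,1,0,5,2,1,0,3,7,6,4,1,0,5,8,2,1,0,3,2,7,3,4,1,0,2,1,3,4,6,4,1,0,5,8,2,1,0,4,6,2,1,4,3,2,1,5,0,8,5,11,8,10,11,10,11,10,8,11,5,8,0,5,1,2,3,4,1,2,6,10,8,5,0,1,2,3,7,4,1,0,5,2,1,0,3,6,4,1,0,5,8,2,1,0,5,3,2,1,4,1,0,2,1,4,6,4,1,0,2,1,3,2,4,11,8,5,0,1,2,3,7,9,4,1,0,5,2,3,6,4,1,0,5,8,11,2,1,0,5,3,2,4,1,0,5,2,6,4,1]),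
   (1, 1, [1,4,6,0,1,4,7,0,1,2,3,5,0,1,2,8,5,0,1,4,6,3,0,1,2,5,0,1,4,9,7,3,2,1,0,5,8,11,3,2,1,4,6,0,1,4,2,3,1,2,8,5,0,1,4,6,4,7,3,1,2,5,0,1,4,9,7,3,2,1,0,5,8,1,4,6,0,1,4,2,1,0,8,5,11,8,10,11,10,11,10,8,11,5,8,0,1,2,4,1,0,2,0,1,4,9,7,3,2,1,0,8,5,11,8,10,11,10,11,10,8,11,5,8,0,1,2,3,7,9,4,1,0,2,6,4,1,2,1,5,0,8,5,11,8,10,11,10,11,10,8,11,5,8,0,5,1,2,8,5,0,1,2,3,7,4,1,0,5,2,1,0,3,2,6,4,1,0,5,8,2,1,0,5,3,2,4,1,0,2,3,6,4,1,0,2,3,11,10,8,11,5,0,1,2,3,7,9,4,1,0,5,2,3,6,4,1,0,5,8,11,2,1,0,3,2,7,3,4,1,0,2,1]),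
   (1, 0, [1,4,7,3,5,0,1,2,8,5,0,1,4,6,3,1,2,5,0,1,4,9,7,3,2,1,0,5,8,11,4,6,7,3,2,0,1,4,7,0,1,2,3,5,0,1,2,8,5,0,1,4,6,4,7,2,3,1,2,0,1,4,9,7,3,2,1,0,5,8,10,3,2,5,0,1,4,6,3,2,0,1,4,7,3,2,1,0,8,5,11,8,10,11,10,11,10,8,11,5,8,0,1,2,3,7,4,1,0,2,3,6,4,1,0,5,2,3,7,3,2,8,5,0,1,4,6,4,1,2,0,1,4,3,7,2,3,0,1,2,5,0,1,4,6,7,3,1,2,5,0,1,4,9,7,3,2,1,0,5,11,8,10,11,10,11,10,8,11,5,0,1,2,3,7,9,4,1,0,5,2,1,3,7,6,4,1,0,5,2,1,0,3,2,7,3,4,1,0,2,1,4,6,4,1,0,5,8,2,3,7,4,9,7,3,2,1,0,8,5,11,8,10,11,10,11,10,8,11,5,8,0,1,2,3,7,9,4,10,8,5,0,1,2,3,7,9,4,1,0,2,1,3,6,4,1,0,5,8,2,1,0,5,3,2,1,0,7,3,2,4,1,0,2,6,4,1,0,5,8,2,11,8,5,0,1,2,3,7,9,4,1,0,5,2,1,3,7,6,4,1,0,5,8,2,1,0,3,2,7,3,4,1,2,3,6]),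
   (1, 0, [1,4,7,3,5,0,1,2,8,5,0,1,4,6,3,1,2,5,0,1,4,9,7,3,2,1,0,5,8,11,4,6,7,3,2,0,1,4,7,0,1,2,3,5,0,1,2,8,5,0,1,4,6,4,7,2,3,1,2,0,1,4,9,7,3,2,1,0,5,8,10,2,0,1,4,6,2,0,1,4,9,7,3,2,1,0,8,5,11,8,10,11,10,11,10,8,11,5,8,0,1,2,3,7,9,4,1,0,2,6,4,1,0,2,4,3,1,2,0,1,4,6,7,2,3,1,2,0,1,4,9,7,3,2,1,0,8,5,11,8,10,11,10,11,10,8,11,5,8,0,1,2,3,7,9,4,1,0,2,1,3,2,7,6,4,1,0,2,1,3,4,8,5,0,1,2,3,7,9,4,1,0,5,2,1,0,6,4,1,0,5,8,2,1,0,5,3,2,1,7,3,2,4,1,0,5,8,2,6,4,1,2,3,7,11,10,8,5,0,1,2,3,7,9,4,1,0,5,2,1,6,4,1,0,5,8,11,2,1,3,2,7,3,4,1,0,5,8,2,1,0,5]),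
   (1, 0, [1,4,7,3,5,0,1,2,8,5,0,1,4,6,3,1,2,5,0,1,4,9,7,3,2,1,0,5,8,11,4,6,7,3,2,0,1,4,7,0,1,2,3,5,0,1,2,8,5,0,1,4,6,4,7,2,3,1,2,0,1,4,9,7,3,2,1,0,5,8,10,8,5,0,1,4,6,3,2,1,4,9,3,7,2,3,0,1,2,5,0,1,4,6,7,2,3,0,1,2,5,0,1,4,9,7,3,2,1,0,5,11,8,10,11,10,11,10,8,11,5,0,1,2,3,7,9,4,1,0,5,2,1,0,3,2,7,6,4,1,0,5,2,1,0,3,2,7,3,9,4,1,2,3,6,4,1,0,5,8,2,3,1,2,0,1,4,6,1,2,0,1,4,7,3,2,1,0,8,5,11,8,10,11,10,11,10,8,11,5,8,0,1,2,3,7,4,1,0,2,1,6,4,1,0,2,1,3,2,5,0,1,4,6,4,1,2,0,1,4,9,7,3,2,1,0,8,5,11,8,10,11,10,11,10,8,11,5,8,0,1,2,3,7,9,4,1,0,2,1,4,6,4,1,0,5,8,5,0,1,2,3,7,9,4,1,0,5,2,1,0,3,6,4,1,0,5,8,2,1,0,5,3,7,4,1,0,2,1,6,4,1,0,5,8,2,3,11,10,8,5,0,1,2,3,7,9,4,1,0,5,8,2,1,3,7,6,4,1,0,5,8,11,10,2,1,0,5,3,2,1,7,4,1,2,3,6,4,1,0]),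
   (1, 0, [1,4,7,3,5,0,1,2,8,5,0,1,4,6,3,1,2,5,0,1,4,9,7,3,2,1,0,5,8,11,4,6,7,3,2,0,1,4,7,0,1,2,3,5,0,1,2,8,5,0,1,4,6,4,7,2,3,1,2,0,1,4,9,7,3,2,1,0,5,8,10,8,5,0,1,4,6,3,2,0,1,4,3,7,2,3,0,1,2,5,0,1,4,6,7,3,0,1,2,5,0,1,4,9,7,3,2,1,0,5,11,8,10,11,10,11,10,8,11,5,0,1,2,3,7,9,4,1,0,5,2,1,0,3,7,6,4,1,0,5,2,1,0,3,2,7,3,4,1,0,2,3,6,4,1,0,5,8,2,8,5,0,1,4,6,4,1,2,5,0,1,4,3,7,2,3,0,1,2,5,0,1,4,6,2,3,1,2,5,0,1,4,9,7,3,2,1,0,5,11,8,10,11,10,11,10,8,11,5,0,1,2,3,7,9,4,1,0,5,2,1,3,2,6,4,1,0,5,2,1,0,3,2,7,3,4,1,0,5,2,1,4,6,4,1,0,5,8,2,8,5,0,1,4,6,2,0,1,4,3,7,2,3,0,1,2,8,5,0,1,4,6,7,3,0,1,2,5,0,1,4,9,7,3,2,1,0,5,11,8,10,11,10,11,10,8,11,5,0,1,2,3,7,9,4,1,0,5,2,1,0,3,7,6,4,1,0,5,8,2,1,0,3,2,7,3,4,1,0,2,6,4,2,3,7,9,4,1,0,5,2,1,3,2,6,4,1,0,5,8,2,1,0,3,2,7,3,4,1,2,3,7,9,6,11,8,5,0,1,2,3,7,9,4,1,0,5,2,1,0,3,2,7,6,4,1,0,5,8,2,1,0,5,3,2,7,4,1,0,5,6]),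
   (1, 1, [1,4,6,0,1,4,7,0,1,2,3,5,0,1,2,8,5,0,1,4,6,3,0,1,2,5,0,1,4,9,7,3,2,1,0,5,8,11,3,2,1,4,6,0,1,4,2,3,1,2,8,5,0,1,4,6,4,7,3,1,2,5,0,1,4,9,7,3,2,1,0,5,8,2,5,0,1,4,6,1,2,0,1,4,7,3,2,1,0,8,5,11,8,10,11,10,11,10,8,11,5,8,0,1,2,3,7,4,1,0,2,1,6,4,1,0,5,2,4,3,1,2,0,1,4,6,4,3,1,2,0,1,4,7,3,2,1,0,8,5,11,8,10,11,10,11,10,8,11,5,8,0,1,2,3,7,4,1,0,2,1,3,4,6,4,1,0,2,1,3,4,8,5,0,1,2,3,7,9,4,1,0,5,2,1,0,3,6,4,1,0,5,2,1,3,2,7,3,4,1,0,6,11,10,8,5,0,1,2,3,7,9,4,1,0,5,2,1,3,2,6,4,1,0,2,1,3,2,7,3,4,1,0,5,8,11,2,1,0,5,8]),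
   (1, 0, [1,4,7,3,5,0,1,2,8,5,0,1,4,6,3,1,2,5,0,1,4,9,7,3,2,1,0,5,8,11,4,6,7,3,2,0,1,4,7,0,1,2,3,5,0,1,2,8,5,0,1,4,6,4,7,2,3,1,2,0,1,4,9,7,3,2,1,0,5,8,10,4,3,1,2,0,1,4,6,7,2,3,1,2,0,1,4,9,7,3,2,1,0,8,5,11,8,10,11,10,11,10,8,11,5,8,0,1,2,3,7,9,4,1,0,2,1,3,2,7,6,4,1,0,2,1,3,4,2,8,5,0,1,4,6,4,1,2,0,1,4,3,7,1,2,3,0,1,2,8,5,0,1,4,6,7,3,0,1,2,5,0,1,4,9,7,3,2,1,0,5,11,8,10,11,10,11,10,8,11,5,0,1,2,3,7,9,4,1,0,5,2,1,0,3,7,6,4,1,0,5,8,2,1,0,3,2,1,7,3,4,1,0,2,1,4,6,4,1,0,5,8,2,7,3,2,1,4,6,0,1,4,9,7,3,2,1,0,8,5,11,8,10,11,10,11,10,8,11,5,8,0,1,2,3,7,9,4,1,0,6,4,1,2,3,7,10,8,5,0,1,2,3,7,4,1,0,5,2,1,0,3,6,4,1,0,5,8,2,1,0,5,3,2,7,4,1,2,3,6,4,1,11,8,5,0,1,2,3,7,9,4,1,0,5,2,1,3,2,7,6,4,1,0,5,2,1,0,3,2,1,4,1,2,3,6]),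
   (1, 1, [1,4,6,0,1,4,7,0,1,2,3,5,0,1,2,8,5,0,1,4,6,3,0,1,2,5,0,1,4,9,7,3,2,1,0,5,8,11,3,2,1,4,6,0,1,4,2,3,1,2,8,5,0,1,4,6,4,7,3,1,2,5,0,1,4,9,7,3,2,1,0,5,8,2,0,1,4,6,2,3,1,2,0,1,4,7,3,2,1,0,8,5,11,8,10,11,10,11,10,8,11,5,8,0,1,2,3,7,4,1,0,2,1,3,2,6,4,1,0,2,0,1,2,8,5,0,1,4,6,3,2,1,4,2,3,7,1,2,3,0,1,2,5,0,1,4,6,7,2,3,0,1,2,5,0,1,4,9,7,3,2,1,0,5,11,8,10,11,10,11,10,8,11,5,0,1,2,3,7,9,4,1,0,5,2,1,0,3,2,7,6,4,1,0,5,2,1,0,3,2,1,7,3,2,4,1,2,3,6,4,1,0,5,8,2,1,0,4,6,2,1,4,7,3,2,1,5,0,8,5,11,8,10,11,10,11,10,8,11,5,8,0,5,1,2,3,7,4,1,2,6,4,8,5,0,1,2,3,7,9,4,1,0,5,2,1,3,6,4,1,0,5,8,2,1,0,5,3,2,7,4,1,0,2,1,6,4,1,0,5,8,11,8,5,0,1,2,3,7,9,4,1,0,5,2,1,0,3,7,6,4,1,0,5,8,2,1,0,5,3,2,1,0,7,4,1,0,5,6]),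
   (1, 0, [1,4,7,3,5,0,1,2,8,5,0,1,4,6,3,1,2,5,0,1,4,9,7,3,2,1,0,5,8,11,4,6,7,3,2,0,1,4,7,0,1,2,3,5,0,1,2,8,5,0,1,4,6,4,7,2,3,1,2,0,1,4,9,7,3,2,1,0,5,8,10,1,2,0,1,4,9,7,3,2,1,0,8,5,11,8,10,11,10,11,10,8,11,5,8,0,1,2,3,7,9,4,1,0,2,1,8,5,0,1,4,6,7,3,2,0,1,4,3,7,2,3,0,1,2,5,0,1,4,6,7,3,0,1,2,5,0,1,4,9,7,3,2,1,0,5,11,8,10,11,10,11,10,8,11,5,0,1,2,3,7,9,4,1,0,5,2,1,0,3,7,6,4,1,0,5,2,1,0,3,2,7,3,4,1,0,2,3,7,6,4,1,0,5,8,0,1,4,2,1,0,8,5,11,8,10,11,10,11,10,8,11,5,8,0,1,2,4,1,0,10,8,5,0,1,2,3,7,4,1,0,5,2,1,3,2,6,4,1,0,5,8,2,1,0,5,3,2,4,1,0,5,8,2,1,4,6,4,1,11,10,8,11,5,0,1,2,3,7,9,4,1,0,5,2,1,3,7,4,6,4,1,0,5,2,1,0,3,2,7,3,4,1,0,2,3,6,4,1,0,5,8,2,3]),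
   (1, 0, [1,4,7,3,5,0,1,2,8,5,0,1,4,6,3,1,2,5,0,1,4,9,7,3,2,1,0,5,8,11,4,6,7,3,2,0,1,4,7,0,1,2,3,5,0,1,2,8,5,0,1,4,6,4,7,2,3,1,2,0,1,4,9,7,3,2,1,0,5,8,10,4,7,3,1,2,0,1,4,6,2,3,1,2,0,1,4,9,7,3,2,1,0,8,5,11,8,10,11,10,11,10,8,11,5,8,0,1,2,3,7,9,4,1,0,2,1,3,2,6,4,1,0,2,1,3,7,4,2,8,5,0,1,4,6,1,2,0,1,4,3,7,2,3,5,0,1,2,8,5,0,1,4,6,7,3,1,2,11,8,5,0,1,4,9,7,3,2,1,0,5,8,11,10,11,8,5,0,1,2,3,7,9,4,1,0,5,8,11,2,1,3,7,6,4,1,0,5,8,2,1,0,5,3,2,7,3,4,1,0,2,1,6,4,1,0,5,8,2,8,5,11,8,10,11,10,11,10,8,11,5,8,10,8,5,0,1,2,3,7,4,1,0,5,2,1,6,4,1,0,5,8,2,1,0,5,3,2,1,0,4,1,2,3,7,9,11,8,5,0,1,2,3,7,4,1,0,5,2,1,3,6,4,1,0,5,8,2,1,0,3,2,7,9,4,1,6,4]),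
   (1, 1, [1,4,6,0,1,4,7,0,1,2,3,5,0,1,2,8,5,0,1,4,6,3,0,1,2,5,0,1,4,9,7,3,2,1,0,5,8,11,3,2,1,4,6,0,1,4,2,3,1,2,8,5,0,1,4,6,4,7,3,1,2,5,0,1,4,9,7,3,2,1,0,5,8,1,4,6,2,1,4,7,3,2,1,0,8,5,11,8,10,11,10,11,10,8,11,5,8,0,1,2,3,7,4,1,2,6,4,1,8,5,0,1,4,6,1,2,0,1,4,3,7,1,2,3,0,1,2,5,0,1,4,6,2,3,0,1,2,5,0,1,4,9,7,3,2,1,0,5,11,8,10,11,10,11,10,8,11,5,0,1,2,3,7,9,4,1,0,5,2,1,0,3,2,6,4,1,0,5,2,1,0,3,2,1,7,3,4,1,0,2,1,6,4,1,0,5,8,6,1,4,3,2,1,0,8,5,11,8,10,11,10,11,10,8,11,5,8,0,1,2,3,4,1,6,10,8,5,0,1,2,3,7,9,4,1,0,5,2,3,6,4,1,0,5,2,1,0,11,8,5,0,1,2,3,7,9,4,1,0,5,2,1,0,3,6,4,1,0,5,8,2,1,3,2,4,1,0,6,4,1]),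
   (1, 0, [1,4,7,3,5,0,1,2,8,5,0,1,4,6,3,1,2,5,0,1,4,9,7,3,2,1,0,5,8,11,4,6,7,3,2,0,1,4,7,0,1,2,3,5,0,1,2,8,5,0,1,4,6,4,7,2,3,1,2,0,1,4,9,7,3,2,1,0,5,8,10,8,5,0,1,4,6,1,2,8,5,0,1,4,3,7,2,3,0,1,2,5,0,1,4,6,3,0,1,2,5,0,1,4,9,7,3,2,1,0,5,11,8,10,11,10,11,10,8,11,5,0,1,2,3,7,9,4,1,0,5,2,1,0,3,6,4,1,0,5,2,1,0,3,2,7,3,4,1,0,5,8,2,1,6,4,1,0,5,8,3,2,0,1,4,6,2,0,1,4,3,2,1,0,8,5,11,8,10,11,10,11,10,8,11,5,8,0,1,2,3,4,1,0,2,6,4,1,0,2,3,5,0,8,5,11,8,10,11,10,11,10,8,11,5,8,0,5,10,8,5,0,1,2,3,7,9,4,1,0,5,2,1,3,2,7,4,6,4,1,0,5,2,1,0,3,2,1,7,3,4,1,0,5,8,2,1,6,11,10,8,5,0,1,2,3,7,9,4,1,0,5,8,2,1,3,2,6,4,1,0,5,8,2,1,0,5,3,2,1,0,4,1,0,5,2,6,4,1,0,5,2,1,3]),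
   (1, 0, [1,4,7,3,5,0,1,2,8,5,0,1,4,6,3,1,2,5,0,1,4,9,7,3,2,1,0,5,8,11,4,6,7,3,2,0,1,4,7,0,1,2,3,5,0,1,2,8,5,0,1,4,6,4,7,2,3,1,2,0,1,4,9,7,3,2,1,0,5,8,10,1,2,0,1,4,6,7,3,2,1,4,9,7,3,2,1,0,8,5,11,8,10,11,10,11,10,8,11,5,8,0,1,2,3,7,9,4,1,2,3,7,6,4,1,0,2,1,0,1,2,8,5,0,1,4,6,3,2,1,4,7,9,3,7,2,3,0,1,2,5,0,1,4,6,7,2,3,1,2,5,0,1,4,9,7,3,2,1,0,5,11,8,10,11,10,11,10,8,11,5,0,1,2,3,7,9,4,1,0,5,2,1,3,2,7,6,4,1,0,5,2,1,0,3,2,7,3,9,7,4,1,2,3,6,4,1,0,5,8,2,1,0,3,2,1,4,6,2,0,1,4,3,2,1,0,8,5,11,8,10,11,10,11,10,8,11,5,8,0,1,2,3,4,1,0,2,6,4,1,2,3,8,5,0,1,2,3,7,9,4,1,0,5,2,1,3,7,4,6,4,1,0,5,2,1,0,3,2,7,3,4,1,0,5,2,1,3,6,4,1,0,2,11,10,8,5,0,1,2,3,7,9,4,1,0,5,2,1,0,3,7,6,4,1,0,5,8,2,1,0,5,3,7,4,1,0,2,1,3,2,6]),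
   (0, 20, []),
   (0, 163, []),
   (0, 300, []),
   (0, 163, []),
   (0, 11, []),
   (0, 1023, []),
   (0, 1023, []),
   (0, 323, []),
   (0, 166, []),
   (0, 470, []),
   (0, 163, []),
   (0, 11, []),
   (0, 384, []),
   (0, 11, []),
   (0, 163, []),
   (0, 11, []),
   (0, 397, [])]

def wit4 : List (ℕ × ℕ × List ℕ) :=
  [(0, 397, []),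
   (0, 470, []),
   (0, 1338, []),
   (0, 323, []),
   (0, 15, []),
   (0, 2963, []),
   (0, 163, []),
   (0, 11, []),
   (0, 778, []),
   (0, 470, []),
   (0, 300, []),
   (0, 300, []),
   (1, 1, [1,4,6,0,1,4,7,0,1,2,3,5,0,1,2,8,5,0,1,4,6,3,0,1,2,5,0,1,4,9,7,3,2,1,0,5,8,11,3,2,1,4,6,0,1,4,2,3,1,2,8,5,0,1,4,6,4,7,3,1,2,5,0,1,4,9,7,3,2,4,6,2,0,1,4,3,7,2,3,0,1,2,5,0,1,4,6,2,3,0,1,2,5,0,1,4,9,7,3,2,1,0,5,11,8,10,11,10,11,10,8,11,5,0,1,2,3,7,9,4,1,0,5,2,1,0,3,2,6,4,1,0,5,2,1,0,3,2,7,3,4,1,0,2,1,2,0,1,4,9,3,7,1,2,3,0,1,2,5,0,1,4,6,7,3,1,2,5,0,1,4,9,7,3,2,1,0,5,11,8,10,11,10,11,10,8,11,5,0,1,2,3,7,9,4,1,0,5,2,1,3,7,6,4,1,0,5,2,1,0,3,2,1,7,3,9,4,1,0,2,1,6,4,1,0,5,8,4,1,2,0,1,4,6,3,2,0,1,4,9,7,3,2,1,0,8,5,11,8,10,11,10,11,10,8,11,5,8,0,1,2,3,7,9,4,1,0,2,3,6,4,1,0,2,1,4,10,8,5,0,1,2,3,7,9,4,1,0,5,2,1,3,7,4,6,4,1,0,5,8,2,1,0,5,3,2,1,0,7,3,4,1,0,2,3,7,9,6,11,8,5,0,1,2,3,7,9,4,1,0,5,8,2,3,6,4,1,0,5,2]),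
   (1, 1, [1,4,6,0,1,4,7,0,1,2,3,5,0,1,2,8,5,0,1,4,6,3,0,1,2,5,0,1,4,9,7,3,2,1,0,5,8,11,3,2,1,4,6,0,1,4,2,3,1,2,8,5,0,1,4,6,4,7,3,1,2,5,0,1,4,9,7,3,2,1,0,5,8,9,7,2,3,1,2,0,1,4,6,4,7,2,3,1,2,0,1,4,9,7,3,2,1,0,8,5,11,8,10,11,10,11,10,8,11,5,8,0,1,2,3,7,9,4,1,0,2,1,3,2,7,4,6,4,1,0,2,1,3,2,7,9,2,8,5,0,1,4,6,3,2,1,4,3,7,2,3,0,1,2,8,5,0,1,4,6,2,3,0,1,2,5,0,1,4,9,7,3,2,1,0,5,11,8,10,11,10,11,10,8,11,5,0,1,2,3,7,9,4,1,0,5,2,1,0,3,2,6,4,1,0,5,8,2,1,0,3,2,7,3,4,1,2,3,6,4,1,0,5,8,2,7,3,2,1,4,6,0,1,4,9,7,3,2,1,0,8,5,11,8,10,11,10,11,10,8,11,5,8,0,1,2,3,7,9,4,1,0,6,4,1,2,3,7,10,8,5,0,1,2,3,7,9,4,1,0,5,2,1,3,2,6,4,1,0,5,8,2,1,0,5,3,2,4,1,0,5,2,1,6,4,1,0,11,8,5,0,1,2,3,7,4,1,0,5,2,1,3,6,4,1,0,5,8,2,1,0,3,2,7,4,1,2]),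
   (1, 0, [1,4,7,3,5,0,1,2,8,5,0,1,4,6,3,1,2,5,0,1,4,9,7,3,2,1,0,5,8,11,4,6,7,3,2,0,1,4,7,0,1,2,3,5,0,1,2,8,5,0,1,4,6,4,7,2,3,1,2,0,1,4,9,7,3,2,1,0,5,8,10,4,5,0,1,2,8,5,0,1,4,6,4,3,1,2,0,1,4,3,7,2,3,0,1,2,8,5,0,1,4,6,7,3,0,1,2,5,0,1,4,9,7,3,2,1,0,5,11,8,10,11,10,11,10,8,11,5,0,1,2,3,7,9,4,1,0,5,2,1,0,3,7,6,4,1,0,5,8,2,1,0,3,2,7,3,4,1,0,2,1,3,4,6,4,1,0,5,8,2,1,0,5,4,0,1,2,8,5,0,1,4,6,4,1,2,0,1,4,3,7,1,2,3,0,1,2,5,0,1,4,6,2,3,1,2,5,0,1,4,9,7,3,2,1,0,5,11,8,10,11,10,11,10,8,11,5,0,1,2,3,7,9,4,1,0,5,2,1,3,2,6,4,1,0,5,2,1,0,3,2,1,7,3,4,1,0,2,1,4,6,4,1,0,5,8,2,1,0,2,1,0,8,5,11,8,10,11,10,11,10,8,11,5,8,0,1,2,8,5,0,1,2,3,7,9,4,1,0,5,2,1,3,4,6,4,1,0,5,2,1,0,3,2,4,1,0,6,4,1,11,10,8,5,0,1,2,3,7,9,4,1,0,5,2,1,3,2,6,4,1,0,5,2,1,0,3,2,1,7,3,2,4,1,0,2,1,6,4,1,0,5,2,1]),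
   (0, 726, []),
   (0, 3192, []),
   (1, 1, [1,4,6,0,1,4,7,0,1,2,3,5,0,1,2,8,5,0,1,4,6,3,0,1,2,5,0,1,4,9,7,3,2,1,0,5,8,11,3,2,1,4,6,0,1,4,2,3,1,2,8,5,0,1,4,6,4,7,3,1,2,5,0,1,4,9,7,3,2,4,6,3,2,1,4,3,7,2,3,0,1,2,5,0,1,4,6,7,2,3,1,2,11,8,5,0,1,4,9,7,3,2,1,0,5,8,11,10,11,8,5,0,1,2,3,7,9,4,1,0,5,8,11,2,1,3,2,7,6,4,1,0,5,2,1,0,3,2,7,3,4,1,2,3,6,4,1,0,5,8,5,0,1,2,8,5,0,1,4,6,9,7,3,1,2,0,1,4,3,7,2,3,0,1,2,5,0,1,4,6,3,0,1,2,5,0,1,4,9,7,3,2,1,0,5,11,8,10,11,10,11,10,8,11,5,0,1,2,3,7,9,4,1,0,5,2,1,0,3,6,4,1,0,5,2,1,0,3,2,7,3,4,1,0,2,1,3,7,9,6,4,1,0,5,8,2,1,0,5,1,2,0,1,4,6,3,2,1,4,7,3,2,1,0,8,5,11,8,10,11,10,11,10,8,11,5,8,0,1,2,3,7,4,1,2,3,6,4,1,0,2,1,8,5,0,1,2,3,7,9,4,1,0,5,2,1,3,7,6,4,1,0,5,2,1,0,3,2,1,7,3,9,4,1,0,11,10,8,5,0,1,2,3,7,9,4,1,0,5,2,3,6,4,1,0,2,1,3,2,4,1,0,5]),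
   (1, 1, [1,4,6,0,1,4,7,0,1,2,3,5,0,1,2,8,5,0,1,4,6,3,0,1,2,5,0,1,4,9,7,3,2,1,0,5,8,11,3,2,1,4,6,0,1,4,2,3,1,2,8,5,0,1,4,6,4,7,3,1,2,5,0,1,4,9,7,3,2,1,0,5,8,3,2,8,5,0,1,4,6,2,0,1,4,3,7,2,3,0,1,2,5,0,1,4,6,2,3,0,1,2,5,0,1,4,9,7,3,2,1,0,5,11,8,10,11,10,11,10,8,11,5,0,1,2,3,7,9,4,1,0,5,2,1,0,3,2,6,4,1,0,5,2,1,0,3,2,7,3,4,1,0,2,6,4,1,0,5,8,2,3,5,0,1,2,8,5,0,1,4,6,1,2,0,1,4,3,7,2,3,5,0,1,2,8,5,0,1,4,6,3,1,2,11,8,5,0,1,4,9,7,3,2,1,0,5,8,11,10,11,8,5,0,1,2,3,7,9,4,1,0,5,8,11,2,1,3,6,4,1,0,5,8,2,1,0,5,3,2,7,3,4,1,0,2,1,6,4,1,0,5,8,2,1,0,5,7,9,3,7,2,3,1,2,0,1,5,0,8,5,11,8,10,11,10,11,10,8,11,5,8,0,5,1,0,2,1,3,2,7,3,9,7,8,5,0,1,2,3,7,9,4,1,0,5,2,1,3,2,6,4,1,0,5,8,2,1,0,5,3,7,9,4,1,0,2,1,3,2,4,11,8,5,0,1,2,3,7,9,4,1,0,5,8,2,1,3,6,4,1,0,5,8,11,10,2,1,0,5,3,2,4,1,2,3,6,4]),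
   (1, 1, [1,4,6,0,1,4,7,0,1,2,3,5,0,1,2,8,5,0,1,4,6,3,0,1,2,5,0,1,4,9,7,3,2,1,0,5,8,11,3,2,1,4,6,0,1,4,2,3,1,2,8,5,0,1,4,6,4,7,3,1,2,5,0,1,4,9,7,3,2,4,6,1,2,0,1,4,3,7,2,3,0,1,2,8,5,0,1,4,6,7,3,0,1,2,5,0,1,4,9,7,3,2,1,0,5,11,8,10,11,10,11,10,8,11,5,0,1,2,3,7,9,4,1,0,5,2,1,0,3,7,6,4,1,0,5,8,2,1,0,3,2,7,3,4,1,0,2,1,6,4,1,0,5,8,1,2,8,5,0,1,4,6,3,2,0,1,4,7,9,3,7,1,2,3,0,1,2,5,0,1,4,6,7,3,0,1,2,5,0,1,4,9,7,3,2,1,0,5,11,8,10,11,10,11,10,8,11,5,0,1,2,3,7,9,4,1,0,5,2,1,0,3,7,6,4,1,0,5,2,1,0,3,2,1,7,3,9,7,4,1,0,2,3,6,4,1,0,5,8,2,1,8,5,0,1,4,6,7,3,2,1,4,3,7,2,3,0,1,2,5,0,1,4,6,7,3,1,2,5,0,1,4,9,7,3,2,1,0,5,11,8,10,11,10,11,10,8,11,5,0,1,2,3,7,9,4,1,0,5,2,1,3,7,6,4,1,0,5,2,1,0,3,2,7,3,4,1,2,3,7,6,4,1,0,5,8,10,8,5,0,1,2,3,7,9,4,1,0,5,2,1,6,4,1,0,5,8,2,1,0,5,3,2,1,0,7,3,4,1,0,5,8,2,1,0,5,6,11,8,5,0,1,2,3,7,9,4,1,0,5,2,1,3,2,4,6,4,1,0,5,8,2,1,0,5,3,2,1,0,7,3,4,1,6]),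
   (0, 2390, []),
   (0, 766, []),
   (0, 11, []),
   (0, 163, []),
   (0, 300, []),
   (0, 163, []),
   (0, 1778, []),
   (0, 11, []),
   (0, 163, []),
   (0, 15, []),
   (0, 11, []),
   (0, 163, []),
   (0, 125, []),
   (0, 323, []),
   (0, 163, []),
   (0, 300, []),
   (0, 300, []),
   (0, 1223, []),
   (1, 1, [1,4,6,0,1,4,7,0,1,2,3,5,0,1,2,8,5,0,1,4,6,3,0,1,2,5,0,1,4,9,7,3,2,1,0,5,8,11,3,2,1,4,6,0,1,4,2,3,1,2,8,5,0,1,4,6,4,7,3,1,2,5,0,1,4,9,7,3,2,4,6,2,0,1,4,2,3,7,1,2,3,0,1,2,5,0,1,4,6,3,1,2,5,0,1,4,9,7,3,2,1,0,5,11,8,10,11,10,11,10,8,11,5,0,1,2,3,7,9,4,1,0,5,2,1,3,6,4,1,0,5,2,1,0,3,2,1,7,3,2,4,1,0,2,6,4,1,0,5,8,5,0,1,2,8,5,0,1,4,6,4,1,2,0,1,4,3,7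,2,3,5,0,1,2,8,5,0,1,4,6,3,1,2,11,8,5,0,1,4,9,7,3,2,1,0,5,8,11,10,11,8,5,0,1,2,3,7,9,4,1,0,5,8,11,2,1,3,6,4,1,0,5,8,2,1,0,5,3,2,7,3,4,1,0,2,1,4,6,4,1,0,5,8,2,1,0,5,2,1,4,6,1,2,0,1,4,7,3,2,1,0,8,5,11,8,10,11,10,11,10,8,11,5,8,0,1,2,3,7,4,1,0,2,1,6,4,1,2,10,8,5,0,1,2,3,7,9,4,1,0,5,2,1,0,3,7,6,4,1,0,5,2,1,0,3,2,7,4,1,0,6,4,1,2,11,8,5,0,1,2,3,7,9,4,1,0,5,2,1,3,2,7,4,6,4,1,0,5,8,2,1,0,5,3,2,1,7,3,4,1,0]),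
   (1, 1, [1,4,6,0,1,4,7,0,1,2,3,5,0,1,2,8,5,0,1,4,6,3,0,1,2,5,0,1,4,9,7,3,2,1,0,5,8,11,3,2,1,4,6,0,1,4,2,3,1,2,8,5,0,1,4,6,4,7,3,1,2,5,0,1,4,9,7,3,2,1,0,5,8,2,1,4,6,3,2,0,1,4,9,7,3,2,1,0,8,5,11,8,10,11,10,11,10,8,11,5,8,0,1,2,3,7,9,4,1,0,2,3,6,4,1,8,5,0,1,4,6,3,2,5,0,1,4,2,3,7,1,2,3,0,1,2,5,0,1,4,6,3,0,1,2,5,0,1,4,9,7,3,2,1,0,5,11,8,10,11,10,11,10,8,11,5,0,1,2,3,7,9,4,1,0,5,2,1,0,3,6,4,1,0,5,2,1,0,3,2,1,7,3,2,4,1,0,5,2,3,6,4,1,0,5,8,2,3,2,1,4,6,0,1,4,2,1,0,8,5,11,8,10,11,10,11,10,8,11,5,8,0,1,2,4,1,0,6,4,1,2,3,8,5,0,1,2,3,7,9,4,1,0,5,2,1,3,6,4,1,0,5,2,1,0,3,2,1,7,3,4,1,0,5,8,2,1,3,4,6,4,1,11,10,8,5,0,1,2,3,7,9,4,1,0,5,8,2,1,3,7,6,4,1,0,5,2,1,0,3,2,1,7,3,4,1,0,5,2,6,4,1,2]),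
   (0, 3011, []),
   (1, 1, [1,4,6,0,1,4,7,0,1,2,3,5,0,1,2,8,5,0,1,4,6,3,0,1,2,5,0,1,4,9,7,3,2,1,0,5,8,11,3,2,1,4,6,0,1,4,2,3,1,2,8,5,0,1,4,6,4,7,3,1,2,5,0,1,4,9,7,3,2,1,0,5,8,7,3,2,1,4,9,7,3,2,1,5,0,8,5,11,8,10,11,10,11,10,8,11,5,8,0,5,1,2,3,7,9,4,1,2,3,7,9,7,3,2,8,5,0,1,4,6,2,0,1,4,9,3,7,2,3,0,1,2,5,0,1,4,6,7,3,0,1,2,5,0,1,4,9,7,3,2,1,0,5,11,8,10,11,10,11,10,8,11,5,0,1,2,3,7,9,4,1,0,5,2,1,0,3,7,6,4,1,0,5,2,1,0,3,2,7,3,9,4,1,0,2,6,4,1,0,5,8,2,3,7,9,6,4,7,3,2,1,5,0,8,5,11,8,10,11,10,11,10,8,11,5,8,0,5,1,2,3,7,4,6,10,8,5,0,1,2,3,7,9,4,1,0,2,1,3,2,6,4,1,0,2,1,3,7,4,11,8,5,0,1,2,3,7,4,1,0,2,1,3,2,4,6,4,1,0,2,1,3,2]),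
   (1, 1, [1,4,6,0,1,4,7,0,1,2,3,5,0,1,2,8,5,0,1,4,6,3,0,1,2,5,0,1,4,9,7,3,2,1,0,5,8,11,3,2,1,4,6,0,1,4,2,3,1,2,8,5,0,1,4,6,4,7,3,1,2,5,0,1,4,9,7,3,2,4,6,2,1,4,3,7,2,3,0,1,2,8,5,0,1,4,6,4,7,3,1,2,5,0,1,4,9,7,3,2,1,0,5,11,8,10,11,10,11,10,8,11,5,0,1,2,3,7,9,4,1,0,5,2,1,3,7,4,6,4,1,0,5,8,2,1,0,3,2,7,3,4,1,2,3,2,1,4,7,9,3,7,2,3,0,1,2,5,0,1,4,6,7,3,0,1,2,5,0,1,4,9,7,3,2,1,0,5,11,8,10,11,10,11,10,8,11,5,0,1,2,3,7,9,4,1,0,5,2,1,0,3,7,6,4,1,0,5,2,1,0,3,2,7,3,9,7,4,1,2,3,6,4,1,0,5,8,6,4,1,2,0,1,4,9,7,3,2,1,0,8,5,11,8,10,11,10,11,10,8,11,5,8,0,1,2,3,7,9,4,1,0,2,1,4,6,10,8,5,0,1,2,3,7,9,4,1,0,5,2,1,0,3,2,7,6,4,1,0,5,2,1,0,3,2,7,9,4,1,2,3,6,4,1,0,2,11,8,5,0,1,2,3,7,9,4,1,0,5,2,1,0,6,4,1,0,5,8,2,1,3,2,7,3,4,1,0,5]),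
   (0, 25, []),
   (0, 307, []),
   (0, 2963, []),
   (0, 989, []),
   (0, 199, []),
   (0, 2963, []),
   (0, 257, []),
   (0, 2963, []),
   (0, 199, []),
   (0, 894, []),
   (0, 199, []),
   (0, 2963, []),
   (0, 166, []),
   (0, 2963, []),
   (0, 199, []),
   (0, 72, []),
   (0, 2315, []),
   (0, 2963, []),
   (0, 894, []),
   (0, 307, []),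
   (0, 199, []),
   (0, 199, []),
   (0, 2963, []),
   (0, 2963, []),
   (0, 352, []),
   (0, 199, []),
   (0, 2315, []),
   (0, 339, []),
   (0, 7651, []),
   (0, 199, []),
   (0, 515, []),
   (0, 3192, []),
   (0, 199, []),
   (0, 2466, []),
   (0, 2736, []),
   (0, 19, []),
   (0, 2315, []),
   (0, 2963, []),
   (0, 2963, []),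
   (0, 307, []),
   (0, 3192, []),
   (0, 2963, []),
   (0, 2963, []),
   (0, 2963, []),
   (0, 2690, []),
   (0, 894, []),
   (0, 307, []),
   (0, 1981, []),
   (0, 6997, []),
   (0, 3466, []),
   (0, 1540, []),
   (0, 2963, []),
   (0, 2315, []),
   (0, 2963, []),
   (0, 307, []),
   (0, 2963, []),
   (0, 2963, []),
   (0, 3192, []),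
   (0, 751, []),
   (0, 822, []),
   (0, 2963, [])]

def wit5 : List (ℕ × ℕ × List ℕ) :=
  [(0, 2963, []),
   (0, 2963, []),
   (0, 307, []),
   (0, 1632, []),
   (0, 2963, []),
   (0, 2963, []),
   (0, 2963, []),
   (0, 2264, []),
   (0, 2963, []),
   (0, 2963, []),
   (0, 96, []),
   (0, 2963, []),
   (0, 2315, []),
   (0, 2963, []),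
   (0, 307, []),
   (0, 894, []),
   (0, 2963, []),
   (0, 651, []),
   (0, 97, []),
   (0, 12, []),
   (0, 2963, []),
   (0, 2963, []),
   (0, 904, []),
   (0, 307, []),
   (0, 62, []),
   (0, 7087, []),
   (0, 5520, []),
   (0, 3431, []),
   (0, 307, []),
   (0, 5520, []),
   (0, 894, []),
   (0, 2963, []),
   (0, 3192, []),
   (0, 568, []),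
   (0, 583, []),
   (0, 2315, []),
   (0, 2963, []),
   (0, 2963, []),
   (0, 307, []),
   (0, 894, []),
   (0, 1963, []),
   (0, 1998, []),
   (1, 1, [1,4,6,0,1,4,7,0,1,2,3,5,0,1,2,8,5,0,1,4,6,3,0,1,2,5,0,1,4,9,7,3,2,1,0,5,8,11,3,2,1,4,6,0,1,4,2,3,1,2,8,5,0,1,4,6,4,7,3,1,2,5,0,1,4,9,7,3,2,1,0,5,8,3,1,2,0,1,4,6,7,3,1,2,0,1,4,9,7,3,2,1,0,8,5,11,8,10,11,10,11,10,8,11,5,8,0,1,2,3,7,9,4,1,0,2,1,3,7,6,4,1,0,2,1,3,2,8,5,0,1,4,6,4,1,2,0,1,4,2,3,7,1,2,3,0,1,2,5,0,1,4,6,3,1,2,5,0,1,4,9,7,3,2,1,0,5,11,8,10,11,10,11,10,8,11,5,0,1,2,3,7,9,4,1,0,5,2,1,3,6,4,1,0,5,2,1,0,3,2,1,7,3,2,4,1,0,2,1,4,6,4,1,0,5,8,2,1,4,7,3,2,1,5,0,8,5,11,8,10,11,10,11,10,8,11,5,8,0,5,1,2,3,7,4,1,8,5,0,1,2,3,7,9,4,1,0,5,2,1,3,6,4,1,0,5,8,2,1,0,5,3,2,1,7,3,2,4,1,0,5,8,2,1,0,4,1,2,11,10,8,5,0,1,2,3,7,9,4,1,0,5,2,1,3,7,6,4,1,0,5,8,2,1,0,3,2,1,7,9,4,1,0,5,6]),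
   (1, 1, [1,4,6,0,1,4,7,0,1,2,3,5,0,1,2,8,5,0,1,4,6,3,0,1,2,5,0,1,4,9,7,3,2,1,0,5,8,11,3,2,1,4,6,0,1,4,2,3,1,2,8,5,0,1,4,6,4,7,3,1,2,5,0,1,4,9,7,3,2,1,0,5,8,7,3,5,0,1,2,8,5,0,1,4,6,1,2,0,1,4,2,3,7,1,2,3,0,1,2,5,0,1,4,6,2,3,1,2,11,8,5,0,1,4,9,7,3,2,1,0,5,8,11,10,11,8,5,0,1,2,3,7,9,4,1,0,5,8,11,2,1,3,2,6,4,1,0,5,2,1,0,3,2,1,7,3,2,4,1,0,2,1,6,4,1,0,5,8,2,1,0,5,3,7,8,5,0,1,4,6,1,2,0,1,4,2,3,7,1,2,3,0,1,2,5,0,1,4,6,2,3,1,2,11,8,5,0,1,4,9,7,3,2,1,0,5,8,11,10,11,8,5,0,1,2,3,7,9,4,1,0,5,8,11,2,1,3,2,6,4,1,0,5,2,1,0,3,2,1,7,3,2,4,1,0,2,1,6,4,1,0,5,8,1,4,7,3,2,1,5,0,8,5,11,8,10,11,10,11,10,8,11,5,8,0,5,1,2,3,7,4,1,10,8,5,0,1,2,3,7,9,4,1,0,5,2,1,0,3,2,6,4,1,0,5,2,1,0,3,2,7,3,4,1,0,2,1,3,7,6,4,1,0,11,8,5,0,1,2,3,7,9,4,1,0,5,2,1,0,3,6,4,1,0,5,8,11,2,1,0,5,3,2,7,4,1,0,2,1,3,2,4,1,0,5]),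
   (1, 1, [1,4,6,0,1,4,7,0,1,2,3,5,0,1,2,8,5,0,1,4,6,3,0,1,2,5,0,1,4,9,7,3,2,1,0,5,8,11,3,2,1,4,6,0,1,4,2,3,1,2,8,5,0,1,4,6,4,7,3,1,2,5,0,1,4,9,7,3,2,4,6,1,2,5,0,1,4,3,7,2,3,0,1,2,8,5,0,1,4,6,3,1,2,5,0,1,4,9,7,3,2,1,0,5,11,8,10,11,10,11,10,8,11,5,0,1,2,3,7,9,4,1,0,5,2,1,3,6,4,1,0,5,8,2,1,0,3,2,7,3,4,1,0,5,2,1,6,4,1,0,5,8,1,2,8,5,0,1,4,6,3,2,1,4,3,7,2,3,0,1,2,5,0,1,4,6,7,3,1,2,11,8,5,0,1,4,9,7,3,2,1,0,5,8,11,10,11,8,5,0,1,2,3,7,9,4,1,0,5,8,11,2,1,3,7,6,4,1,0,5,2,1,0,3,2,7,3,4,1,2,3,6,4,1,0,5,8,2,1,0,1,4,3,2,1,0,8,5,11,8,10,11,10,11,10,8,11,5,8,0,1,2,3,4,1,0,10,8,5,0,1,2,3,7,9,4,1,0,5,2,1,0,6,4,1,0,5,2,1,0,3,2,1,4,1,0,6,4,1,11,10,8,11,5,0,1,2,3,7,9,4,1,0,2,1,3,7,6,4,1,0,5,8,11,2,1,0,3,2,1,7,4,6]),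
   (0, 3310, []),
   (1, 1, [1,4,6,0,1,4,7,0,1,2,3,5,0,1,2,8,5,0,1,4,6,3,0,1,2,5,0,1,4,9,7,3,2,1,0,5,8,11,3,2,1,4,6,0,1,4,2,3,1,2,8,5,0,1,4,6,4,7,3,1,2,5,0,1,4,9,7,3,2,1,0,5,8,2,3,1,2,5,0,1,4,6,3,7,2,3,1,2,0,1,4,9,7,3,2,1,0,8,5,11,8,10,11,10,11,10,8,11,5,8,0,1,2,3,7,9,4,1,0,2,1,3,2,7,3,6,4,1,0,5,2,1,3,2,8,5,0,1,4,6,2,0,1,4,3,7,2,3,0,1,2,5,0,1,4,6,4,7,2,3,1,2,5,0,1,4,9,7,3,2,1,0,5,11,8,10,11,10,11,10,8,11,5,0,1,2,3,7,9,4,1,0,5,2,1,3,2,7,4,6,4,1,0,5,2,1,0,3,2,7,3,4,1,0,2,6,4,1,0,5,8,6,4,1,0,8,5,11,8,10,11,10,11,10,8,11,5,8,0,1,4,6,8,5,0,1,2,3,7,9,4,1,0,5,2,1,3,2,6,4,1,0,5,8,2,1,0,3,2,7,3,4,1,0,5,8,2,3,6,4,1,2,11,10,8,5,0,1,2,3,7,9,4,1,0,5,2,1,3,2,6,4,1,0,5,8,2,1,0,5,3,2,4,1,0,5,8,2,3]),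
   (1, 0, [1,4,7,3,5,0,1,2,8,5,0,1,4,6,3,1,2,5,0,1,4,9,7,3,2,1,0,5,8,11,4,6,7,3,2,0,1,4,7,0,1,2,3,5,0,1,2,8,5,0,1,4,6,4,7,2,3,1,2,0,1,4,9,7,3,2,1,0,5,8,10,3,2,1,4,6,7,3,2,0,1,4,9,7,3,2,1,0,8,5,11,8,10,11,10,11,10,8,11,5,8,0,1,2,3,7,9,4,1,0,2,3,7,6,4,1,2,3,2,8,5,0,1,4,6,1,2,0,1,4,3,7,1,2,3,0,1,2,8,5,0,1,4,6,7,3,1,2,5,0,1,4,9,7,3,2,1,0,5,11,8,10,11,10,11,10,8,11,5,0,1,2,3,7,9,4,1,0,5,2,1,3,7,6,4,1,0,5,8,2,1,0,3,2,1,7,3,4,1,0,2,1,6,4,1,0,5,8,2,4,1,0,8,5,11,8,10,11,10,11,10,8,11,5,8,0,1,4,10,8,5,0,1,2,3,7,9,4,1,0,5,2,1,0,3,2,6,4,1,0,5,8,2,1,0,5,3,2,1,7,3,2,4,1,0,5,2,1,3,2,4,1,11,10,8,5,0,1,2,3,7,9,4,1,0,5,8,2,1,3,6,4,1,0,5,8,2,1,0,5,3,4,1,0,2,1,6,4,1,0]),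
   (1, 1, [1,4,6,0,1,4,7,0,1,2,3,5,0,1,2,8,5,0,1,4,6,3,0,1,2,5,0,1,4,9,7,3,2,1,0,5,8,11,3,2,1,4,6,0,1,4,2,3,1,2,8,5,0,1,4,6,4,7,3,1,2,5,0,1,4,9,7,3,2,4,6,7,3,2,1,4,2,3,7,1,2,3,0,1,2,5,0,1,4,6,3,0,1,2,5,0,1,4,9,7,3,2,1,0,5,11,8,10,11,10,11,10,8,11,5,0,1,2,3,7,9,4,1,0,5,2,1,0,3,6,4,1,0,5,2,1,0,3,2,1,7,3,2,4,1,2,3,7,2,5,0,1,4,3,7,2,3,0,1,2,8,5,0,1,4,6,7,3,0,1,2,5,0,1,4,9,7,3,2,1,0,5,11,8,10,11,10,11,10,8,11,5,0,1,2,3,7,9,4,1,0,5,2,1,0,3,7,6,4,1,0,5,8,2,1,0,3,2,7,3,4,1,0,5,2,6,4,1,0,5,8,4,1,0,8,5,11,8,10,11,10,11,10,8,11,5,8,0,1,4,8,5,0,1,2,3,7,4,1,0,5,2,3,6,4,1,0,5,8,2,1,0,5,3,2,4,1,0,5,2,1,3,6,11,8,5,0,1,2,3,7,9,4,1,0,5,2,1,0,3,2,7,6,4,1,0,5,8,2,1,0,3,2,1,7,3,9,4,1,2]),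
   (1, 1, [1,4,6,0,1,4,7,0,1,2,3,5,0,1,2,8,5,0,1,4,6,3,0,1,2,5,0,1,4,9,7,3,2,1,0,5,8,11,3,2,1,4,6,0,1,4,2,3,1,2,8,5,0,1,4,6,4,7,3,1,2,5,0,1,4,9,7,3,2,1,0,5,8,1,2,5,0,1,4,6,3,7,2,3,1,2,0,1,4,9,7,3,2,1,0,8,5,11,8,10,11,10,11,10,8,11,5,8,0,1,2,3,7,9,4,1,0,2,1,3,2,7,3,6,4,1,0,5,2,1,3,5,0,1,2,8,5,0,1,4,6,4,1,2,0,1,4,3,7,1,2,3,0,1,2,5,0,1,4,6,2,3,0,1,2,5,0,1,4,9,7,3,2,1,0,5,11,8,10,11,10,11,10,8,11,5,0,1,2,3,7,9,4,1,0,5,2,1,0,3,2,6,4,1,0,5,2,1,0,3,2,1,7,3,4,1,0,2,1,4,6,4,1,0,5,8,2,1,0,5,2,1,4,7,3,2,1,5,0,8,5,11,8,10,11,10,11,10,8,11,5,8,0,5,1,2,3,7,4,1,2,3,8,5,0,1,2,3,7,9,4,1,0,5,2,3,7,6,4,1,0,5,2,1,0,3,2,7,9,4,1,2,3,7,6,4,11,8,5,0,1,2,3,7,9,4,1,0,5,2,1,3,7,4,6,4,1,0,5,8,11,10,2,1,0,5,3,2,1,7,3,4,1]),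
   (1, 0, [1,4,7,3,5,0,1,2,8,5,0,1,4,6,3,1,2,5,0,1,4,9,7,3,2,1,0,5,8,11,4,6,7,3,2,0,1,4,7,0,1,2,3,5,0,1,2,8,5,0,1,4,6,4,7,2,3,1,2,0,1,4,9,7,3,2,1,0,5,8,10,2,8,5,0,1,4,6,2,0,1,4,3,7,2,3,0,1,2,8,5,0,1,4,6,7,3,0,1,2,5,0,1,4,9,7,3,2,1,0,5,11,8,10,11,10,11,10,8,11,5,0,1,2,3,7,9,4,1,0,5,2,1,0,3,7,6,4,1,0,5,8,2,1,0,3,2,7,3,4,1,0,2,6,4,1,0,5,8,2,3,0,1,2,8,5,0,1,4,6,3,2,0,1,4,2,3,7,1,2,3,0,1,2,5,0,1,4,6,2,3,1,2,11,8,5,0,1,4,9,7,3,2,1,0,5,8,11,10,11,8,5,0,1,2,3,7,9,4,1,0,5,8,11,2,1,3,2,6,4,1,0,5,2,1,0,3,2,1,7,3,2,4,1,0,2,3,6,4,1,0,5,8,2,1,0,3,2,0,1,4,6,3,2,1,4,7,3,2,1,5,0,8,5,11,8,10,11,10,11,10,8,11,5,8,0,5,1,2,3,7,4,1,2,3,6,4,1,0,2,10,8,5,0,1,2,3,7,4,1,0,2,3,6,4,1,0,5,8,2,1,0,5,3,7,9,4,1,0,2,6,4,11,8,5,0,1,2,3,7,9,4,1,0,2,1,3,7,4,6,4,1,0,5,2,1,0,3,2,1,4,1,0,2,1]),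
   (1, 0, [1,4,7,3,5,0,1,2,8,5,0,1,4,6,3,1,2,5,0,1,4,9,7,3,2,1,0,5,8,11,4,6,7,3,2,0,1,4,7,0,1,2,3,5,0,1,2,8,5,0,1,4,6,4,7,2,3,1,2,0,1,4,9,7,3,2,1,0,5,8,10,4,2,3,1,2,5,0,1,4,6,3,7,2,3,1,2,0,1,4,9,7,3,2,1,0,8,5,11,8,10,11,10,11,10,8,11,5,8,0,1,2,3,7,9,4,1,0,2,1,3,2,7,3,6,4,1,0,5,2,1,3,2,4,7,3,1,2,8,5,0,1,4,6,3,2,0,1,4,2,3,7,1,2,3,0,1,2,5,0,1,4,6,2,3,1,2,11,8,5,0,1,4,9,7,3,2,1,0,5,8,11,10,11,8,5,0,1,2,3,7,9,4,1,0,5,8,11,2,1,3,2,6,4,1,0,5,2,1,0,3,2,1,7,3,2,4,1,0,2,3,6,4,1,0,5,8,2,1,3,7,2,1,4,7,3,2,1,0,8,5,11,8,10,11,10,11,10,8,11,5,8,0,1,2,3,7,4,1,2,10,8,5,0,1,2,3,7,9,4,1,0,5,2,1,0,3,6,4,1,0,5,8,2,1,0,5,3,2,1,0,7,3,2,9,4,1,0,5,2,1,0,4,1,2,11,10,8,5,0,1,2,3,7,4,1,0,5,8,2,3,6,4,1,0,5,8,2,1,0,4,1,2,3,7]),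
   (1, 1, [1,4,6,0,1,4,7,0,1,2,3,5,0,1,2,8,5,0,1,4,6,3,0,1,2,5,0,1,4,9,7,3,2,1,0,5,8,11,3,2,1,4,6,0,1,4,2,3,1,2,8,5,0,1,4,6,4,7,3,1,2,5,0,1,4,9,7,3,2,1,0,5,8,3,2,0,1,4,6,4,1,2,0,1,4,3,2,1,0,8,5,11,8,10,11,10,11,10,8,11,5,8,0,1,2,3,4,1,0,2,1,4,6,4,1,0,2,3,8,5,0,1,4,6,1,2,0,1,4,3,7,2,3,0,1,2,5,0,1,4,6,3,1,2,5,0,1,4,9,7,3,2,1,0,5,11,8,10,11,10,11,10,8,11,5,0,1,2,3,7,9,4,1,0,5,2,1,3,6,4,1,0,5,2,1,0,3,2,7,3,4,1,0,2,1,6,4,1,0,5,8,6,3,2,1,4,9,7,3,2,1,5,0,8,5,11,8,10,11,10,11,10,8,11,5,8,0,5,1,2,3,7,9,4,1,2,3,6,10,8,5,0,1,2,3,7,9,4,1,0,5,2,3,6,4,1,0,5,8,2,1,0,5,3,7,4,1,0,2,3,6,4,1,0,5,2,1,4,11,8,5,0,1,2,3,7,9,4,1,0,5,2,1,0,3,6,4,1,0,5,8,2,1,0,3,2,7,9,4,1,2,3,7]),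
   (1, 0, [1,4,7,3,5,0,1,2,8,5,0,1,4,6,3,1,2,5,0,1,4,9,7,3,2,1,0,5,8,11,4,6,7,3,2,0,1,4,7,0,1,2,3,5,0,1,2,8,5,0,1,4,6,4,7,2,3,1,2,0,1,4,9,7,3,2,1,0,5,8,10,1,4,7,2,3,1,2,0,1,4,9,7,3,2,1,0,8,5,11,8,10,11,10,11,10,8,11,5,8,0,1,2,3,7,9,4,1,0,2,1,3,2,7,4,2,8,5,0,1,4,6,4,3,1,2,0,1,4,3,7,1,2,3,0,1,2,5,0,1,4,6,3,1,2,5,0,1,4,9,7,3,2,1,0,5,11,8,10,11,10,11,10,8,11,5,0,1,2,3,7,9,4,1,0,5,2,1,3,6,4,1,0,5,2,1,0,3,2,1,7,3,4,1,0,2,1,3,4,6,4,1,0,5,8,2,1,0,1,5,0,8,5,11,8,10,11,10,11,10,8,11,5,8,0,5,1,0,8,5,0,1,2,3,7,9,4,1,0,5,2,1,0,3,6,4,1,0,5,8,2,1,0,3,2,4,1,0,5,8,2,6,11,8,5,0,1,2,3,7,9,4,1,0,5,8,2,1,3,7,6,4,1,0,5,8,11,2,1,0,3,2,7,3,4,1,0,5,2]),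
   (1, 0, [1,4,7,3,5,0,1,2,8,5,0,1,4,6,3,1,2,5,0,1,4,9,7,3,2,1,0,5,8,11,4,6,7,3,2,0,1,4,7,0,1,2,3,5,0,1,2,8,5,0,1,4,6,4,7,2,3,1,2,0,1,4,9,7,3,2,1,0,5,8,10,0,1,4,6,3,2,1,4,9,7,3,2,1,5,0,8,5,11,8,10,11,10,11,10,8,11,5,8,0,5,1,2,3,7,9,4,1,2,3,6,4,1,0,8,5,0,1,4,6,1,2,0,1,4,3,7,1,2,3,0,1,2,8,5,0,1,4,6,7,3,0,1,2,5,0,1,4,9,7,3,2,1,0,5,11,8,10,11,10,11,10,8,11,5,0,1,2,3,7,9,4,1,0,5,2,1,0,3,7,6,4,1,0,5,8,2,1,0,3,2,1,7,3,4,1,0,2,1,6,4,1,0,5,8,1,4,2,1,0,8,5,11,8,10,11,10,11,10,8,11,5,8,0,1,2,4,1,10,8,5,0,1,2,3,7,9,4,1,0,5,2,1,3,7,6,4,1,0,5,2,1,0,3,2,1,7,3,2,4,1,0,2,1,4,6,4,1,0,2,1,11,10,8,5,0,1,2,3,7,9,4,1,0,5,2,1,0,6,4,1,0,5,2,1,0,3,2,1,7,3,2,4,1,0,5,8,11,6,4,1,0,5]),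
   (1, 0, [1,4,7,3,5,0,1,2,8,5,0,1,4,6,3,1,2,5,0,1,4,9,7,3,2,1,0,5,8,11,4,6,7,3,2,0,1,4,7,0,1,2,3,5,0,1,2,8,5,0,1,4,6,4,7,2,3,1,2,0,1,4,9,7,3,2,1,0,5,8,10,2,3,1,2,0,1,5,0,8,5,11,8,10,11,10,11,10,8,11,5,8,0,5,1,0,2,1,3,2,7,3,1,2,0,1,4,6,3,1,2,0,1,4,9,7,3,2,1,0,8,5,11,8,10,11,10,11,10,8,11,5,8,0,1,2,3,7,9,4,1,0,2,1,3,6,4,1,0,2,1,3,7,4,2,1,5,0,8,5,11,8,10,11,10,11,10,8,11,5,8,0,5,1,2,4,10,8,5,0,1,2,3,7,9,4,1,0,5,2,3,7,6,4,1,0,5,8,2,1,0,5,3,2,7,3,4,1,0,5,2,1,0,6,4,1,0,2,1,11,10,8,11,5,0,1,2,3,7,9,4,1,0,5,2,1,3,7,6,4,1,0,5,2,1,0,3,2,7,3,4,1,0,2,1,3,4,6]),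
   (1, 0, [1,4,7,3,5,0,1,2,8,5,0,1,4,6,3,1,2,5,0,1,4,9,7,3,2,1,0,5,8,11,4,6,7,3,2,0,1,4,7,0,1,2,3,5,0,1,2,8,5,0,1,4,6,4,7,2,3,1,2,0,1,4,9,7,3,2,1,0,5,8,10,5,0,1,4,6,2,1,4,9,7,3,2,1,0,8,5,11,8,10,11,10,11,10,8,11,5,8,0,1,2,3,7,9,4,1,2,6,4,2,8,5,0,1,4,6,3,1,2,0,1,4,3,7,2,3,0,1,2,8,5,0,1,4,6,2,3,1,2,5,0,1,4,9,7,3,2,1,0,5,11,8,10,11,10,11,10,8,11,5,0,1,2,3,7,9,4,1,0,5,2,1,3,2,6,4,1,0,5,8,2,1,0,3,2,7,3,4,1,0,2,1,3,6,4,1,0,5,8,2,1,0,5,3,2,1,0,8,5,11,8,10,11,10,11,10,8,11,5,8,0,1,2,3,8,5,0,1,2,3,7,9,4,1,0,5,2,1,3,4,6,4,1,0,5,8,2,1,0,5,3,2,1,0,4,1,0,6,4,1,11,10,8,11,5,0,1,2,3,7,9,4,1,0,5,2,1,0,6,4,1,0,5,2,1,3,2,7,4,1,0,6,4]),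
   (0, 821, []),
   (0, 1127, []),
   (0, 1127, []),
   (0, 707, []),
   (0, 1202, []),
   (0, 1465, []),
   (0, 2721, []),
   (0, 104, []),
   (0, 5891, []),
   (0, 1159, []),
   (0, 1578, []),
   (0, 397, []),
   (0, 1748, []),
   (0, 473, []),
   (0, 1202, []),
   (0, 725, []),
   (0, 397, []),
   (0, 157, []),
   (0, 15, []),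
   (0, 323, []),
   (0, 163, []),
   (0, 725, []),
   (0, 11, []),
   (0, 163, []),
   (0, 11, []),
   (0, 249, []),
   (0, 11, []),
   (0, 163, []),
   (0, 300, []),
   (0, 182, []),
   (0, 323, []),
   (0, 163, []),
   (0, 182, []),
   (0, 323, []),
   (0, 163, []),
   (0, 300, []),
   (0, 300, []),
   (1, 0, [1,4,7,3,5,0,1,2,8,5,0,1,4,6,3,1,2,5,0,1,4,9,7,3,2,1,0,5,8,11,4,6,7,3,2,0,1,4,7,0,1,2,3,5,0,1,2,8,5,0,1,4,6,4,7,2,3,1,2,0,1,4,9,7,3,2,1,0,5,8,10,4,3,1,2,0,1,4,6,7,3,2,0,1,4,9,7,3,2,1,0,8,5,11,8,10,11,10,11,10,8,11,5,8,0,1,2,3,7,9,4,1,0,2,3,7,6,4,1,0,2,1,3,4,3,2,8,5,0,1,4,6,4,1,2,0,1,4,3,7,1,2,3,0,1,2,5,0,1,4,6,2,3,0,1,2,5,0,1,4,9,7,3,2,1,0,5,11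,8,10,11,10,11,10,8,11,5,0,1,2,3,7,9,4,1,0,5,2,1,0,3,2,6,4,1,0,5,2,1,0,3,2,1,7,3,4,1,0,2,1,4,6,4,1,0,5,8,2,3,4,6,0,1,4,7,3,2,1,0,8,5,11,8,10,11,10,11,10,8,11,5,8,0,1,2,3,7,4,1,0,6,4,8,5,0,1,2,3,7,9,4,1,0,5,2,1,3,6,4,1,0,5,8,2,1,0,5,3,2,1,0,7,4,1,0,2,1,3,2,4,6,11,10,8,5,0,1,2,3,7,4,1,0,5,2,1,3,6,4,1,0,5,8,2,1,0,5,3,2,7,9,4,1,0,6,4,1,2]),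
   (1, 1, [1,4,6,0,1,4,7,0,1,2,3,5,0,1,2,8,5,0,1,4,6,3,0,1,2,5,0,1,4,9,7,3,2,1,0,5,8,11,3,2,1,4,6,0,1,4,2,3,1,2,8,5,0,1,4,6,4,7,3,1,2,5,0,1,4,9,7,3,2,4,6,2,1,4,3,7,2,3,0,1,2,5,0,1,4,6,7,3,1,2,11,8,5,0,1,4,9,7,3,2,1,0,5,8,11,10,11,8,5,0,1,2,3,7,9,4,1,0,5,8,11,2,1,3,7,6,4,1,0,5,2,1,0,3,2,7,3,4,1,2,6,4,1,0,5,8,2,1,4,6,7,3,2,1,4,9,7,3,2,1,0,8,5,11,8,10,11,10,11,10,8,11,5,8,0,1,2,3,7,9,4,1,2,3,7,6,4,1,2,0,1,4,6,1,2,0,1,4,7,3,2,1,0,8,5,11,8,10,11,10,11,10,8,11,5,8,0,1,2,3,7,4,1,0,2,1,6,4,1,0,10,8,5,0,1,2,3,7,9,4,1,0,5,8,2,1,3,2,7,6,4,1,0,5,8,2,1,0,5,3,4,1,0,2,1,4,6,11,8,5,0,1,2,3,7,9,4,1,0,5,2,1,0,3,6,4,1,0,5,2,1,0,3,2,1,7,3,4,1,2,3,7,6,4,1,0,5,2,1]),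
   (1, 1, [1,4,6,0,1,4,7,0,1,2,3,5,0,1,2,8,5,0,1,4,6,3,0,1,2,5,0,1,4,9,7,3,2,1,0,5,8,11,3,2,1,4,6,0,1,4,2,3,1,2,8,5,0,1,4,6,4,7,3,1,2,5,0,1,4,9,7,3,2,1,0,5,8,3,2,8,5,0,1,4,6,3,1,2,0,1,4,3,7,2,3,0,1,2,5,0,1,4,6,4,7,3,1,2,5,0,1,4,9,7,3,2,1,0,5,11,8,10,11,10,11,10,8,11,5,0,1,2,3,7,9,4,1,0,5,2,1,3,7,4,6,4,1,0,5,2,1,0,3,2,7,3,4,1,0,2,1,3,6,4,1,0,5,8,2,3,4,1,2,8,5,0,1,4,6,3,2,1,4,2,3,7,1,2,3,0,1,2,8,5,0,1,4,6,7,3,0,1,2,5,0,1,4,9,7,3,2,1,0,5,11,8,10,11,10,11,10,8,11,5,0,1,2,3,7,9,4,1,0,5,2,1,0,3,7,6,4,1,0,5,8,2,1,0,3,2,1,7,3,2,4,1,2,3,6,4,1,0,5,8,2,1,4,5,0,1,4,2,3,1,2,0,1,4,7,3,2,1,0,8,5,11,8,10,11,10,11,10,8,11,5,8,0,1,2,3,7,4,1,0,2,1,3,2,4,1,0,5,10,8,5,0,1,2,3,7,9,4,1,0,5,2,3,6,4,1,0,5,8,2,1,0,5,3,7,9,4,1,0,2,3,6,4,1,0,2,1,4,6,11,8,5,0,1,2,3,7,9,4,1,0,5,2,1,3,2,6,4,1,0,5,8,2,1,0,3,2,7,3,4,1,2,3,7,9,6,4,1,0]),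
   (1, 1, [1,4,6,0,1,4,7,0,1,2,3,5,0,1,2,8,5,0,1,4,6,3,0,1,2,5,0,1,4,9,7,3,2,1,0,5,8,11,3,2,1,4,6,0,1,4,2,3,1,2,8,5,0,1,4,6,4,7,3,1,2,5,0,1,4,9,7,3,2,4,6,2,1,4,3,7,2,3,0,1,2,5,0,1,4,6,4,2,3,1,2,5,0,1,4,9,7,3,2,1,0,5,11,8,10,11,10,11,10,8,11,5,0,1,2,3,7,9,4,1,0,5,2,1,3,2,4,6,4,1,0,5,2,1,0,3,2,7,3,4,1,2,6,4,1,0,5,8,2,8,5,0,1,4,6,2,0,1,4,3,7,2,3,0,1,2,5,0,1,4,6,7,3,1,2,5,0,1,4,9,7,3,2,1,0,5,11,8,10,11,10,11,10,8,11,5,0,1,2,3,7,9,4,1,0,5,2,1,3,7,6,4,1,0,5,2,1,0,3,2,7,3,4,1,0,2,6,4,1,0,5,8,2,6,3,2,0,1,4,7,3,2,1,0,8,5,11,8,10,11,10,11,10,8,11,5,8,0,1,2,3,7,4,1,0,2,3,6,8,5,0,1,2,3,7,9,4,1,0,5,2,1,6,4,1,0,5,8,2,1,0,5,3,2,1,0,7,4,1,2,3,7,6,4,1,0,11,10,8,5,0,1,2,3,7,9,4,1,0,5,8,2,1,3,2,6,4,1,0,5,8,11,2,1,0,5,3,2,1,7,4,1,0,5,8,6,4,1,0,2]),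
   (1, 0, [1,4,7,3,5,0,1,2,8,5,0,1,4,6,3,1,2,5,0,1,4,9,7,3,2,1,0,5,8,11,4,6,7,3,2,0,1,4,7,0,1,2,3,5,0,1,2,8,5,0,1,4,6,4,7,2,3,1,2,0,1,4,9,7,3,2,1,0,5,8,10,2,0,1,4,7,3,2,1,0,8,5,11,8,10,11,10,11,10,8,11,5,8,0,1,2,3,7,4,1,0,2,0,1,2,8,5,0,1,4,6,3,1,2,0,1,4,3,7,2,3,0,1,2,5,0,1,4,6,3,0,1,2,5,0,1,4,9,7,3,2,1,0,5,11,8,10,11,10,11,10,8,11,5,0,1,2,3,7,9,4,1,0,5,2,1,0,3,6,4,1,0,5,2,1,0,3,2,7,3,4,1,0,2,1,3,6,4,1,0,5,8,2,1,0,2,1,0,8,5,11,8,10,11,10,11,10,8,11,5,8,0,1,2,10,8,5,0,1,2,3,7,9,4,1,0,5,2,1,3,6,4,1,0,5,8,2,1,0,5,3,2,7,4,1,0,5,8,2,3,7,6,4,11,10,8,5,0,1,2,3,7,4,1,0,5,2,1,0,3,6,4,1,0,5,8,2,1,0,5,4,1,2,3]),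
   (1, 0, [1,4,7,3,5,0,1,2,8,5,0,1,4,6,3,1,2,5,0,1,4,9,7,3,2,1,0,5,8,11,4,6,7,3,2,0,1,4,7,0,1,2,3,5,0,1,2,8,5,0,1,4,6,4,7,2,3,1,2,0,1,4,9,7,3,2,1,0,5,8,10,3,1,2,0,1,4,6,4,7,2,3,1,2,0,1,4,9,7,3,2,1,0,8,5,11,8,10,11,10,11,10,8,11,5,8,0,1,2,3,7,9,4,1,0,2,1,3,2,7,4,6,4,1,0,2,1,3,7,3,2,8,5,0,1,4,6,2,0,1,4,2,3,7,1,2,3,0,1,2,5,0,1,4,6,2,3,1,2,11,8,5,0,1,4,9,7,3,2,1,0,5,8,11,10,11,8,5,0,1,2,3,7,9,4,1,0,5,8,11,2,1,3,2,6,4,1,0,5,2,1,0,3,2,1,7,3,2,4,1,0,2,6,4,1,0,5,8,2,3,7,2,0,1,4,6,3,2,0,1,4,9,7,3,2,1,0,8,5,11,8,10,11,10,11,10,8,11,5,8,0,1,2,3,7,9,4,1,0,2,3,6,4,1,0,2,10,8,5,0,1,2,3,7,4,1,0,2,3,6,4,1,0,5,8,2,1,0,5,3,4,1,2,3,7,6,4,11,10,8,11,5,0,1,2,3,7,9,4,1,0,5,2,1,0,3,2,6,4,1,0,5,2,1,0,3,2,1,7,3,4,1,2,3,6,4,1]),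
   (1, 0, [1,4,7,3,5,0,1,2,8,5,0,1,4,6,3,1,2,5,0,1,4,9,7,3,2,1,0,5,8,11,4,6,7,3,2,0,1,4,7,0,1,2,3,5,0,1,2,8,5,0,1,4,6,4,7,2,3,1,2,0,1,4,9,7,3,2,1,0,5,8,10,2,8,5,0,1,4,6,1,2,0,1,4,3,7,1,2,3,0,1,2,8,5,0,1,4,6,2,3,0,1,2,5,0,1,4,9,7,3,2,1,0,5,11,8,10,11,10,11,10,8,11,5,0,1,2,3,7,9,4,1,0,5,2,1,0,3,2,6,4,1,0,5,8,2,1,0,3,2,1,7,3,4,1,0,2,1,6,4,1,0,5,8,2,8,5,0,1,4,6,4,7,3,1,2,0,1,4,3,7,2,3,0,1,2,5,0,1,4,6,3,1,2,5,0,1,4,9,7,3,2,1,0,5,11,8,10,11,10,11,10,8,11,5,0,1,2,3,7,9,4,1,0,5,2,1,3,6,4,1,0,5,2,1,0,3,2,7,3,4,1,0,2,1,3,7,4,6,4,1,0,5,8,6,2,3,1,2,0,1,4,9,7,3,2,1,0,8,5,11,8,10,11,10,11,10,8,11,5,8,0,1,2,3,7,9,4,1,0,2,1,3,2,6,10,8,5,0,1,2,3,7,9,4,1,0,5,2,1,3,7,6,4,1,0,5,8,2,1,3,2,7,3,4,1,0,2,11,8,5,0,1,2,3,7,9,4,1,0,5,2,1,3,2,6,4,1,0,5,8,2,1,0,3,2,1,7,3,4,1,0,5,8,11,2,1,6,4,1]),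
   (1, 1, [1,4,6,0,1,4,7,0,1,2,3,5,0,1,2,8,5,0,1,4,6,3,0,1,2,5,0,1,4,9,7,3,2,1,0,5,8,11,3,2,1,4,6,0,1,4,2,3,1,2,8,5,0,1,4,6,4,7,3,1,2,5,0,1,4,9,7,3,2,1,0,5,8,1,2,5,0,1,4,6,3,2,1,4,9,7,3,2,1,0,8,5,11,8,10,11,10,11,10,8,11,5,8,0,1,2,3,7,9,4,1,2,3,6,4,1,0,5,2,1,2,8,5,0,1,4,6,0,1,2,5,0,1,4,3,7,2,3,0,1,2,8,5,0,1,4,6,3,1,2,5,0,1,4,9,7,3,2,1,0,5,11,8,10,11,10,11,10,8,11,5,0,1,2,3,7,9,4,1,0,5,2,1,3,6,4,1,0,5,8,2,1,0,3,2,7,3,4,1,0,5,2,1,0,6,4,1,0,5,8,1,4,7,3,2,1,5,0,8,5,11,8,10,11,10,11,10,8,11,5,8,0,5,1,2,3,7,4,1,2,8,5,0,1,2,3,7,9,4,1,0,5,2,1,3,6,4,1,0,5,8,2,1,0,5,3,2,1,7,3,2,4,1,0,5,2,1,0,3,2,7,3,4,11,8,5,0,1,2,3,7,9,4,1,0,5,2,1,3,7,4,6,4,1,0,5,8,2,1,0,3,2,1,7,3,4,1,0,5,8,2,1,6,4,1,2,3]),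
   (1, 0, [1,4,7,3,5,0,1,2,8,5,0,1,4,6,3,1,2,5,0,1,4,9,7,3,2,1,0,5,8,11,4,6,7,3,2,0,1,4,7,0,1,2,3,5,0,1,2,8,5,0,1,4,6,4,7,2,3,1,2,0,1,4,9,7,3,2,1,0,5,8,10,1,2,8,5,0,1,4,6,2,5,0,1,4,2,3,7,1,2,3,0,1,2,5,0,1,4,6,7,3,0,1,2,5,0,1,4,9,7,3,2,1,0,5,11,8,10,11,10,11,10,8,11,5,0,1,2,3,7,9,4,1,0,5,2,1,0,3,7,6,4,1,0,5,2,1,0,3,2,1,7,3,2,4,1,0,5,2,6,4,1,0,5,8,2,1,8,5,0,1,4,6,3,2,1,4,2,3,7,1,2,3,0,1,2,5,0,1,4,6,7,2,3,0,1,2,5,0,1,4,9,7,3,2,1,0,5,11,8,10,11,10,11,10,8,11,5,0,1,2,3,7,9,4,1,0,5,2,1,0,3,2,7,6,4,1,0,5,2,1,0,3,2,1,7,3,2,4,1,2,3,6,4,1,0,5,8,3,1,2,0,1,4,9,7,3,2,1,0,8,5,11,8,10,11,10,11,10,8,11,5,8,0,1,2,3,7,9,4,1,0,2,1,3,10,8,5,0,1,2,3,7,9,4,1,0,5,2,1,3,7,4,6,4,1,0,5,2,1,0,3,2,7,3,4,1,0,5,6,11,8,5,0,1,2,3,7,9,4,1,0,5,2,1,3,2,7,6,4,1,0,5,2,1,0,3,7,4,1,2,3,6]),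
   (1, 1, [1,4,6,0,1,4,7,0,1,2,3,5,0,1,2,8,5,0,1,4,6,3,0,1,2,5,0,1,4,9,7,3,2,1,0,5,8,11,3,2,1,4,6,0,1,4,2,3,1,2,8,5,0,1,4,6,4,7,3,1,2,5,0,1,4,9,7,3,2,4,6,1,2,5,0,1,4,3,7,2,3,0,1,2,5,0,1,4,6,3,0,1,2,5,0,1,4,9,7,3,2,1,0,5,11,8,10,11,10,11,10,8,11,5,0,1,2,3,7,9,4,1,0,5,2,1,0,3,6,4,1,0,5,2,1,0,3,2,7,3,4,1,0,5,2,1,2,0,1,4,3,7,2,3,5,0,1,2,8,5,0,1,4,6,7,3,1,2,11,8,5,0,1,4,9,7,3,2,1,0,5,8,11,10,11,8,5,0,1,2,3,7,9,4,1,0,5,8,11,2,1,3,7,6,4,1,0,5,8,2,1,0,5,3,2,7,3,4,1,0,2,6,4,1,0,5,8,9,7,3,2,1,0,8,5,11,8,10,11,10,11,10,8,11,5,8,0,1,2,3,7,9,10,8,5,0,1,2,3,7,9,4,1,0,5,2,1,0,3,7,6,4,1,0,5,2,1,0,3,2,7,3,9,4,1,0,2,6,4,1,0,5,2,11,10,8,5,0,1,2,3,7,9,4,1,0,5,2,1,0,3,6,4,1,0,5,8,11,2,1,0,5,3,2,4,1,0,2,1,6,4,1])]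

def wit6 : List (ℕ × ℕ × List ℕ) :=
  [(1, 1, [1,4,6,0,1,4,7,0,1,2,3,5,0,1,2,8,5,0,1,4,6,3,0,1,2,5,0,1,4,9,7,3,2,1,0,5,8,11,3,2,1,4,6,0,1,4,2,3,1,2,8,5,0,1,4,6,4,7,3,1,2,5,0,1,4,9,7,3,2,1,0,5,8,1,2,8,5,0,1,4,6,3,2,1,4,3,7,2,3,0,1,2,5,0,1,4,6,3,0,1,2,5,0,1,4,9,7,3,2,1,0,5,11,8,10,11,10,11,10,8,11,5,0,1,2,3,7,9,4,1,0,5,2,1,0,3,6,4,1,0,5,2,1,0,3,2,7,3,4,1,2,3,6,4,1,0,5,8,2,1,8,5,0,1,4,6,2,5,0,1,4,3,7,2,3,0,1,2,5,0,1,4,6,3,1,2,5,0,1,4,9,7,3,2,1,0,5,11,8,10,11,10,11,10,8,11,5,0,1,2,3,7,9,4,1,0,5,2,1,3,6,4,1,0,5,2,1,0,3,2,7,3,4,1,0,5,2,6,4,1,0,5,8,3,2,1,0,8,5,11,8,10,11,10,11,10,8,11,5,8,0,1,2,3,10,8,5,0,1,2,3,7,9,4,1,0,5,2,3,6,4,1,0,5,8,2,1,0,3,2,7,4,1,2,3,6,4,1,0,5,2,1,0,4,1,11,8,5,0,1,2,3,7,9,4,1,0,5,8,2,1,3,2,7,6,4,1,0,5,2,1,0,3,4,1,2,3,6,4,1]),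
   (1, 1, [1,4,6,0,1,4,7,0,1,2,3,5,0,1,2,8,5,0,1,4,6,3,0,1,2,5,0,1,4,9,7,3,2,1,0,5,8,11,3,2,1,4,6,0,1,4,2,3,1,2,8,5,0,1,4,6,4,7,3,1,2,5,0,1,4,9,7,3,2,4,6,2,1,4,3,7,2,3,0,1,2,8,5,0,1,4,6,7,2,3,1,2,5,0,1,4,9,7,3,2,1,0,5,11,8,10,11,10,11,10,8,11,5,0,1,2,3,7,9,4,1,0,5,2,1,3,2,7,6,4,1,0,5,8,2,1,0,3,2,7,3,4,1,2,6,4,1,0,5,8,9,7,3,2,1,4,6,7,2,3,1,2,0,1,4,9,7,3,2,1,0,8,5,11,8,10,11,10,11,10,8,11,5,8,0,1,2,3,7,9,4,1,0,2,1,3,2,7,6,4,1,2,3,7,9,6,0,1,4,9,7,3,2,1,0,8,5,11,8,10,11,10,11,10,8,11,5,8,0,1,2,3,7,9,4,1,0,6,10,8,5,0,1,2,3,7,9,4,1,0,5,2,1,0,3,7,6,4,1,0,5,8,2,1,0,5,3,2,1,7,3,2,4,1,0,5,8,2,1,11,8,5,0,1,2,3,7,9,4,1,0,5,2,1,0,3,7,6,4,1,0,5,8,2,1,0,5,3,2,7,9,4,1,2,6,4]),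
   (1, 1, [1,4,6,0,1,4,7,0,1,2,3,5,0,1,2,8,5,0,1,4,6,3,0,1,2,5,0,1,4,9,7,3,2,1,0,5,8,11,3,2,1,4,6,0,1,4,2,3,1,2,8,5,0,1,4,6,4,7,3,1,2,5,0,1,4,9,7,3,2,1,0,5,8,6,4,9,7,3,2,1,5,0,8,5,11,8,10,11,10,11,10,8,11,5,8,0,5,1,2,3,7,9,4,6,2,8,5,0,1,4,6,1,2,0,1,4,3,7,2,3,5,0,1,2,8,5,0,1,4,6,3,0,1,2,5,0,1,4,9,7,3,2,1,0,5,11,8,10,11,10,11,10,8,11,5,0,1,2,3,7,9,4,1,0,5,2,1,0,3,6,4,1,0,5,8,2,1,0,5,3,2,7,3,4,1,0,2,1,6,4,1,0,5,8,2,8,5,0,1,2,3,7,9,4,1,0,5,2,1,3,7,6,4,1,0,5,8,2,1,0,5,3,2,1,7,3,4,1,0,5,8,2,6,11,8,5,0,1,2,3,7,9,4,1,0,5,2,1,0,3,2,7,6,4,1,0,5,8,2,1,0,5,3,2,1,0,7,3,9,4,1]),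
   (1, 1, [1,4,6,0,1,4,7,0,1,2,3,5,0,1,2,8,5,0,1,4,6,3,0,1,2,5,0,1,4,9,7,3,2,1,0,5,8,11,3,2,1,4,6,0,1,4,2,3,1,2,8,5,0,1,4,6,4,7,3,1,2,5,0,1,4,9,7,3,2,1,0,5,8,7,3,2,0,1,4,6,2,0,1,4,3,2,1,0,8,5,11,8,10,11,10,11,10,8,11,5,8,0,1,2,3,4,1,0,2,6,4,1,0,2,3,7,2,8,5,0,1,4,6,4,1,2,0,1,4,3,7,1,2,3,0,1,2,8,5,0,1,4,6,7,3,0,1,2,5,0,1,4,9,7,3,2,1,0,5,11,8,10,11,10,11,10,8,11,5,0,1,2,3,7,9,4,1,0,5,2,1,0,3,7,6,4,1,0,5,8,2,1,0,3,2,1,7,3,4,1,0,2,1,4,6,4,1,0,5,8,2,4,6,2,3,1,2,0,1,4,9,7,3,2,1,0,8,5,11,8,10,11,10,11,10,8,11,5,8,0,1,2,3,7,9,4,1,0,2,1,3,2,6,4,8,5,0,1,2,3,7,4,1,0,5,8,2,3,6,4,1,0,5,2,1,0,3,4,1,11,8,5,0,1,2,3,7,9,4,1,0,5,2,1,4,6,4,1,0,5,8,11,2,1,3,2,7,4]),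
   (0, 11, []),
   (0, 300, []),
   (0, 163, []),
   (0, 1778, []),
   (0, 163, []),
   (0, 11, []),
   (0, 125, []),
   (0, 163, []),
   (0, 163, []),
   (0, 323, []),
   (0, 11, []),
   (0, 15, []),
   (0, 163, []),
   (0, 300, []),
   (0, 300, []),
   (0, 3011, []),
   (1, 1, [1,4,6,0,1,4,7,0,1,2,3,5,0,1,2,8,5,0,1,4,6,3,0,1,2,5,0,1,4,9,7,3,2,1,0,5,8,11,3,2,1,4,6,0,1,4,2,3,1,2,8,5,0,1,4,6,4,7,3,1,2,5,0,1,4,9,7,3,2,1,0,5,8,2,8,5,0,1,4,6,3,2,1,4,3,7,2,3,0,1,2,5,0,1,4,6,7,3,0,1,2,5,0,1,4,9,7,3,2,1,0,5,11,8,10,11,10,11,10,8,11,5,0,1,2,3,7,9,4,1,0,5,2,1,0,3,7,6,4,1,0,5,2,1,0,3,2,7,3,4,1,2,3,2,0,1,4,3,7,1,2,3,0,1,2,5,0,1,4,6,7,3,1,2,11,8,5,0,1,4,9,7,3,2,1,0,5,8,11,10,11,8,5,0,1,2,3,7,9,4,1,0,5,8,11,2,1,3,7,6,4,1,0,5,2,1,0,3,2,1,7,3,4,1,0,2,6,4,1,0,5,8,2,1,4,0,1,5,0,8,5,11,8,10,11,10,11,10,8,11,5,8,0,5,1,0,4,1,10,8,5,0,1,2,3,7,9,4,1,0,5,2,1,3,2,4,6,4,1,0,5,8,2,1,0,3,2,7,3,9,4,1,11,8,5,0,1,2,3,7,9,4,1,0,5,2,1,0,3,7,6,4,1,0,5,8,2,1,0,5,3,7,9,4,1]),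
   (1, 0, [1,4,7,3,5,0,1,2,8,5,0,1,4,6,3,1,2,5,0,1,4,9,7,3,2,1,0,5,8,11,4,6,7,3,2,0,1,4,7,0,1,2,3,5,0,1,2,8,5,0,1,4,6,4,7,2,3,1,2,0,1,4,9,7,3,2,1,0,5,8,10,4,7,3,1,2,0,1,4,6,2,3,1,2,0,1,4,9,7,3,2,1,0,8,5,11,8,10,11,10,11,10,8,11,5,8,0,1,2,3,7,9,4,1,0,2,1,3,2,6,4,1,0,2,1,3,7,4,1,2,8,5,0,1,4,6,3,0,1,2,5,0,1,4,3,7,2,3,0,1,2,5,0,1,4,6,3,0,1,2,5,0,1,4,9,7,3,2,1,0,5,11,8,10,11,10,11,10,8,11,5,0,1,2,3,7,9,4,1,0,5,2,1,0,3,6,4,1,0,5,2,1,0,3,2,7,3,4,1,0,5,2,1,0,3,6,4,1,0,5,8,2,1,6,3,2,0,1,4,7,3,2,1,0,8,5,11,8,10,11,10,11,10,8,11,5,8,0,1,2,3,7,4,1,0,2,3,6,10,8,5,0,1,2,3,7,9,4,1,0,5,2,1,3,7,4,6,4,1,0,5,8,2,1,0,5,3,2,1,0,7,3,2,1,4,1,0,5,2,1,0,4,1,11,10,8,5,0,1,2,3,7,9,4,1,0,5,2,1,3,7,6,4,1,0,5,2,1,0,3,2,7,9,4,1,0,2,3,6,4,1]),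
   (0, 3011, []),
   (1, 1, [1,4,6,0,1,4,7,0,1,2,3,5,0,1,2,8,5,0,1,4,6,3,0,1,2,5,0,1,4,9,7,3,2,1,0,5,8,11,3,2,1,4,6,0,1,4,2,3,1,2,8,5,0,1,4,6,4,7,3,1,2,5,0,1,4,9,7,3,2,1,0,5,8,2,1,4,6,4,3,7,2,3,1,2,0,1,4,9,7,3,2,1,0,8,5,11,8,10,11,10,11,10,8,11,5,8,0,1,2,3,7,9,4,1,0,2,1,3,2,7,3,4,6,4,1,2,8,5,0,1,4,6,2,1,4,3,7,1,2,3,0,1,2,8,5,0,1,4,6,7,3,1,2,5,0,1,4,9,7,3,2,1,0,5,11,8,10,11,10,11,10,8,11,5,0,1,2,3,7,9,4,1,0,5,2,1,3,7,6,4,1,0,5,8,2,1,0,3,2,1,7,3,4,1,2,6,4,1,0,5,8,4,1,0,8,5,11,8,10,11,10,11,10,8,11,5,8,0,1,4,8,5,0,1,2,3,7,9,4,1,0,5,2,3,7,6,4,1,0,5,2,1,3,2,7,4,1,0,5,8,6,4,1,2,3,11,10,8,11,5,0,1,2,3,7,9,4,1,0,5,2,1,0,3,2,6,4,1,0,5,2,1,0,3,2,7,3,4,1,0,5,2,1,4,6,4,1,2]),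
   (1, 0, [1,4,7,3,5,0,1,2,8,5,0,1,4,6,3,1,2,5,0,1,4,9,7,3,2,1,0,5,8,11,4,6,7,3,2,0,1,4,7,0,1,2,3,5,0,1,2,8,5,0,1,4,6,4,7,2,3,1,2,0,1,4,9,7,3,2,1,0,5,8,10,3,2,1,4,6,1,4,7,2,3,1,2,0,1,4,9,7,3,2,1,0,8,5,11,8,10,11,10,11,10,8,11,5,8,0,1,2,3,7,9,4,1,0,2,1,3,2,7,4,1,6,4,1,2,3,8,5,0,1,4,6,1,2,0,1,4,2,3,7,1,2,3,0,1,2,5,0,1,4,6,7,3,0,1,2,5,0,1,4,9,7,3,2,1,0,5,11,8,10,11,10,11,10,8,11,5,0,1,2,3,7,9,4,1,0,5,2,1,0,3,7,6,4,1,0,5,2,1,0,3,2,1,7,3,2,4,1,0,2,1,6,4,1,0,5,8,3,2,1,0,8,5,11,8,10,11,10,11,10,8,11,5,8,0,1,2,3,8,5,0,1,2,3,7,9,4,1,0,5,2,1,0,3,2,6,4,1,0,5,8,2,1,0,5,3,2,1,7,3,2,4,1,0,5,2,1,4,11,8,5,0,1,2,3,7,9,4,1,0,5,8,2,1,3,6,4,1,0,5,8,2,1,0,5,3,2,1,0,4,1,0,2,1,3,6,4,1,2]),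
   (0, 20, []),
   (0, 300, []),
   (0, 163, []),
   (0, 11, []),
   (0, 163, []),
   (0, 1023, []),
   (0, 1023, []),
   (0, 323, []),
   (0, 2963, []),
   (0, 15, []),
   (0, 11, []),
   (0, 163, []),
   (0, 470, []),
   (0, 778, []),
   (0, 323, []),
   (0, 470, []),
   (0, 166, []),
   (0, 11, []),
   (0, 163, []),
   (0, 11, []),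
   (0, 397, []),
   (0, 397, []),
   (0, 384, []),
   (0, 163, []),
   (0, 11, []),
   (0, 1338, []),
   (0, 470, []),
   (0, 300, []),
   (0, 300, []),
   (1, 1, [1,4,6,0,1,4,7,0,1,2,3,5,0,1,2,8,5,0,1,4,6,3,0,1,2,5,0,1,4,9,7,3,2,1,0,5,8,11,3,2,1,4,6,0,1,4,2,3,1,2,8,5,0,1,4,6,4,7,3,1,2,5,0,1,4,9,7,3,2,1,0,5,8,4,0,1,2,5,0,1,4,3,7,2,3,1,2,0,1,4,9,7,3,2,1,0,8,5,11,8,10,11,10,11,10,8,11,5,8,0,1,2,3,7,9,4,1,0,2,1,3,2,7,3,4,1,0,5,2,1,0,4,6,1,4,3,7,2,3,1,2,0,1,4,9,7,3,2,1,0,8,5,11,8,10,11,10,11,10,8,11,5,8,0,1,2,3,7,9,4,1,0,2,1,3,2,7,3,4,1,6,4,6,0,1,4,2,1,0,8,5,11,8,10,11,10,11,10,8,11,5,8,0,1,2,4,1,0,6,4,10,8,5,0,1,2,3,7,9,4,1,0,5,2,1,0,3,2,6,4,1,0,5,8,2,1,0,5,3,2,1,7,4,1,0,5,2,6,4,1,11,10,8,11,5,0,1,2,3,7,9,4,1,0,5,2,1,0,3,7,6,4,1,0,5,8,2,1,0,3,2,7,3,4,1,0,2,1,3,4,6,4,1]),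
   (1, 1, [1,4,6,0,1,4,7,0,1,2,3,5,0,1,2,8,5,0,1,4,6,3,0,1,2,5,0,1,4,9,7,3,2,1,0,5,8,11,3,2,1,4,6,0,1,4,2,3,1,2,8,5,0,1,4,6,4,7,3,1,2,5,0,1,4,9,7,3,2,1,0,5,8,4,9,7,3,1,2,5,0,1,4,6,3,7,2,3,1,2,0,1,4,9,7,3,2,1,0,8,5,11,8,10,11,10,11,10,8,11,5,8,0,1,2,3,7,9,4,1,0,2,1,3,2,7,3,6,4,1,0,5,2,1,3,7,9,4,2,8,5,0,1,4,6,1,2,0,1,4,3,7,2,3,0,1,2,8,5,0,1,4,6,2,3,1,2,5,0,1,4,9,7,3,2,1,0,5,11,8,10,11,10,11,10,8,11,5,0,1,2,3,7,9,4,1,0,5,2,1,3,2,6,4,1,0,5,8,2,1,0,3,2,7,3,4,1,0,2,1,6,4,1,0,5,8,2,6,4,9,7,3,2,1,0,8,5,11,8,10,11,10,11,10,8,11,5,8,0,1,2,3,7,9,4,6,10,8,5,0,1,2,3,7,9,4,1,0,5,8,2,1,3,6,4,1,0,5,8,2,1,0,5,3,2,1,0,7,3,2,4,1,0,5,6,4,1,11,10,8,5,0,1,2,3,7,9,4,1,0,5,2,1,3,7,6,4,1,0,5,2,1,0,3,2,7,9,4,1,0,5,6]),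
   (1, 1, [1,4,6,0,1,4,7,0,1,2,3,5,0,1,2,8,5,0,1,4,6,3,0,1,2,5,0,1,4,9,7,3,2,1,0,5,8,11,3,2,1,4,6,0,1,4,2,3,1,2,8,5,0,1,4,6,4,7,3,1,2,5,0,1,4,9,7,3,2,1,0,5,8,2,1,4,6,1,4,2,3,1,2,0,1,4,9,7,3,2,1,0,8,5,11,8,10,11,10,11,10,8,11,5,8,0,1,2,3,7,9,4,1,0,2,1,3,2,4,1,0,1,4,7,3,2,1,0,8,5,11,8,10,11,10,11,10,8,11,5,8,0,1,2,3,7,4,1,0,6,4,1,2,3,2,0,1,5,0,8,5,11,8,10,11,10,11,10,8,11,5,8,0,5,1,0,2,3,8,5,0,1,2,3,7,9,4,1,0,5,2,3,7,6,4,1,0,5,2,1,3,2,7,4,1,6,4,11,8,5,0,1,2,3,7,9,4,1,0,5,2,1,3,2,6,4,1,0,5,8,2,1,0,5,3,2,1,7,3,4,1,0,5,6,4,1]),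
   (0, 219, []),
   (0, 655, []),
   (1, 0, [1,4,7,3,5,0,1,2,8,5,0,1,4,6,3,1,2,5,0,1,4,9,7,3,2,1,0,5,8,11,4,6,7,3,2,0,1,4,7,0,1,2,3,5,0,1,2,8,5,0,1,4,6,4,7,2,3,1,2,0,1,4,9,7,3,2,1,0,5,8,10,2,5,0,1,4,6,4,7,3,1,2,0,1,4,9,7,3,2,1,0,8,5,11,8,10,11,10,11,10,8,11,5,8,0,1,2,3,7,9,4,1,0,2,1,3,7,4,6,4,1,0,5,2,7,3,2,0,1,4,6,3,1,2,0,1,4,9,7,3,2,1,0,8,5,11,8,10,11,10,11,10,8,11,5,8,0,1,2,3,7,9,4,1,0,2,1,3,6,4,1,0,1,0,8,5,11,8,10,11,10,11,10,8,11,5,8,0,1,2,3,7,10,8,5,0,1,2,3,7,9,4,1,0,5,2,1,3,7,4,6,4,1,0,5,8,2,1,0,5,4,1,0,2,1,6,11,10,8,5,0,1,2,3,7,9,4,1,0,5,8,2,1,3,6,4,1,0,5,8,11,10,2,1,0,3,2,7,3,4,1,2,6,4,1]),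
   (1, 0, [1,4,7,3,5,0,1,2,8,5,0,1,4,6,3,1,2,5,0,1,4,9,7,3,2,1,0,5,8,11,4,6,7,3,2,0,1,4,7,0,1,2,3,5,0,1,2,8,5,0,1,4,6,4,7,2,3,1,2,0,1,4,9,7,3,2,1,0,5,8,10,1,4,3,7,2,3,1,2,0,1,4,9,7,3,2,1,0,8,5,11,8,10,11,10,11,10,8,11,5,8,0,1,2,3,7,9,4,1,0,2,1,3,2,7,3,4,1,8,5,0,1,4,6,9,7,3,2,1,4,3,7,2,3,0,1,2,5,0,1,4,6,7,2,3,0,1,2,5,0,1,4,9,7,3,2,1,0,5,11,8,10,11,10,11,10,8,11,5,0,1,2,3,7,9,4,1,0,5,2,1,0,3,2,7,6,4,1,0,5,2,1,0,3,2,7,3,4,1,2,3,7,9,6,4,1,0,5,8,2,1,4,7,3,2,1,0,8,5,11,8,10,11,10,11,10,8,11,5,8,0,1,2,3,7,4,1,2,8,5,0,1,2,3,7,9,4,1,0,2,1,3,2,6,4,1,0,5,8,2,1,0,5,3,7,9,4,1,0,2,3,7,9,11,8,5,0,1,2,3,7,9,4,1,0,5,2,1,0,3,6,4,1,0,5,2,1,0,3,2,1,7,3,2,4,1,0,2,1,3,6,4,1]),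
   (1, 1, [1,4,6,0,1,4,7,0,1,2,3,5,0,1,2,8,5,0,1,4,6,3,0,1,2,5,0,1,4,9,7,3,2,1,0,5,8,11,3,2,1,4,6,0,1,4,2,3,1,2,8,5,0,1,4,6,4,7,3,1,2,5,0,1,4,9,7,3,2,1,0,5,8,9,7,2,3,1,2,0,1,5,0,8,5,11,8,10,11,10,11,10,8,11,5,8,0,5,1,0,2,1,3,2,3,2,1,4,6,2,0,1,4,9,7,3,2,1,0,8,5,11,8,10,11,10,11,10,8,11,5,8,0,1,2,3,7,9,4,1,0,2,6,4,1,2,3,7,9,6,4,1,0,8,5,11,8,10,11,10,11,10,8,11,5,8,0,1,4,6,8,5,0,1,2,3,7,9,4,1,0,5,2,1,3,7,4,6,4,1,0,5,2,1,0,3,2,1,7,4,1,6,11,8,5,0,1,2,3,7,9,4,1,0,5,2,1,3,2,6,4,1,0,5,8,11,2,1,0,3,2,7,3,4,1,0,5,2,3,6]),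
   (0, 1199, []),
   (0, 1276, []),
   (0, 2963, []),
   (0, 199, []),
   (0, 3011, []),
   (0, 3192, []),
   (0, 2315, []),
   (0, 199, []),
   (0, 2963, []),
   (0, 2963, []),
   (0, 2963, []),
   (0, 199, []),
   (0, 668, []),
   (0, 199, []),
   (0, 64, []),
   (0, 2963, []),
   (0, 2315, []),
   (0, 199, []),
   (0, 199, []),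
   (0, 3011, []),
   (0, 307, []),
   (0, 1680, []),
   (0, 1041, []),
   (0, 199, []),
   (0, 72, []),
   (0, 686, []),
   (0, 327, []),
   (0, 3192, []),
   (0, 199, []),
   (0, 307, []),
   (0, 4371, []),
   (0, 3654, []),
   (0, 199, []),
   (0, 3654, []),
   (0, 307, []),
   (0, 199, []),
   (0, 25, []),
   (0, 3011, []),
   (0, 307, []),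
   (0, 2963, []),
   (0, 2963, []),
   (0, 2963, [])]

def wit7 : List (ℕ × ℕ × List ℕ) :=
  [(0, 2963, []),
   (0, 2315, []),
   (0, 2963, []),
   (0, 492, []),
   (0, 2315, []),
   (0, 3011, []),
   (0, 492, []),
   (0, 3011, []),
   (0, 3192, []),
   (0, 894, []),
   (0, 1639, []),
   (0, 307, []),
   (0, 2963, []),
   (0, 2963, []),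
   (0, 3192, []),
   (0, 3011, []),
   (0, 4, []),
   (0, 487, []),
   (0, 894, []),
   (0, 2963, []),
   (0, 307, []),
   (0, 3011, []),
   (0, 718, []),
   (0, 1962, []),
   (0, 2315, []),
   (0, 3192, []),
   (0, 2963, []),
   (0, 65, []),
   (0, 3192, []),
   (0, 2315, []),
   (0, 2963, []),
   (0, 62, []),
   (0, 307, []),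
   (0, 2963, []),
   (0, 2963, []),
   (0, 2244, []),
   (0, 2315, []),
   (0, 2963, []),
   (0, 2963, []),
   (0, 3192, []),
   (0, 894, []),
   (0, 307, []),
   (0, 3011, []),
   (0, 3011, []),
   (0, 3011, []),
   (0, 307, []),
   (0, 446, []),
   (0, 3431, []),
   (0, 4371, []),
   (0, 4238, []),
   (0, 3431, []),
   (0, 2963, []),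
   (0, 2315, []),
   (0, 2963, []),
   (0, 95, []),
   (0, 894, []),
   (0, 307, []),
   (0, 2963, []),
   (0, 867, []),
   (0, 3192, []),
   (0, 1542, []),
   (0, 2602, []),
   (0, 1268, []),
   (0, 1964, []),
   (1, 1, [1,4,6,0,1,4,7,0,1,2,3,5,0,1,2,8,5,0,1,4,6,3,0,1,2,5,0,1,4,9,7,3,2,1,0,5,8,11,3,2,1,4,6,0,1,4,2,3,1,2,8,5,0,1,4,6,4,7,3,1,2,5,0,1,4,9,7,3,2,4,6,2,1,4,7,9,3,7,2,3,0,1,2,5,0,1,4,6,2,3,1,2,5,0,1,4,9,7,3,2,1,0,5,11,8,10,11,10,11,10,8,11,5,0,1,2,3,7,9,4,1,0,5,2,1,3,2,6,4,1,0,5,2,1,0,3,2,7,3,9,7,4,1,2,6,4,1,0,5,8,3,2,8,5,0,1,4,6,3,2,0,1,4,7,9,3,7,1,2,3,0,1,2,5,0,1,4,6,7,3,0,1,2,5,0,1,4,9,7,3,2,1,0,5,11,8,10,11,10,11,10,8,11,5,0,1,2,3,7,9,4,1,0,5,2,1,0,3,7,6,4,1,0,5,2,1,0,3,2,1,7,3,9,7,4,1,0,2,3,6,4,1,0,5,8,2,3,6,4,2,1,5,0,8,5,11,8,10,11,10,11,10,8,11,5,8,0,5,1,2,4,6,8,5,0,1,2,3,7,9,4,1,0,2,1,6,4,1,0,5,8,2,1,0,5,3,2,1,0,7,3,2,1,4,1,0,2,3,7,6,4,1,0,5,11,8,5,0,1,2,3,7,9,4,1,0,5,2,1,0,3,7,6,4,1,0,5,2,1,0,3,2,7,9,4,1,0,5,8,11,10,6,4]),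
   (1, 1, [1,4,6,0,1,4,7,0,1,2,3,5,0,1,2,8,5,0,1,4,6,3,0,1,2,5,0,1,4,9,7,3,2,1,0,5,8,11,3,2,1,4,6,0,1,4,2,3,1,2,8,5,0,1,4,6,4,7,3,1,2,5,0,1,4,9,7,3,2,1,0,5,8,0,1,4,2,3,1,2,0,1,4,6,3,7,2,3,1,2,0,1,4,9,7,3,2,1,0,8,5,11,8,10,11,10,11,10,8,11,5,8,0,1,2,3,7,9,4,1,0,2,1,3,2,7,3,6,4,1,0,2,1,3,2,4,1,0,1,2,8,5,0,1,4,6,7,3,2,0,1,4,2,3,7,1,2,3,0,1,2,5,0,1,4,6,7,3,0,1,2,5,0,1,4,9,7,3,2,1,0,5,11,8,10,11,10,11,10,8,11,5,0,1,2,3,7,9,4,1,0,5,2,1,0,3,7,6,4,1,0,5,2,1,0,3,2,1,7,3,2,4,1,0,2,3,7,6,4,1,0,5,8,0,1,4,6,4,2,3,1,2,0,1,4,9,7,3,2,1,0,8,5,11,8,10,11,10,11,10,8,11,5,8,0,1,2,3,7,9,4,1,0,2,1,3,2,4,6,4,1,0,2,1,8,5,0,1,2,3,7,9,4,1,0,5,2,3,6,4,1,0,5,8,2,1,0,5,3,4,1,0,2,3,11,10,8,5,0,1,2,3,7,9,4,1,0,2,1,3,6,4,1,0,5,8,2,1,0,5,3,2,1,0,7,4,1,2,3,7,6,4,1,0,5,2,1,0]),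
   (1, 0, [1,4,7,3,5,0,1,2,8,5,0,1,4,6,3,1,2,5,0,1,4,9,7,3,2,1,0,5,8,11,4,6,7,3,2,0,1,4,7,0,1,2,3,5,0,1,2,8,5,0,1,4,6,4,7,2,3,1,2,0,1,4,9,7,3,2,1,0,5,8,10,4,3,1,2,0,1,4,6,7,2,3,1,2,0,1,4,9,7,3,2,1,0,8,5,11,8,10,11,10,11,10,8,11,5,8,0,1,2,3,7,9,4,1,0,2,1,3,2,7,6,4,1,0,2,1,3,4,2,1,4,6,3,2,1,4,7,3,2,1,0,8,5,11,8,10,11,10,11,10,8,11,5,8,0,1,2,3,7,4,1,2,3,6,4,1,2,1,2,0,1,5,0,8,5,11,8,10,11,10,11,10,8,11,5,8,0,5,1,0,2,1,8,5,0,1,2,3,7,9,4,1,0,5,2,1,0,3,6,4,1,0,5,8,2,1,0,3,2,1,7,3,4,1,0,5,2,1,0,3,6,11,8,5,0,1,2,3,7,9,4,1,0,5,8,2,1,3,7,6,4,1,0,5,8,11,2,1,0,5,3,2,1,0,7,3,4,1,6]),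
   (1, 0, [1,4,7,3,5,0,1,2,8,5,0,1,4,6,3,1,2,5,0,1,4,9,7,3,2,1,0,5,8,11,4,6,7,3,2,0,1,4,7,0,1,2,3,5,0,1,2,8,5,0,1,4,6,4,7,2,3,1,2,0,1,4,9,7,3,2,1,0,5,8,10,4,6,1,4,7,3,2,1,5,0,8,5,11,8,10,11,10,11,10,8,11,5,8,0,5,1,2,3,7,4,1,6,4,5,0,1,2,8,5,0,1,4,6,1,2,5,0,1,4,3,7,1,2,3,0,1,2,5,0,1,4,6,2,3,0,1,2,5,0,1,4,9,7,3,2,1,0,5,11,8,10,11,10,11,10,8,11,5,0,1,2,3,7,9,4,1,0,5,2,1,0,3,2,6,4,1,0,5,2,1,0,3,2,1,7,3,4,1,0,5,2,1,6,4,1,0,5,8,2,1,0,5,7,3,2,1,0,8,5,11,8,10,11,10,11,10,8,11,5,8,0,1,2,3,7,8,5,0,1,2,3,7,9,4,1,0,5,2,1,3,6,4,1,0,5,8,2,1,0,5,3,2,1,4,1,2,3,6,4,1,0,11,10,8,5,0,1,2,3,7,9,4,1,0,5,2,1,0,3,2,6,4,1,0,5,2,1,0,3,2,7,3,4,1,0,2,1]),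
   (1, 0, [1,4,7,3,5,0,1,2,8,5,0,1,4,6,3,1,2,5,0,1,4,9,7,3,2,1,0,5,8,11,4,6,7,3,2,0,1,4,7,0,1,2,3,5,0,1,2,8,5,0,1,4,6,4,7,2,3,1,2,0,1,4,9,7,3,2,1,0,5,8,10,6,1,4,7,3,2,1,0,8,5,11,8,10,11,10,11,10,8,11,5,8,0,1,2,3,7,4,1,6,8,5,0,1,4,6,4,1,2,5,0,1,4,2,3,7,1,2,3,0,1,2,5,0,1,4,6,3,1,2,5,0,1,4,9,7,3,2,1,0,5,11,8,10,11,10,11,10,8,11,5,0,1,2,3,7,9,4,1,0,5,2,1,3,6,4,1,0,5,2,1,0,3,2,1,7,3,2,4,1,0,5,2,1,4,6,4,1,0,5,8,2,0,1,5,0,8,5,11,8,10,11,10,11,10,8,11,5,8,0,5,1,0,2,10,8,5,0,1,2,3,7,9,4,1,0,5,2,3,7,6,4,1,0,5,8,2,1,0,5,3,2,7,3,4,1,0,5,2,1,0,3,6,4,1,0,11,10,8,5,0,1,2,3,7,4,1,0,5,2,1,0,3,2,1,6,4,1,0,5,2,1,0,3,4,1,6,4]),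
   (0, 1300, []),
   (0, 1296, []),
   (0, 17, []),
   (0, 70, []),
   (0, 705, []),
   (0, 1900, []),
   (0, 1757, []),
   (0, 119, []),
   (0, 2460, []),
   (0, 70, []),
   (0, 1300, []),
   (0, 45, []),
   (0, 696, []),
   (0, 833, []),
   (0, 70, []),
   (0, 696, []),
   (0, 621, []),
   (1, 0, [1,4,7,3,5,0,1,2,8,5,0,1,4,6,3,1,2,5,0,1,4,9,7,3,2,1,0,5,8,11,4,6,7,3,2,0,1,4,7,0,1,2,3,5,0,1,2,8,5,0,1,4,6,4,7,2,3,1,2,0,1,4,9,7,3,2,1,0,5,8,10,8,5,0,1,4,6,7,3,2,0,1,4,3,7,2,3,0,1,2,5,0,1,4,6,7,3,1,2,5,0,1,4,9,7,3,2,1,0,5,11,8,10,11,10,11,10,8,11,5,0,1,2,3,7,9,4,1,0,5,2,1,3,7,6,4,1,0,5,2,1,0,3,2,7,3,4,1,0,2,3,7,6,4,1,0,5,8,3,2,8,5,0,1,4,6,3,1,2,0,1,4,9,3,7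,2,3,0,1,2,5,0,1,4,6,7,3,0,1,2,5,0,1,4,9,7,3,2,1,0,5,11,8,10,11,10,11,10,8,11,5,0,1,2,3,7,9,4,1,0,5,2,1,0,3,7,6,4,1,0,5,2,1,0,3,2,7,3,9,4,1,0,2,1,3,6,4,1,0,5,8,2,3,8,5,0,1,4,6,2,1,4,3,7,1,2,3,0,1,2,5,0,1,4,6,7,3,1,2,11,8,5,0,1,4,9,7,3,2,1,0,5,8,11,10,11,8,5,0,1,2,3,7,9,4,1,0,5,8,11,2,1,3,7,6,4,1,0,5,2,1,0,3,2,1,7,3,4,1,2,6,4,1,0,5,8,10,8,5,0,1,2,3,7,9,4,1,0,5,2,1,6,4,1,0,5,8,2,1,0,5,3,2,1,0,4,1,0,5,6,4,1,0,11,8,5,0,1,2,3,7,9,4,1,0,5,2,1,3,4,6,4,1,0,5,8,2,1,0,5,3,2,4,1,0,2,1]),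
   (1, 0, [1,4,7,3,5,0,1,2,8,5,0,1,4,6,3,1,2,5,0,1,4,9,7,3,2,1,0,5,8,11,4,6,7,3,2,0,1,4,7,0,1,2,3,5,0,1,2,8,5,0,1,4,6,4,7,2,3,1,2,0,1,4,9,7,3,2,1,0,5,8,10,8,5,0,1,4,6,4,1,2,0,1,4,3,7,1,2,3,0,1,2,8,5,0,1,4,6,7,3,0,1,2,5,0,1,4,9,7,3,2,1,0,5,11,8,10,11,10,11,10,8,11,5,0,1,2,3,7,9,4,1,0,5,2,1,0,3,7,6,4,1,0,5,8,2,1,0,3,2,1,7,3,4,1,0,2,1,4,6,4,1,0,5,8,2,8,5,0,1,4,6,2,0,1,4,7,9,3,7,1,2,3,0,1,2,5,0,1,4,6,7,3,0,1,2,5,0,1,4,9,7,3,2,1,0,5,11,8,10,11,10,11,10,8,11,5,0,1,2,3,7,9,4,1,0,5,2,1,0,3,7,6,4,1,0,5,2,1,0,3,2,1,7,3,9,7,4,1,0,2,6,4,1,0,5,8,2,6,4,1,0,8,5,11,8,10,11,10,11,10,8,11,5,8,0,1,4,6,10,8,5,0,1,2,3,7,9,4,1,2,3,7,6,4,1,0,5,2,1,0,3,4,1,2,3,7,11,8,5,0,1,2,3,7,9,4,1,0,5,2,1,0,3,7,6,4,1,0,5,8,2,1,0,5,3,2,1,0,7,3,2,4,1,0,5,8,2,6,4]),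
   (1, 0, [1,4,7,3,5,0,1,2,8,5,0,1,4,6,3,1,2,5,0,1,4,9,7,3,2,1,0,5,8,11,4,6,7,3,2,0,1,4,7,0,1,2,3,5,0,1,2,8,5,0,1,4,6,4,7,2,3,1,2,0,1,4,9,7,3,2,1,0,5,8,10,2,0,1,4,6,2,0,1,4,7,3,2,1,0,8,5,11,8,10,11,10,11,10,8,11,5,8,0,1,2,3,7,4,1,0,2,6,4,1,0,2,5,0,1,4,6,2,0,1,4,7,3,2,1,0,8,5,11,8,10,11,10,11,10,8,11,5,8,0,1,2,3,7,4,1,0,2,6,4,1,0,5,3,2,0,1,5,0,8,5,11,8,10,11,10,11,10,8,11,5,8,0,5,1,0,2,3,10,8,5,0,1,2,3,7,9,4,1,0,5,2,1,3,6,4,1,0,5,2,1,0,3,7,4,1,2,6,11,10,8,5,0,1,2,3,7,9,4,1,0,5,8,2,1,3,2,6,4,1,0,5,8,2,1,0,3,2,1,7,3,4,1,0,2,6,4,1,0,2,3]),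
   (1, 1, [1,4,6,0,1,4,7,0,1,2,3,5,0,1,2,8,5,0,1,4,6,3,0,1,2,5,0,1,4,9,7,3,2,1,0,5,8,11,3,2,1,4,6,0,1,4,2,3,1,2,8,5,0,1,4,6,4,7,3,1,2,5,0,1,4,9,7,3,2,4,6,2,1,4,3,7,1,2,3,0,1,2,5,0,1,4,6,3,0,1,2,5,0,1,4,9,7,3,2,1,0,5,11,8,10,11,10,11,10,8,11,5,0,1,2,3,7,9,4,1,0,5,2,1,0,3,6,4,1,0,5,2,1,0,3,2,1,7,3,4,1,2,6,4,1,0,5,8,6,4,1,2,8,5,0,1,4,6,4,3,1,2,0,1,4,3,7,2,3,0,1,2,5,0,1,4,6,3,0,1,2,5,0,1,4,9,7,3,2,1,0,5,11,8,10,11,10,11,10,8,11,5,0,1,2,3,7,9,4,1,0,5,2,1,0,3,6,4,1,0,5,2,1,0,3,2,7,3,4,1,0,2,1,3,4,6,4,1,0,5,8,2,1,4,2,0,1,4,7,3,2,1,0,8,5,11,8,10,11,10,11,10,8,11,5,8,0,1,2,3,7,4,1,0,2,6,10,8,5,0,1,2,3,7,9,4,1,0,5,2,1,3,7,6,4,1,0,5,8,2,1,0,3,7,9,4,1,2,6,4,11,8,5,0,1,2,3,7,9,4,1,0,5,2,1,3,2,6,4,1,0,5,8,11,10,2,1,0,3,2,7,4,1,0,5,8,2,3,6,4,1,2]),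
   (1, 0, [1,4,7,3,5,0,1,2,8,5,0,1,4,6,3,1,2,5,0,1,4,9,7,3,2,1,0,5,8,11,4,6,7,3,2,0,1,4,7,0,1,2,3,5,0,1,2,8,5,0,1,4,6,4,7,2,3,1,2,0,1,4,9,7,3,2,1,0,5,8,10,0,1,4,6,4,7,3,1,2,0,1,4,9,7,3,2,1,0,8,5,11,8,10,11,10,11,10,8,11,5,8,0,1,2,3,7,9,4,1,0,2,1,3,7,4,6,4,1,0,8,5,0,1,4,6,3,2,1,4,2,3,7,1,2,3,0,1,2,5,0,1,4,6,3,1,2,5,0,1,4,9,7,3,2,1,0,5,11,8,10,11,10,11,10,8,11,5,0,1,2,3,7,9,4,1,0,5,2,1,3,6,4,1,0,5,2,1,0,3,2,1,7,3,2,4,1,2,3,6,4,1,0,5,8,10,8,5,0,1,2,3,7,9,4,1,0,5,2,1,6,4,1,0,5,8,2,1,0,5,3,2,1,0,7,3,2,1,4,1,0,5,2,3,6,4,1,11,8,5,0,1,2,3,7,9,4,1,0,5,8,2,1,3,6,4,1,0,5,8,11,2,1,0,5,3,2,7,3,4,1,2,6,4,1]),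
   (1, 1, [1,4,6,0,1,4,7,0,1,2,3,5,0,1,2,8,5,0,1,4,6,3,0,1,2,5,0,1,4,9,7,3,2,1,0,5,8,11,3,2,1,4,6,0,1,4,2,3,1,2,8,5,0,1,4,6,4,7,3,1,2,5,0,1,4,9,7,3,2,1,0,5,8,4,2,3,1,2,0,1,4,6,7,3,1,2,0,1,4,9,7,3,2,1,0,8,5,11,8,10,11,10,11,10,8,11,5,8,0,1,2,3,7,9,4,1,0,2,1,3,7,6,4,1,0,2,1,3,2,4,8,5,0,1,4,6,0,1,2,8,5,0,1,4,3,7,2,3,0,1,2,5,0,1,4,6,3,0,1,2,5,0,1,4,9,7,3,2,1,0,5,11,8,10,11,10,11,10,8,11,5,0,1,2,3,7,9,4,1,0,5,2,1,0,3,6,4,1,0,5,2,1,0,3,2,7,3,4,1,0,5,8,2,1,0,6,4,1,0,5,8,0,1,4,2,1,0,8,5,11,8,10,11,10,11,10,8,11,5,8,0,1,2,4,1,0,10,8,5,0,1,2,3,7,9,4,1,0,5,2,1,0,3,6,4,1,0,5,8,2,1,0,5,3,2,1,0,7,3,4,1,0,5,8,2,3,6,11,8,5,0,1,2,3,7,9,4,1,0,5,2,3,7,6,4,1,0,5,2,1,3,2,7,3,4,1,2,6]),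
   (1, 0, [1,4,7,3,5,0,1,2,8,5,0,1,4,6,3,1,2,5,0,1,4,9,7,3,2,1,0,5,8,11,4,6,7,3,2,0,1,4,7,0,1,2,3,5,0,1,2,8,5,0,1,4,6,4,7,2,3,1,2,0,1,4,9,7,3,2,1,0,5,8,10,8,5,0,1,4,6,4,1,2,8,5,0,1,4,3,7,2,3,0,1,2,5,0,1,4,6,7,3,0,1,2,5,0,1,4,9,7,3,2,1,0,5,11,8,10,11,10,11,10,8,11,5,0,1,2,3,7,9,4,1,0,5,2,1,0,3,7,6,4,1,0,5,2,1,0,3,2,7,3,4,1,0,5,8,2,1,4,1,2,5,0,1,4,3,7,1,2,3,0,1,2,5,0,1,4,6,7,3,1,2,5,0,1,4,9,7,3,2,1,0,5,11,8,10,11,10,11,10,8,11,5,0,1,2,3,7,9,4,1,0,5,2,1,3,7,6,4,1,0,5,2,1,0,3,2,1,7,3,4,1,0,5,2,1,6,4,1,0,5,8,0,1,4,2,1,0,8,5,11,8,10,11,10,11,10,8,11,5,8,0,1,2,4,1,0,8,5,0,1,2,3,7,9,4,1,0,5,2,1,0,3,2,6,4,1,0,5,8,2,1,0,5,3,2,1,0,7,4,1,0,5,8,6,4,11,8,5,0,1,2,3,7,9,4,1,0,5,2,1,0,3,7,6,4,1,0,5,8,2,1,0,3,2,1,7,3,4,1,0,5,2,1,4,6,4,1,2,3]),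
   (1, 1, [1,4,6,0,1,4,7,0,1,2,3,5,0,1,2,8,5,0,1,4,6,3,0,1,2,5,0,1,4,9,7,3,2,1,0,5,8,11,3,2,1,4,6,0,1,4,2,3,1,2,8,5,0,1,4,6,4,7,3,1,2,5,0,1,4,9,7,3,2,4,6,3,2,1,4,3,7,2,3,0,1,2,5,0,1,4,6,2,3,1,2,11,8,5,0,1,4,9,7,3,2,1,0,5,8,11,10,11,8,5,0,1,2,3,7,9,4,1,0,5,8,11,2,1,3,2,6,4,1,0,5,2,1,0,3,2,7,3,4,1,2,3,2,5,0,1,4,9,3,7,1,2,3,0,1,2,5,0,1,4,6,4,7,2,3,1,2,5,0,1,4,9,7,3,2,1,0,5,11,8,10,11,10,11,10,8,11,5,0,1,2,3,7,9,4,1,0,5,2,1,3,2,7,4,6,4,1,0,5,2,1,0,3,2,1,7,3,9,4,1,0,5,2,6,4,1,0,5,8,1,4,2,1,5,0,8,5,11,8,10,11,10,11,10,8,11,5,8,0,5,1,2,4,1,10,8,5,0,1,2,3,7,9,4,1,0,5,2,3,6,4,1,0,5,2,1,0,3,2,7,3,4,1,0,5,8,2,1,3,7,4,6,4,11,8,5,0,1,2,3,7,9,4,1,0,5,2,1,0,3,7,6,4,1,0,5,8,2,1,0,5,3,2,7,3,4,1,0,2,1,3,7,6]),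
   (1, 1, [1,4,6,0,1,4,7,0,1,2,3,5,0,1,2,8,5,0,1,4,6,3,0,1,2,5,0,1,4,9,7,3,2,1,0,5,8,11,3,2,1,4,6,0,1,4,2,3,1,2,8,5,0,1,4,6,4,7,3,1,2,5,0,1,4,9,7,3,2,1,0,5,8,2,8,5,0,1,4,6,3,2,1,4,2,3,7,1,2,3,0,1,2,5,0,1,4,6,3,0,1,2,5,0,1,4,9,7,3,2,1,0,5,11,8,10,11,10,11,10,8,11,5,0,1,2,3,7,9,4,1,0,5,2,1,0,3,6,4,1,0,5,2,1,0,3,2,1,7,3,2,4,1,2,3,7,3,1,2,0,1,4,3,7,2,3,0,1,2,5,0,1,4,6,7,3,0,1,2,5,0,1,4,9,7,3,2,1,0,5,11,8,10,11,10,11,10,8,11,5,0,1,2,3,7,9,4,1,0,5,2,1,0,3,7,6,4,1,0,5,2,1,0,3,2,7,3,4,1,0,2,1,3,7,6,4,1,0,5,8,2,8,5,0,1,4,6,2,5,0,1,4,2,3,7,1,2,3,0,1,2,5,0,1,4,6,3,0,1,2,5,0,1,4,9,7,3,2,1,0,5,11,8,10,11,10,11,10,8,11,5,0,1,2,3,7,9,4,1,0,5,2,1,0,3,6,4,1,0,5,2,1,0,3,2,1,7,3,2,4,1,0,5,2,6,4,1,0,5,8,10,8,5,0,1,2,3,7,9,4,1,0,5,2,1,0,3,2,6,4,1,0,5,8,2,1,0,5,3,2,1,7,3,4,1,0,2,1,3,2,4,1,11,8,5,0,1,2,3,7,9,4,1,0,5,2,6,4,1,0,5,2,1,3,2,7,3,4,1,0,5,8]),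
   (0, 199, [])]

/-- the witnesses -/
def leafWit : List (ℕ × ℕ × List ℕ) :=
  List.flatten [wit0,wit1,wit2,wit3,wit4,wit5,wit6,wit7]

end H49.Order3.Fi24
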